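import Mathlib.GroupTheory.Subgroup.Centralizer
import Mathlib.GroupTheory.OrderOfElement
import Mathlib.Algebra.Group.Conj
import Mathlib.SetTheory.Cardinal.Finite

/-! The local data used to identify a group of order 10200960 with M23. -/

set_option autoImplicit false

namespace H91.M23R

/-- Local data shared by the groups of order 10200960 to be identified with M23. -/
structure Loc (G : Type*) [Group G] : Prop where
  card : Nat.card G = 10200960
  conj2 : ∀ s t : G, orderOf s = 2 → orderOf t = 2 → IsConj s t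
  cent2 : ∀ t : G, orderOf t = 2 → Nat.card (Subgroup.centralizer ({t} : Set G)) = 2688
  cent3 : ∀ x : G, orderOf x = 3 → 180 ≤ Nat.card (Subgroup.centralizer ({x} : Set G))
  cent5 : ∀ z : G, orderOf z = 5 → Nat.card (Subgroup.centralizer ({z} : Set G)) = 15
  norm5 : ∀ z : G, orderOf z = 5 →
    Nat.card (Subgroup.normalizer (Subgroup.zpowers z : Set G)) = 60
  cent7 : ∀ w : G, orderOf w = 7 → Nat.card (Subgroup.centralizer ({w} : Set G)) = 14
  norm7 : ∀ w : G, orderOf w = 7 →
    Nat.card (Subgroup.normalizer (Subgroup.zpowers w : Set G)) = 42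
  three_in : ∀ t : G, orderOf t = 2 →
    Nat.card {x : G // orderOf x = 3 ∧ Commute x t} = 224
  roots : ∀ t : G, orderOf t = 2 → Nat.card {g : G // t ∈ Subgroup.zpowers g} = 1029

/-- The eleven values of the numbers of elements of a given order in M23. -/
def nseM23 : Set ℕ :=
  {1, 3795, 56672, 318780, 680064, 850080, 1457280, 1275120, 1854720, 1360128, 887040}

/-- The sixteen-group whose conjugates are the 253 blocks. -/
structure Hep (G : Type*) [Group G] where
  E : Subgroup G
  card_E : Nat.card E = 16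
  sq : ∀ e ∈ E, e * e = 1
  self : Subgroup.centralizer (E : Set G) ≤ E
  card_N : Nat.card (Subgroup.normalizer (E : Set G)) = 40320
  trans : ∀ u ∈ E, ∀ v ∈ E, u ≠ 1 → v ≠ 1 →
    ∃ n ∈ Subgroup.normalizer (E : Set G), n * u * n⁻¹ = v
  cent : ∀ v ∈ E, v ≠ 1 → Subgroup.centralizer ({v} : Set G) ≤ Subgroup.normalizer (E : Set G)
  ti : ∀ g : G, ∀ v ∈ E, v ≠ 1 → g * v * g⁻¹ ∈ E → g ∈ Subgroup.normalizer (E : Set G)

end H91.M23R
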