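import Cfsg.Agent.H78.M22R.Tools
import Mathlib.GroupTheory.Perm.Cycle.Type

/-! General counting lemmas for the local analysis of M23. -/

set_option autoImplicit false

namespace H91.M23R

open Subgroup H78.M22R

variable {G : Type*} [Group G]

/-- `C` acts on `L` by conjugation. -/
def Nrm (C L : Subgroup G) : Prop := ∀ c ∈ C, ∀ l ∈ L, c * l * c⁻¹ ∈ L

theorem Nrm.le_normalizer [Finite G] {C L : Subgroup G} (h : Nrm C L) :
    C ≤ normalizer (L : Set G) := by
  intro c hc
  rw [Subgroup.mem_normalizer_iff]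
  intro l
  refine ⟨fun hl => h c hc l hl, fun hl => ?_⟩
  have h2 := h c⁻¹ (inv_mem hc) _ hl
  simpa [mul_assoc] using h2

theorem Nrm.inf {C L L' : Subgroup G} (h : Nrm C L) (h' : Nrm C L') : Nrm C (L ⊓ L') :=
  fun c hc l hl => ⟨h c hc l hl.1, h' c hc l hl.2⟩

theorem Nrm.mono {C C' L : Subgroup G} (h : Nrm C L) (hle : C' ≤ C) : Nrm C' L :=
  fun c hc => h c (hle hc)

theorem Nrm.sup {C L L' : Subgroup G} (h : Nrm C L) (h' : Nrm C L') : Nrm C (L ⊔ L') := by
  intro c hc l hl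
  have h2 : L ⊔ L' ≤ (L ⊔ L').comap (MulAut.conj c).toMonoidHom :=
    sup_le (fun a ha => mem_sup_left (h c hc a ha)) (fun a ha => mem_sup_right (h' c hc a ha))
  exact h2 hl

theorem nrm_self (C : Subgroup G) : Nrm C C :=
  fun _ hc _ hl => C.mul_mem (C.mul_mem hc hl) (C.inv_mem hc)

theorem nrm_zpowers {C : Subgroup G} {t : G} (h : ∀ c ∈ C, Commute c t) :
    Nrm C (zpowers t) := by
  intro c hc l hl
  obtain ⟨n, rfl⟩ := mem_zpowers_iff.1 hl
  have h2 : c * t ^ n * c⁻¹ = t ^ n := by rw [((h c hc).zpow_right n).eq, mul_inv_cancel_right]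
  rw [h2]
  exact zpow_mem_zpowers t n

variable [Finite G]

/-- Fixed points of an element of prime order on a subgroup it normalises. -/
theorem card_fix_modEq {p : ℕ} [Fact p.Prime] {g : G} (hg : g ^ p = 1) (A : Subgroup G)
    (hn : ∀ a ∈ A, g * a * g⁻¹ ∈ A) :
    Nat.card A ≡ Nat.card {a : G // a ∈ A ∧ Commute g a} [MOD p] := by
  classical
  haveI := Fintype.ofFinite A
  let f : Function.End A := fun a => ⟨g * a * g⁻¹, hn _ a.2⟩
  have hit : ∀ (n : ℕ) (a : A), (((f ^ n) a : A) : G) = g ^ n * a * (g ^ n)⁻¹ := by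
    intro n
    induction n with
    | zero =>
      intro a
      rw [pow_zero, pow_zero, one_mul, inv_one, mul_one]
      rfl
    | succ n ih =>
      intro a
      rw [pow_succ' f]
      show g * (((f ^ n) a : A) : G) * g⁻¹ = _
      rw [ih a, pow_succ' g, mul_inv_rev]
      simp only [mul_assoc]
  have hf : f ^ p ^ 1 = 1 := by
    funext a
    apply Subtype.ext
    rw [hit, pow_one, hg, one_mul, inv_one, mul_one]
    rfl
  have h := Equiv.Perm.card_fixedPoints_modEq hf
  rw [← Nat.card_eq_fintype_card, ← Nat.card_eq_fintype_card] at h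
  refine h.trans ?_
  rw [Nat.card_congr (β := {a : G // a ∈ A ∧ Commute g a})]
  refine ⟨fun a => ⟨(a.1 : G), a.1.2, ?_⟩, fun a => ⟨⟨a.1, a.2.1⟩, ?_⟩, fun a => rfl, fun a => rfl⟩
  · have ha : g * (a.1 : G) * g⁻¹ = (a.1 : G) := congrArg Subtype.val a.2
    exact mul_inv_eq_iff_eq_mul.1 ha
  · apply Subtype.ext
    show g * a.1 * g⁻¹ = a.1
    rw [a.2.2.eq, mul_inv_cancel_right]

/-- If two cosets of `A` cover `E`, then `E` is at most twice as large. -/
theorem card_le_two_mul {E A : Subgroup G} {g : G}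
    (h : ∀ y ∈ E, y ∈ A ∨ g⁻¹ * y ∈ A) : Nat.card E ≤ 2 * Nat.card A := by
  classical
  have h2 : Nat.card E ≤ Nat.card (A × Bool) := Nat.card_le_card_of_injective
    (fun y => if hy : (y : G) ∈ A then (⟨y, hy⟩, true)
      else (⟨g⁻¹ * y, (h y y.2).resolve_left hy⟩, false)) (by
      intro y z hyz
      simp only at hyz
      apply Subtype.ext
      by_cases hy : (y : G) ∈ A <;> by_cases hz : (z : G) ∈ A
      · rw [dif_pos hy, dif_pos hz] at hyz
        exact congrArg (fun q : A × Bool => (q.1 : G)) hyz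
      · rw [dif_pos hy, dif_neg hz] at hyz
        exact absurd (congrArg Prod.snd hyz) (by simp)
      · rw [dif_neg hy, dif_pos hz] at hyz
        exact absurd (congrArg Prod.snd hyz) (by simp)
      · rw [dif_neg hy, dif_neg hz] at hyz
        exact mul_left_cancel (congrArg (fun q : A × Bool => (q.1 : G)) hyz))
  rw [Nat.card_prod, Nat.card_eq_fintype_card (α := Bool), Fintype.card_bool] at h2
  omega

theorem factorization_one {p n : ℕ} (hp : p.Prime) (hn : n ≠ 0) (h1 : p ∣ n)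
    (h2 : ¬ p ^ 2 ∣ n) : n.factorization p = 1 := by
  rw [hp.pow_dvd_iff_le_factorization hn] at h2
  have := hp.factorization_pos_of_dvd hn h1
  omega

/-- Elements of prime order `p`, `p² ∤ |S|`, are conjugate in `S` to powers of one of them. -/
theorem conj_gen {p : ℕ} [hp : Fact p.Prime] (S : Subgroup G) {w g : G} (hwS : w ∈ S)
    (hgS : g ∈ S) (hw : orderOf w = p) (hg : orderOf g = p) (h2 : ¬ p ^ 2 ∣ Nat.card S) :
    ∃ s ∈ S, ∃ j, 0 < j ∧ j < p ∧ g = s * w ^ j * s⁻¹ := by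
  have hcard : ∀ (u : G) (hu : u ∈ S), orderOf u = p →
      Nat.card (zpowers (⟨u, hu⟩ : S)) = p ^ (Nat.card S).factorization p := by
    intro u hu ho
    have ho' : orderOf (⟨u, hu⟩ : S) = p := (Subgroup.orderOf_mk _ _).trans ho
    have hd : p ∣ Nat.card S := ho' ▸ orderOf_dvd_natCard _
    rw [Nat.card_zpowers, ho', factorization_one hp.out Nat.card_pos.ne' hd h2, pow_one]
  obtain ⟨k, hk⟩ := MulAction.exists_smul_eq S (Sylow.ofCard _ (hcard w hwS hw))
    (Sylow.ofCard _ (hcard g hgS hg))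
  have hgm : (⟨g, hgS⟩ : S) ∈ ((k • Sylow.ofCard _ (hcard w hwS hw) : Sylow p S) : Subgroup S) := by
    rw [hk]
    exact mem_zpowers _
  rw [Sylow.coe_subgroup_smul] at hgm
  obtain ⟨a, ha, hae⟩ := hgm
  obtain ⟨n, hn⟩ := Subgroup.mem_zpowers_iff.1 ha
  have hge : g = (k : G) * w ^ n * (k : G)⁻¹ := by
    have := congrArg Subtype.val hae
    rw [← hn] at this
    simpa using this.symm
  have hpos : (0 : ℤ) < (p : ℤ) := by exact_mod_cast hp.out.pos
  obtain ⟨j, hj⟩ := Int.eq_ofNat_of_zero_le (Int.emod_nonneg n hpos.ne')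
  have hwj : w ^ n = w ^ j := by
    rw [← zpow_mod_orderOf, hw, hj]
    exact zpow_natCast w j
  refine ⟨k, k.2, j, ?_, ?_, by rw [← hwj]; exact hge⟩
  · refine Nat.pos_of_ne_zero fun h => ?_
    rw [hwj, h, pow_zero, mul_one, mul_inv_cancel] at hge
    rw [hge, orderOf_one] at hg
    exact hp.out.one_lt.ne hg
  · have := Int.emod_lt_of_pos n hpos
    rw [hj] at this
    exact_mod_cast this

/-- The number of elements of order `p` in `S`. -/
theorem count_order_prime {p : ℕ} [hp : Fact p.Prime] (S : Subgroup G) {w : G} (hwS : w ∈ S)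
    (hw : orderOf w = p) (h2 : ¬ p ^ 2 ∣ Nat.card S) :
    Nat.card {g : G // orderOf g = p ∧ g ∈ S} *
      Nat.card (normalizer (zpowers w : Set G) ⊓ S : Subgroup G) = (p - 1) * Nat.card S := by
  classical
  have hwp : w ^ p = 1 := by rw [← hw]; exact pow_orderOf_eq_one w
  set N := normalizer (zpowers w : Set G) ⊓ S with hN
  let J := {j : ℕ // 0 < j ∧ j < p}
  have hJe : Finite J := Finite.of_injective (fun j : J => (⟨j.1, j.2.2⟩ : Fin p))
    (fun a b e => Subtype.ext (Fin.mk.inj e))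
  have hcop : ∀ j : J, orderOf (w ^ j.1) = p := fun j => by
    refine orderOf_eq_prime ?_ ?_
    · rw [← pow_mul, mul_comm, pow_mul, hwp, one_pow]
    · intro h
      have := orderOf_dvd_of_pow_eq_one h
      rw [hw] at this
      exact absurd (Nat.le_of_dvd j.2.1 this) (not_le.2 j.2.2)
  let f : S × J → {g : G // orderOf g = p ∧ g ∈ S} := fun q =>
    ⟨(q.1 : G) * w ^ q.2.1 * (q.1 : G)⁻¹, by rw [orderOf_conj', hcop],
      mul_mem (mul_mem q.1.2 (pow_mem hwS _)) (inv_mem q.1.2)⟩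
  have hsurj : Function.Surjective f := by
    intro g
    obtain ⟨s, hs, j, hj0, hjp, he⟩ := conj_gen S hwS g.2.2 hw g.2.1 h2
    exact ⟨(⟨s, hs⟩, ⟨j, hj0, hjp⟩), Subtype.ext he.symm⟩
  have hfib : ∀ g, Nat.card {q : S × J // f q = g} = Nat.card N := by
    intro g
    obtain ⟨q0, hq0⟩ := hsurj g
    have hconj : ∀ q : S × J, f q = g →
        ((q0.1 : G)⁻¹ * q.1) * w ^ q.2.1 * ((q0.1 : G)⁻¹ * q.1)⁻¹ = w ^ q0.2.1 := by
      intro q hq
      have e : (q.1 : G) * w ^ q.2.1 * (q.1 : G)⁻¹ = q0.1 * w ^ q0.2.1 * (q0.1 : G)⁻¹ :=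
        congrArg Subtype.val (hq.trans hq0.symm)
      calc _ = (q0.1 : G)⁻¹ * ((q.1 : G) * w ^ q.2.1 * (q.1 : G)⁻¹) * q0.1 := by group
        _ = _ := by rw [e]; group
    have hgen : ∀ j : J, zpowers (w ^ j.1) = zpowers w := fun j => by
      refine Subgroup.eq_of_le_of_card_ge (zpowers_le.2 (pow_mem (mem_zpowers w) _)) ?_
      rw [Nat.card_zpowers, Nat.card_zpowers, hcop, hw]
    have hmem : ∀ q : S × J, f q = g → (q0.1 : G)⁻¹ * q.1 ∈ N := by
      intro q hq
      refine Subgroup.mem_inf.2 ⟨?_, S.mul_mem (S.inv_mem q0.1.2) q.1.2⟩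
      have hle : zpowers w ≤ (zpowers w).comap
          (MulAut.conj ((q0.1 : G)⁻¹ * q.1)).toMonoidHom := by
        conv_lhs => rw [← hgen q.2]
        rw [zpowers_le]
        show ((q0.1 : G)⁻¹ * q.1) * w ^ q.2.1 * ((q0.1 : G)⁻¹ * q.1)⁻¹ ∈ zpowers w
        rw [hconj q hq]
        exact pow_mem (mem_zpowers w) _
      rw [Subgroup.mem_normalizer_iff]
      have heq : (zpowers w).comap (MulAut.conj ((q0.1 : G)⁻¹ * q.1)).toMonoidHom = zpowers w :=
        (Subgroup.eq_of_le_of_card_ge hle (le_of_eq (Nat.card_congr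
          ((MulAut.conj ((q0.1 : G)⁻¹ * q.1)).toEquiv.subtypeEquiv fun _ => Iff.rfl)))).symm
      intro l
      constructor
      · intro hl
        rw [← heq] at hl
        exact hl
      · intro hl
        rw [← heq]
        exact hl
    refine Nat.card_eq_of_bijective (fun q => (⟨_, hmem q.1 q.2⟩ : N)) ⟨?_, ?_⟩
    · intro q r e
      have e' : (q.1.1 : G) = r.1.1 := mul_left_cancel (congrArg Subtype.val e)
      have hq := congrArg Subtype.val (q.2.trans r.2.symm)
      have hq' : (q.1.1 : G) * w ^ q.1.2.1 * (q.1.1 : G)⁻¹ = r.1.1 * w ^ r.1.2.1 * (r.1.1 : G)⁻¹ := hq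
      rw [← e', mul_left_inj, mul_right_inj] at hq'
      have hj : q.1.2.1 = r.1.2.1 := by
        refine pow_injOn_Iio_orderOf ?_ ?_ hq'
        · rw [Set.mem_Iio, hw]; exact q.1.2.2.2
        · rw [Set.mem_Iio, hw]; exact r.1.2.2.2
      exact Subtype.ext (Prod.ext (Subtype.ext e') (Subtype.ext hj))
    · intro n
      have hn : (n : G) ∈ normalizer (zpowers w : Set G) := n.2.1
      have hm : (n : G)⁻¹ * w ^ q0.2.1 * ((n : G)⁻¹)⁻¹ ∈ zpowers w :=
        (Subgroup.mem_normalizer_iff.1 (inv_mem hn) _).1 (pow_mem (mem_zpowers w) _)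
      rw [inv_inv] at hm
      obtain ⟨j, hj, he⟩ : ∃ j, j < p ∧ w ^ j = (n : G)⁻¹ * w ^ q0.2.1 * n := by
        rw [mem_zpowers_iff_mem_range_orderOf, hw] at hm
        simpa using hm
      have hj0 : 0 < j := Nat.pos_of_ne_zero fun h => by
        rw [h, pow_zero] at he
        have h1 : w ^ q0.2.1 = 1 := by
          calc w ^ q0.2.1 = (n : G) * ((n : G)⁻¹ * w ^ q0.2.1 * n) * (n : G)⁻¹ := by group
            _ = 1 := by rw [← he]; group
        have := hcop q0.2
        rw [h1, orderOf_one] at this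
        exact hp.out.one_lt.ne this
      refine ⟨⟨(⟨q0.1 * n, mul_mem q0.1.2 n.2.2⟩, ⟨j, hj0, hj⟩), ?_⟩, ?_⟩
      · rw [← hq0]
        apply Subtype.ext
        show ((q0.1 : G) * n) * w ^ j * ((q0.1 : G) * n)⁻¹ = q0.1 * w ^ q0.2.1 * (q0.1 : G)⁻¹
        rw [he]
        group
      · apply Subtype.ext
        show (q0.1 : G)⁻¹ * (q0.1 * n) = n
        rw [inv_mul_cancel_left]
  have htot : Nat.card (S × J) = Nat.card {g : G // orderOf g = p ∧ g ∈ S} * Nat.card N := by
    rw [← Nat.card_congr (Equiv.sigmaFiberEquiv f)]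
    have := Fintype.ofFinite {g : G // orderOf g = p ∧ g ∈ S}
    rw [Nat.card_sigma, Finset.sum_congr rfl fun g _ => hfib g, Finset.sum_const,
      Finset.card_univ, smul_eq_mul, Nat.card_eq_fintype_card (α := {g : G // orderOf g = p ∧ g ∈ S})]
  have hJc : Nat.card J = p - 1 := by
    have e : J ≃ Fin (p - 1) :=
      { toFun := fun j => ⟨j.1 - 1, by have := j.2; omega⟩
        invFun := fun i => ⟨i.1 + 1, Nat.succ_pos _, by have := i.2; omega⟩
        left_inv := fun j => Subtype.ext (show j.1 - 1 + 1 = j.1 by have := j.2; omega)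
        right_inv := fun i => Fin.ext (show i.1 + 1 - 1 = i.1 by omega) }
    rw [Nat.card_congr e, Nat.card_fin]
  rw [← htot, Nat.card_prod, hJc, mul_comm]

end H91.M23R
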