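import Cfsg.Agent.H91.M23R.CentE

/-! The sixteen-group of `cz t` is elementary abelian and self-centralising. -/

set_option autoImplicit false

namespace H91.M23R

open Subgroup H78.M22R

variable {G : Type*} [Group G] [Finite G] {t : G} (L : Loc G)
include L

/-- The sixteen-group as a maximal normal subgroup. -/
theorem exists_sixteen (ht : orderOf t = 2) : ∃ E : Subgroup G, t ∈ E ∧ E ≤ cz t ∧
    Nat.card E = 16 ∧ Nrm (cz t) E ∧
    ∀ S : Subgroup G, S ≤ cz t → Nrm (cz t) S → (∀ w ∈ S, orderOf w ≠ 7) → S ≤ E := by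
  classical
  haveI := Fact.mk Nat.prime_two
  obtain ⟨R, hRM, hR2, hRn, hRc, hRmax⟩ := exists_radical L ht
  obtain ⟨hMge, hidx⟩ := index_mSub_le L ht
  obtain ⟨w, hw, hwt⟩ := exists_seven L ht
  have htc : t ∈ cz t := mem_cz.2 (Commute.refl t)
  have htz : IsPGroup 2 (zpowers t) := IsPGroup.of_card (n := 1) (by
    rw [Nat.card_zpowers, ht, pow_one])
  have hnR : zpowers t ≤ normalizer (R : Set G) := zpowers_le.2 (hRn.le_normalizer htc)
  set E := R ⊔ zpowers t with hE
  have hE2 : IsPGroup 2 E := isPGroup_sup hR2 htz hnR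
  have hEle : E ≤ cz t := sup_le (hRM.trans (mSub_le t)) (zpowers_le.2 htc)
  have hEn : Nrm (cz t) E := hRn.sup (nrm_zpowers fun c hc => mem_cz.1 hc)
  have htE : t ∈ E := mem_sup_right (mem_zpowers t)
  have hEle32 : Nat.card E ≤ 32 := by
    by_cases htR : t ∈ R
    · have hER : E = R := sup_eq_left.2 (zpowers_le.2 htR)
      rw [hER]
      omega
    · have hd : (R ⊓ zpowers t : Subgroup G) = ⊥ := by
        rw [eq_bot_iff]
        intro g hg
        obtain ⟨hgR, hgz⟩ := Subgroup.mem_inf.1 hg
        rw [mem_zpowers_iff_mem_range_orderOf, ht] at hgz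
        simp only [Finset.mem_image, Finset.mem_range] at hgz
        obtain ⟨i, hi, rfl⟩ := hgz
        interval_cases i
        · simp
        · rw [pow_one] at hgR; exact absurd hgR htR
      rw [hE, card_sup_eq hnR hd, Nat.card_zpowers, ht]
      omega
  obtain ⟨e, he⟩ := hE2.exists_card_eq
  have hfix := fix_seven L ht hE2 htE hw hwt (hEn w hwt)
  have hRle : Nat.card R ≤ Nat.card E := Subgroup.card_le_of_le le_sup_left
  have he7 := pgroup_exp_le L ht hEle he
  rw [he] at hfix hRle hEle32
  have he4 : e = 4 := by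
    rcases mod_sixteen he7 hfix with rfl | rfl | rfl <;> omega
  subst he4
  refine ⟨E, htE, hEle, he, hEn, fun S hS hSn hS7 => ?_⟩
  -- subgroups free of elements of order 7 are 2-groups
  have hS3 : ∀ x ∈ S, orderOf x ≠ 3 := by
    intro x hxS hx
    have hne : S ⊓ mSub t ≠ mSub t := fun h => by
      have hwS : w ∈ S := (h.symm ▸ (inf_le_left : S ⊓ mSub t ≤ S) : mSub t ≤ S) (mem_mSub hw hwt)
      exact hS7 w hwS hw
    have h2 := normal_two L ht inf_le_right
      ((hSn.mono (mSub_le t)).inf (nrm_self _)) hne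
    obtain ⟨k, hk⟩ := h2.exists_card_eq
    have h3d : 3 ∣ Nat.card (S ⊓ mSub t : Subgroup G) := hx ▸ Subgroup.orderOf_dvd_natCard _
      (Subgroup.mem_inf.2 ⟨hxS, three_mem_mSub L ht hx (hS hxS)⟩)
    rw [hk] at h3d
    exact absurd (Nat.prime_three.dvd_of_dvd_pow h3d) (by norm_num)
  have hS2 := isPGroup_of_free (card_dvd_cent L ht hS) hS3 hS7
  set P := E ⊔ S with hP
  have hP2 : IsPGroup 2 P :=
    isPGroup_sup hE2 hS2 (hS.trans hEn.le_normalizer)
  have hPle : P ≤ cz t := sup_le hEle hS
  have hPn : Nrm (cz t) P := hEn.sup hSn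
  obtain ⟨k, hk⟩ := hP2.exists_card_eq
  have hfixP := fix_seven L ht hP2 (mem_sup_left htE) hw hwt (hPn w hwt)
  rw [hk] at hfixP
  have hk7 := pgroup_exp_le L ht hPle hk
  have h16P : 16 ≤ Nat.card P := le_trans (le_of_eq he.symm) (Subgroup.card_le_of_le le_sup_left)
  rw [hk] at h16P
  rcases mod_sixteen hk7 hfixP with rfl | rfl | rfl
  · norm_num at h16P
  · have hEP : E = P := Subgroup.eq_of_le_of_card_ge le_sup_left (by rw [hk, he])
    rw [hEP]
    exact le_sup_right
  · exfalso
    have hPM : P ⊓ mSub t ≤ R := hRmax _ inf_le_right (hP2.to_le inf_le_left)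
      ((hPn.mono (mSub_le t)).inf (nrm_self _))
    have hR16 : Nat.card (P ⊓ mSub t : Subgroup G) ≤ 16 :=
      (Subgroup.card_le_of_le hPM).trans (by omega)
    by_cases hsub : P ≤ mSub t
    · rw [inf_eq_left.2 hsub, hk] at hR16
      norm_num at hR16
    · obtain ⟨p, hpP, hpM⟩ := SetLike.not_le_iff_exists.1 hsub
      have h2 := card_le_two_mul (E := P) (A := P ⊓ mSub t) (g := p) (fun y hy => by
        by_cases hyM : y ∈ mSub t
        · exact Or.inl ⟨hy, hyM⟩
        · exact Or.inr ⟨P.mul_mem (P.inv_mem hpP) hy, hidx p (hPle hpP) hpM y (hPle hy) hyM⟩)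
      rw [hk] at h2
      omega

/-- The sixteen-group of `cz t`. -/
theorem exists_cd (ht : orderOf t = 2) : ∃ E, Cd t E := by
  classical
  haveI := Fact.mk Nat.prime_two
  obtain ⟨E, htE, hEle, h16, hEn, hmax⟩ := exists_sixteen L ht
  obtain ⟨w, hw, hwt⟩ := exists_seven L ht
  have hE2 : IsPGroup 2 E := IsPGroup.of_card (n := 4) h16
  have fix7 : ∀ v e : G, orderOf v = 7 → v ∈ cz t → e ∈ E → Commute v e → e = 1 ∨ e = t := by
    intro v e hv hvt he hc
    obtain ⟨k, hk⟩ := hE2 ⟨e, he⟩
    exact two_in_cz_seven L ht hv hvt hc.symm k (congrArg Subtype.val hk)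
  have htw : ∀ a : G, Commute a t → Commute (w * a * w⁻¹) t := by
    intro a ha
    have h := (commute_conj_iff w a t).2 ha
    rwa [(mem_cz.1 hwt).eq, mul_inv_cancel_right] at h
  have hE1 : ∀ e ∈ E, Commute e t := fun e he => mem_cz.1 (hEle he)
  have ht2 : t * t = 1 := by rw [← pow_two, ← ht, pow_orderOf_eq_one]
  -- squares lie in ⟨t⟩
  have hsq : ∀ e ∈ E, e * e = 1 ∨ e * e = t := by
    let Φ : Subgroup G := closure (insert t {g | ∃ e ∈ E, g = e * e})
    have hΦE : Φ ≤ E := by
      rw [closure_le]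
      rintro g (rfl | ⟨e, he, rfl⟩)
      · exact htE
      · exact mul_mem he he
    obtain ⟨A0, hA0⟩ := Sylow.exists_subgroup_card_pow_prime_le (G := E) 2 (n := 1) (m := 3)
      (by rw [h16]; norm_num) (zpowers (⟨t, htE⟩ : E)) (by
        rw [Nat.card_zpowers, Subgroup.orderOf_mk, ht, pow_one]) (by norm_num)
    have hidx : A0.index = 2 := by
      have h := A0.index_mul_card
      rw [hA0.1, h16] at h
      omega
    have hΦlt : Φ ≠ E := by
      intro h
      have hle : Φ ≤ A0.map E.subtype := by
        rw [closure_le]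
        rintro g (hg | ⟨e, he, rfl⟩)
        · exact ⟨⟨t, htE⟩, hA0.2 (mem_zpowers _), hg.symm⟩
        · exact ⟨(⟨e, he⟩ : E) ^ 2, Subgroup.sq_mem_of_index_two hidx _, by simp [pow_two]⟩
      have h2 := Subgroup.card_le_of_le hle
      rw [h, h16, Subgroup.card_map_of_injective E.subtype_injective, hA0.1] at h2
      norm_num at h2
    have hn : ∀ a ∈ Φ, w * a * w⁻¹ ∈ Φ := by
      intro a ha
      have hle : Φ ≤ Φ.comap (MulAut.conj w).toMonoidHom := by
        rw [closure_le]
        rintro g (hg | ⟨e, he, rfl⟩)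
        · show w * g * w⁻¹ ∈ Φ
          rw [hg]
          rw [(mem_cz.1 hwt).eq, mul_inv_cancel_right]
          exact subset_closure (Set.mem_insert _ _)
        · exact subset_closure (Set.mem_insert_of_mem _ ⟨w * e * w⁻¹, hEn w hwt e he, by
            show w * (e * e) * w⁻¹ = _; group⟩)
      exact hle ha
    have hΦ : Nat.card Φ = 2 := (no_middle L ht h16 hΦE (subset_closure (Set.mem_insert _ _))
      hw hwt hn).resolve_right hΦlt
    have hT : zpowers t = Φ := Subgroup.eq_of_le_of_card_ge
      (zpowers_le.2 (subset_closure (Set.mem_insert _ _))) (by rw [hΦ, Nat.card_zpowers, ht])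
    intro e he
    have hm : e * e ∈ zpowers t := hT ▸ subset_closure (Set.mem_insert_of_mem _ ⟨e, he, rfl⟩)
    rw [mem_zpowers_iff_mem_range_orderOf, ht] at hm
    simp only [Finset.mem_image, Finset.mem_range] at hm
    obtain ⟨i, hi, hie⟩ := hm
    interval_cases i
    · exact Or.inl (by rw [← hie, pow_zero])
    · exact Or.inr (by rw [← hie, pow_one])
  -- commutators lie in ⟨t⟩
  have hcomm : ∀ a ∈ E, ∀ b ∈ E, a * b * a⁻¹ * b⁻¹ = 1 ∨ a * b * a⁻¹ * b⁻¹ = t := by
    intro a ha b hb
    have key : a * b * a⁻¹ * b⁻¹ = (a * b * (a * b)) * (b * b)⁻¹ * (a * a)⁻¹ := by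
      have hz : Commute b (a * a) := by
        rcases hsq a ha with h | h <;> rw [h]
        · exact Commute.one_right b
        · exact hE1 b hb
      calc a * b * a⁻¹ * b⁻¹ = a * (b * (a * a)⁻¹) * a * b⁻¹ := by group
        _ = a * ((a * a)⁻¹ * b) * a * b⁻¹ := by rw [hz.inv_right.eq]
        _ = a⁻¹ * (b * a * b⁻¹) := by group
        _ = _ := by
          have hz2 : Commute (a * b * (a * b) * (b * b)⁻¹) (a * a) := by
            rcases hsq a ha with h | h <;> rw [h]
            · exact Commute.one_right _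
            · exact hE1 _ (mul_mem (mul_mem (mul_mem ha hb) (mul_mem ha hb))
                (inv_mem (mul_mem hb hb)))
          rw [hz2.inv_right.eq]
          group
    rw [key]
    have hti : t⁻¹ = t := inv_eq_of_mul_eq_one_right ht2
    rcases hsq (a * b) (mul_mem ha hb) with h1 | h1 <;> rcases hsq b hb with h2 | h2 <;>
      rcases hsq a ha with h3 | h3 <;> rw [h1, h2, h3] <;> simp [hti, ht2]
  -- E is abelian
  have habel : ∀ a ∈ E, ∀ b ∈ E, Commute a b := by
    let Z := E ⊓ centralizer (E : Set G)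
    have hZmem : ∀ z, z ∈ Z ↔ z ∈ E ∧ ∀ g ∈ E, Commute g z := fun z => by
      simp [Z, Subgroup.mem_centralizer_iff, Commute, SemiconjBy]
    have hnZ : ∀ a ∈ Z, w * a * w⁻¹ ∈ Z := by
      intro a ha
      rw [hZmem] at ha ⊢
      refine ⟨hEn w hwt a ha.1, fun g hg => ?_⟩
      have h := hEn w⁻¹ (inv_mem hwt) g hg
      rw [inv_inv] at h
      have h2 := (commute_conj_iff w _ _).2 (ha.2 _ h)
      rwa [show w * (w⁻¹ * g * w) * w⁻¹ = g by group] at h2
    have htZ : t ∈ Z := (hZmem t).2 ⟨htE, fun g hg => hE1 g hg⟩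
    rcases no_middle L ht h16 (A := Z) inf_le_left htZ hw hwt hnZ with hZ | hZ
    swap
    · intro a ha b hb
      exact ((hZmem b).1 (by rw [hZ]; exact hb)).2 a ha
    · exfalso
      obtain ⟨e, he, heZ⟩ : ∃ e ∈ E, e ∉ Z := by
        by_contra hh
        push_neg at hh
        have := Subgroup.card_le_of_le (show E ≤ Z from hh)
        omega
      have hex : ∀ e ∈ E, e ∉ Z → ∃ g ∈ E, ¬ Commute g e := by
        intro e he heZ
        by_contra hh
        push_neg at hh
        exact heZ ((hZmem e).2 ⟨he, hh⟩)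
      have hA8 : ∀ e ∈ E, e ∉ Z → Nat.card (E ⊓ cz e : Subgroup G) = 8 := by
        intro e he heZ
        obtain ⟨g, hg, hge⟩ := hex e he heZ
        have hval : ∀ y ∈ E, ¬ Commute y e → y * e * y⁻¹ = t * e := by
          intro y hy hye
          rcases hcomm y hy e he with h | h
          · exact absurd (mul_inv_eq_iff_eq_mul.1 (mul_inv_eq_one.1 h)) hye
          · rw [← h]; group
        have h := card_le_two_mul (E := E) (A := E ⊓ cz e) (g := g) (fun y hy => by
          by_cases hye : Commute y e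
          · exact Or.inl ⟨hy, mem_cz.2 hye⟩
          · refine Or.inr ⟨E.mul_mem (E.inv_mem hg) hy, mem_cz.2 ?_⟩
            refine mul_inv_eq_iff_eq_mul.1 ?_
            calc (g⁻¹ * y) * e * (g⁻¹ * y)⁻¹ = g⁻¹ * (y * e * y⁻¹) * g := by group
              _ = g⁻¹ * (g * e * g⁻¹) * g := by rw [hval y hy hye, hval g hg hge]
              _ = e := by group)
        have hdvd : Nat.card (E ⊓ cz e : Subgroup G) ∣ 2 ^ 4 :=
          (Subgroup.card_dvd_of_le inf_le_left).trans (dvd_of_eq h16)
        have hlt : Nat.card (E ⊓ cz e : Subgroup G) < 16 := by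
          refine lt_of_le_of_ne (h16 ▸ Subgroup.card_le_of_le inf_le_left) fun h => ?_
          have := Subgroup.eq_of_le_of_card_ge (inf_le_left : E ⊓ cz e ≤ E) (by rw [h, h16])
          exact hge (mem_cz.1 (show g ∈ E ⊓ cz e by rw [this]; exact hg).2)
        obtain ⟨i, hi, hie⟩ := (Nat.dvd_prime_pow Nat.prime_two).1 hdvd
        rw [h16, hie] at h
        rw [hie] at hlt ⊢
        interval_cases i <;> omega
      set A := E ⊓ cz e with hA
      have hAc : Nat.card A = 8 := hA8 e he heZ
      have hAab : ∀ a ∈ A, ∀ b ∈ A, Commute a b := by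
        intro a ha b hb
        by_cases haz : a ∈ zpowers e ⊔ zpowers t
        · have hle : zpowers e ⊔ zpowers t ≤ cz b := sup_le
            (zpowers_le.2 (mem_cz.2 (mem_cz.1 hb.2).symm))
            (zpowers_le.2 (mem_cz.2 (hE1 b hb.1).symm))
          exact mem_cz.1 (hle haz)
        · let K := A ⊓ cz a
          have hK : zpowers e ⊔ zpowers t ≤ K := sup_le
            (zpowers_le.2 ⟨⟨he, mem_cz.2 (Commute.refl e)⟩, mem_cz.2 (mem_cz.1 ha.2).symm⟩)
            (zpowers_le.2 ⟨⟨htE, mem_cz.2 (hE1 e he).symm⟩, mem_cz.2 (hE1 a ha.1).symm⟩)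
          have h4 : 4 ≤ Nat.card (zpowers e ⊔ zpowers t : Subgroup G) := by
            have h2 : 2 < Nat.card (zpowers e ⊔ zpowers t : Subgroup G) := by
              refine lt_of_le_of_ne ?_ fun h => heZ ?_
              · rw [← ht, ← Nat.card_zpowers]; exact Subgroup.card_le_of_le le_sup_right
              · have heq : zpowers t = zpowers e ⊔ zpowers t :=
                  Subgroup.eq_of_le_of_card_ge le_sup_right (by rw [← h, Nat.card_zpowers, ht])
                exact (zpowers_le.2 htZ : zpowers t ≤ Z) (heq.symm ▸ mem_sup_left (mem_zpowers e))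
            have hd : Nat.card (zpowers e ⊔ zpowers t : Subgroup G) ∣ 2 ^ 4 :=
              (Subgroup.card_dvd_of_le (sup_le (zpowers_le.2 he) (zpowers_le.2 htE))).trans
                (dvd_of_eq h16)
            obtain ⟨i, hi, hie⟩ := (Nat.dvd_prime_pow Nat.prime_two).1 hd
            rw [hie] at h2 ⊢
            interval_cases i <;> omega
          have h4K : 4 < Nat.card K := by
            refine lt_of_le_of_ne (h4.trans (Subgroup.card_le_of_le hK)) fun h => haz ?_
            rw [Subgroup.eq_of_le_of_card_ge hK (by omega)]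
            exact ⟨ha, mem_cz.2 (Commute.refl a)⟩
          have hKd : Nat.card K ∣ 8 := hAc ▸ Subgroup.card_dvd_of_le inf_le_left
          have hK8 : K = A := Subgroup.eq_of_le_of_card_ge inf_le_left (by
            have := Nat.le_of_dvd (by norm_num) hKd
            rw [hAc]
            interval_cases hc : Nat.card K <;> omega)
          exact (mem_cz.1 (hK8.symm ▸ hb : b ∈ K).2).symm
      let e' := w * e * w⁻¹
      have he' : e' ∈ E := hEn w hwt e he
      let B := A.map (MulAut.conj w).toMonoidHom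
      have hBc : Nat.card B = 8 := by
        rw [Subgroup.card_map_of_injective (MulAut.conj w).injective, hAc]
      have hBE : B ≤ E := by
        rintro g ⟨a, ha, rfl⟩
        exact hEn w hwt a ha.1
      have htA : t ∈ A := ⟨htE, mem_cz.2 (hE1 e he).symm⟩
      by_cases hAB : B = A
      · rcases no_middle L ht h16 (A := A) inf_le_left htA hw hwt
          (fun a ha => by rw [← hAB]; exact ⟨a, ha, rfl⟩) with h | h
        · omega
        · rw [h, h16] at hAc; omega
      · have hBab : ∀ a ∈ B, ∀ b ∈ B, Commute a b := by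
          rintro _ ⟨a, ha, rfl⟩ _ ⟨b, hb, rfl⟩
          exact (commute_conj_iff w a b).2 (hAab a ha b hb)
        have hsup : A ⊔ B = E := by
          refine Subgroup.eq_of_le_of_card_ge (sup_le inf_le_left hBE) ?_
          have hlt : 8 < Nat.card (A ⊔ B : Subgroup G) := by
            refine lt_of_le_of_ne (hAc ▸ Subgroup.card_le_of_le le_sup_left) fun h => hAB ?_
            have h1 : A = A ⊔ B := Subgroup.eq_of_le_of_card_ge le_sup_left (by omega)
            exact Subgroup.eq_of_le_of_card_ge (h1.symm ▸ le_sup_right) (by omega)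
          have hd : Nat.card (A ⊔ B : Subgroup G) ∣ 2 ^ 4 :=
            (Subgroup.card_dvd_of_le (sup_le inf_le_left hBE)).trans (dvd_of_eq h16)
          obtain ⟨i, hi, hie⟩ := (Nat.dvd_prime_pow Nat.prime_two).1 hd
          rw [h16, hie]
          rw [hie] at hlt
          interval_cases i <;> omega
        have hI : (A ⊓ B : Subgroup G) ≤ Z := by
          intro z hz
          refine (hZmem z).2 ⟨hz.1.1, fun g hg => ?_⟩
          have hle : A ⊔ B ≤ cz z := sup_le (fun a ha => mem_cz.2 (hAab a ha z hz.1))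
            (fun b hb => mem_cz.2 (hBab b hb z hz.2))
          exact mem_cz.1 (hle (hsup.symm ▸ hg))
        have hmul : 64 ≤ 16 * Nat.card (A ⊓ B : Subgroup G) := by
          have hinj : Nat.card (A × B) ≤ Nat.card (E × (A ⊓ B : Subgroup G)) := by
            have hf : ∀ q : A × B, (q.1 : G) * q.2 ∈ E := fun q => mul_mem q.1.2.1 (hBE q.2.2)
            choose r hr using fun g : E => (Classical.em (∃ q : A × B, (q.1 : G) * q.2 = g)).elim
              (fun h => ⟨h.choose, fun _ => h.choose_spec⟩)
              (fun h => (⟨((1 : A), (1 : B)), fun h' => absurd h' h⟩ :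
                ∃ q : A × B, (∃ q : A × B, (q.1 : G) * q.2 = g) → (q.1 : G) * q.2 = g))
            have hprod : ∀ q : A × B, ((r ⟨_, hf q⟩).1 : G) * (r ⟨_, hf q⟩).2 = q.1 * q.2 :=
              fun q => hr ⟨_, hf q⟩ ⟨q, rfl⟩
            refine Nat.card_le_card_of_injective (fun q => (⟨_, hf q⟩,
              ⟨((r ⟨_, hf q⟩).1 : G)⁻¹ * q.1, Subgroup.mem_inf.2
                ⟨mul_mem (inv_mem (r ⟨_, hf q⟩).1.2) q.1.2, ?_⟩⟩)) ?_
            · have h := hprod q
              have h2 : ((r ⟨_, hf q⟩).1 : G)⁻¹ * q.1 = (r ⟨_, hf q⟩).2 * (q.2 : G)⁻¹ := by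
                have aux : ∀ a b c d : G, a * b = c * d → a⁻¹ * c = b * d⁻¹ := fun a b c d h' => by
                  calc a⁻¹ * c = a⁻¹ * (c * d) * d⁻¹ := by group
                    _ = b * d⁻¹ := by rw [← h']; group
                exact aux _ _ _ _ h
              rw [h2]
              exact mul_mem (r ⟨_, hf q⟩).2.2 (inv_mem q.2.2)
            · intro p q hpq
              simp only [Prod.mk.injEq, Subtype.mk.injEq] at hpq
              obtain ⟨h1, h2⟩ := hpq
              have h3 : (⟨_, hf p⟩ : E) = ⟨_, hf q⟩ := Subtype.ext h1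
              rw [h3] at h2
              have h4 : (p.1 : G) = q.1 := mul_left_cancel h2
              rw [h4] at h1
              exact Prod.ext (Subtype.ext h4) (Subtype.ext (mul_left_cancel h1))
          rw [Nat.card_prod, Nat.card_prod, hAc, hBc, h16] at hinj
          exact hinj
        have := Subgroup.card_le_of_le hI
        omega
  -- E is elementary
  have hel : ∀ e ∈ E, e * e = 1 := by
    let S : Subgroup G :=
      { carrier := {e | e ∈ E ∧ e * e = 1}
        one_mem' := ⟨E.one_mem, by simp⟩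
        mul_mem' := fun {a b} ha hb => ⟨mul_mem ha.1 hb.1, by
          calc a * b * (a * b) = a * (b * a) * b := by group
            _ = a * (a * b) * b := by rw [(habel a ha.1 b hb.1).eq]
            _ = (a * a) * (b * b) := by group
            _ = 1 := by rw [ha.2, hb.2, one_mul]⟩
        inv_mem' := fun {a} ha => ⟨inv_mem ha.1, by rw [← mul_inv_rev, ha.2, inv_one]⟩ }
    rcases no_middle L ht h16 (A := S) (fun e he => he.1) ⟨htE, ht2⟩ hw hwt
        (fun a ha => ⟨hEn w hwt a ha.1, by
          calc w * a * w⁻¹ * (w * a * w⁻¹) = w * (a * a) * w⁻¹ := by group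
            _ = 1 := by rw [ha.2]; group⟩) with h | h
    · exfalso
      obtain ⟨g, hg, hgS⟩ : ∃ g ∈ E, g ∉ S := by
        by_contra hh
        push_neg at hh
        have := Subgroup.card_le_of_le (show E ≤ S from hh)
        omega
      have hg2 : g * g = t := (hsq g hg).resolve_left fun h1 => hgS ⟨hg, h1⟩
      have := card_le_two_mul (E := E) (A := S) (g := g) (fun y hy => by
        rcases hsq y hy with h1 | h1
        · exact Or.inl ⟨hy, h1⟩
        · refine Or.inr ⟨E.mul_mem (E.inv_mem hg) hy, ?_⟩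
          calc g⁻¹ * y * (g⁻¹ * y) = g⁻¹ * (y * g⁻¹) * y := by group
            _ = g⁻¹ * (g⁻¹ * y) * y := by rw [(habel y hy g hg).inv_right.eq]
            _ = (g * g)⁻¹ * (y * y) := by group
            _ = 1 := by rw [hg2, h1, inv_mul_cancel])
      omega
    · intro e he
      exact (h.symm ▸ he : e ∈ S).2
  refine ⟨E, htE, h16, hel, hEle, hEn, hmax, ?_, fix7⟩
  refine hmax _ ?_ ?_ ?_
  · exact fun g hg => mem_cz.2 (Subgroup.mem_centralizer_iff.1 hg t htE).symm
  · intro c hc l hl
    rw [Subgroup.mem_centralizer_iff] at hl ⊢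
    intro e he
    have h := hEn c⁻¹ (inv_mem hc) e he
    rw [inv_inv] at h
    have h2 := (commute_conj_iff c (c⁻¹ * e * c) l).2 (hl _ h)
    rwa [show c * (c⁻¹ * e * c) * c⁻¹ = e by group] at h2
  · intro v hv hv7
    have hvt : v ∈ cz t := mem_cz.2 (Subgroup.mem_centralizer_iff.1 hv t htE).symm
    have hsub : E ≤ zpowers t := by
      intro e he
      rcases fix7 v e hv7 hvt he (Subgroup.mem_centralizer_iff.1 hv e he).symm with rfl | rfl
      · exact one_mem _
      · exact mem_zpowers _
    have := Subgroup.card_le_of_le hsub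
    rw [h16, Nat.card_zpowers, ht] at this
    omega

end H91.M23R
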