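import Cfsg.Agent.H91.M23R.NonSolv
import Cfsg.Agent.H4.SmallOrder.Range

/-! The normal sixteen-group of the centraliser of an involution. -/

set_option autoImplicit false

namespace H91.M23R

open Subgroup H78.M22R

/-- The data of the sixteen-group of `cz t`. -/
structure Cd {G : Type*} [Group G] (t : G) (E : Subgroup G) : Prop where
  t_mem : t ∈ E
  card16 : Nat.card E = 16
  sq : ∀ e ∈ E, e * e = 1
  le : E ≤ cz t
  norm : Nrm (cz t) E
  max : ∀ L : Subgroup G, L ≤ cz t → Nrm (cz t) L → (∀ w ∈ L, orderOf w ≠ 7) → L ≤ E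
  self : centralizer (E : Set G) ≤ E
  fix7 : ∀ w e : G, orderOf w = 7 → w ∈ cz t → e ∈ E → Commute w e → e = 1 ∨ e = t

variable {G : Type*} [Group G] [Finite G] {t : G}

theorem mod_sixteen {k : ℕ} (hk : k ≤ 7) (h : 2 ^ k % 7 = 2) : k = 1 ∨ k = 4 ∨ k = 7 := by
  interval_cases k <;> simp_all

theorem isPGroup_sup {L K : Subgroup G} (hL : IsPGroup 2 L) (hK : IsPGroup 2 K)
    (h : K ≤ normalizer (L : Set G)) : IsPGroup 2 (L ⊔ K : Subgroup G) :=
  IsPGroup.to_sup_of_normal_left' hL hK h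

variable (L : Loc G)
include L

theorem pgroup_exp_le (ht : orderOf t = 2) {S : Subgroup G} (hS : S ≤ cz t) {k : ℕ}
    (hk : Nat.card S = 2 ^ k) : k ≤ 7 := by
  by_contra h
  have h1 := (pow_dvd_pow 2 (show 8 ≤ k by omega)).trans (hk ▸ card_dvd_cent L ht hS)
  norm_num at h1

/-- The fixed points of an element of order 7 on a subgroup containing `t`. -/
theorem fix_seven (ht : orderOf t = 2) {S : Subgroup G} (hS2 : IsPGroup 2 S) (htS : t ∈ S)
    {w : G} (hw : orderOf w = 7) (hwt : w ∈ cz t)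
    (hn : ∀ a ∈ S, w * a * w⁻¹ ∈ S) : Nat.card S % 7 = 2 := by
  classical
  haveI : Fact (Nat.Prime 7) := ⟨by decide⟩
  have h := card_fix_modEq (p := 7) (hw ▸ pow_orderOf_eq_one w) S hn
  have h2 : Nat.card {a : G // a ∈ S ∧ Commute w a} = 2 := by
    have h01 : (1 : G) ≠ t := fun e => by rw [← e, orderOf_one] at ht; omega
    rw [Nat.card_congr (β := {a : G // a ∈ ({1, t} : Finset G)})
      (Equiv.subtypeEquivRight fun a => ?_), Nat.card_eq_finsetCard, Finset.card_pair h01]
    simp only [Finset.mem_insert, Finset.mem_singleton]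
    constructor
    · rintro ⟨ha, hc⟩
      obtain ⟨k, hk⟩ := hS2 ⟨a, ha⟩
      exact two_in_cz_seven L ht hw hwt hc.symm k (congrArg Subtype.val hk)
    · rintro (rfl | rfl)
      · exact ⟨S.one_mem, Commute.one_right w⟩
      · exact ⟨htS, mem_cz.1 hwt⟩
  rw [h2] at h
  exact h

theorem index_mSub_le (ht : orderOf t = 2) : 1344 ≤ Nat.card (mSub t) ∧
    ∀ p ∈ cz t, p ∉ mSub t → ∀ q ∈ cz t, q ∉ mSub t → p⁻¹ * q ∈ mSub t := by
  obtain ⟨a, ha⟩ := dvd_card_mSub L ht
  have h3 := three_dvd_mSub L ht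
  have hd := card_dvd_cent L ht (mSub_le t)
  have h3a : 3 ∣ a := (by norm_num : Nat.Coprime 3 448).dvd_of_dvd_mul_left (ha ▸ h3)
  have ha6 : a ∣ 6 := Nat.dvd_of_mul_dvd_mul_left (show 0 < 448 by norm_num)
    (show 448 * a ∣ 448 * 6 by rw [← ha]; exact hd)
  have hle := Nat.le_of_dvd (by norm_num) ha6
  have hm : Nat.card (mSub t) = 1344 ∨ Nat.card (mSub t) = 2688 := by
    interval_cases a <;> omega
  refine ⟨by omega, fun p hp hpM q hq hqM => ?_⟩
  have hidx := ((mSub t).subgroupOf (cz t)).index_mul_card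
  rw [Nat.card_congr (Subgroup.subgroupOfEquivOfLe (mSub_le t)).toEquiv, L.cent2 t ht] at hidx
  rcases hm with h | h
  · rw [h] at hidx
    have h2 : ((mSub t).subgroupOf (cz t)).index = 2 := by omega
    have := (Subgroup.mul_mem_iff_of_index_two h2 (a := (⟨p, hp⟩ : cz t)⁻¹) (b := ⟨q, hq⟩)).2
      (by simp [Subgroup.mem_subgroupOf, hpM, hqM])
    simpa [Subgroup.mem_subgroupOf] using this
  · exact absurd (Subgroup.eq_of_le_of_card_ge (mSub_le t) (by rw [h]; exact (L.cent2 t ht).le)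
      ▸ hp) hpM

theorem three_mem_mSub (ht : orderOf t = 2) {y : G} (hy : orderOf y = 3) (hyt : y ∈ cz t) :
    y ∈ mSub t := by
  haveI := Fact.mk Nat.prime_three
  obtain ⟨x, hx, hxo⟩ := exists_orderOf 3 (three_dvd_mSub L ht)
  exact three_all L ht (mSub_nrm t) hxo hx (mSub_le t hx) hy hyt

/-- A proper normal subgroup of `mSub t` is a 2-group. -/
theorem normal_two (ht : orderOf t = 2) {S : Subgroup G} (hS : S ≤ mSub t)
    (hn : Nrm (mSub t) S) (hne : S ≠ mSub t) : IsPGroup 2 S := by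
  have h7 : ∀ w ∈ S, orderOf w ≠ 7 := by
    intro w hwS hw
    refine hne (le_antisymm hS ((closure_le S).2 ?_))
    intro g hg
    exact seven_all L ht (mSub_le t) hn hw hwS (hS hwS) hg.1 (mem_mSub hg.1 hg.2)
  refine isPGroup_of_free (card_dvd_cent L ht (hS.trans (mSub_le t))) ?_ h7
  intro x hxS hx
  haveI := Fact.mk Nat.prime_three
  have hall : ∀ y, orderOf y = 3 → y ∈ cz t → y ∈ S := by
    intro y hy hyt
    obtain ⟨s, hs, j, -, -, rfl⟩ := conj_gen (mSub t) (hS hxS) (three_mem_mSub L ht hy hyt) hx hy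
      (not_9 L ht (mSub_le t))
    exact hn s hs _ (pow_mem hxS j)
  have hc := count_order_prime S hxS hx (not_9 L ht (hS.trans (mSub_le t)))
  have h224 : Nat.card {g : G // orderOf g = 3 ∧ g ∈ S} = 224 := by
    rw [← card_three L ht]
    exact Nat.card_congr (Equiv.subtypeEquivRight fun g =>
      and_congr_right fun hg => ⟨fun h => mSub_le t (hS h), hall g hg⟩)
  rw [h224] at hc
  have h7d : 7 ∣ Nat.card S := (by norm_num : Nat.Coprime 7 2).dvd_of_dvd_mul_left
    (hc ▸ dvd_mul_of_dvd_left (by norm_num) _)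
  haveI : Fact (Nat.Prime 7) := ⟨by decide⟩
  obtain ⟨w, hw, hwo⟩ := exists_orderOf 7 h7d
  exact h7 w hw hwo

/-- The 2-radical of `mSub t`. -/
theorem exists_radical (ht : orderOf t = 2) : ∃ R : Subgroup G, R ≤ mSub t ∧ IsPGroup 2 R ∧
    Nrm (cz t) R ∧ (Nat.card R = 8 ∨ Nat.card R = 16) ∧
    ∀ S ≤ mSub t, IsPGroup 2 S → Nrm (mSub t) S → S ≤ R := by
  haveI := Fact.mk Nat.prime_two
  set M := mSub t with hM
  let P : Sylow 2 M := default
  let R0 : Subgroup M := (P : Subgroup M).normalCore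
  let R := R0.map M.subtype
  have hmax : ∀ S ≤ M, IsPGroup 2 S → Nrm M S → S ≤ R := by
    intro S hS h2 hn
    haveI hnm : (S.subgroupOf M).Normal := ⟨fun a ha b => hn b b.2 a ha⟩
    have h2' : IsPGroup 2 (S.subgroupOf M) :=
      h2.of_equiv (Subgroup.subgroupOfEquivOfLe hS).symm
    have hle : S.subgroupOf M ≤ (P : Subgroup M) := by
      have hsup : IsPGroup 2 ((P : Subgroup M) ⊔ S.subgroupOf M : Subgroup M) :=
        P.2.to_sup_of_normal_right h2'
      exact le_sup_right.trans (P.3 hsup le_sup_left).le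
    have hcore : S.subgroupOf M ≤ R0 := Subgroup.normal_le_normalCore.2 hle
    intro s hs
    exact ⟨⟨s, hS hs⟩, hcore hs, rfl⟩
  have hRle : R ≤ M := map_subtype_le R0
  have hR2 : IsPGroup 2 R := IsPGroup.map (P.2.to_le (Subgroup.normalCore_le _)) M.subtype
  have hRn : Nrm M R := by
    rintro c hc l ⟨r, hr, rfl⟩
    exact ⟨⟨c, hc⟩ * r * (⟨c, hc⟩ : M)⁻¹,
      (Subgroup.normalCore_normal _).conj_mem r hr ⟨c, hc⟩, rfl⟩
  have hRC : Nrm (cz t) R := by
    intro c hc l hl
    refine hmax (R.map (MulAut.conj c).toMonoidHom) ?_ (IsPGroup.map hR2 _) ?_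
      ⟨l, hl, rfl⟩
    · rintro g ⟨r, hr, rfl⟩
      exact mSub_nrm t c hc r (hRle hr)
    · rintro m hm g ⟨r, hr, rfl⟩
      have hm' : c⁻¹ * m * c ∈ M := by
        have := mSub_nrm t c⁻¹ (inv_mem hc) m hm
        rwa [inv_inv] at this
      exact ⟨(c⁻¹ * m * c) * r * (c⁻¹ * m * c)⁻¹, hRn _ hm' r hr, by
        show c * _ * c⁻¹ = m * (c * r * c⁻¹) * m⁻¹
        group⟩
  refine ⟨R, hRle, hR2, hRC, ?_, hmax⟩
  haveI : R0.Normal := Subgroup.normalCore_normal _
  have hne : R0 ≠ ⊤ := by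
    intro h
    have h1 : R = M := by simp [R, h, ← MonoidHom.range_eq_map]
    obtain ⟨w, hw, hwt⟩ := exists_seven L ht
    obtain ⟨k, hk⟩ := hR2.exists_card_eq
    have h7 : 7 ∣ Nat.card R := hw ▸ Subgroup.orderOf_dvd_natCard _ (h1 ▸ mem_mSub hw hwt)
    rw [hk] at h7
    exact absurd ((by decide : Nat.Prime 7).dvd_of_dvd_pow h7) (by norm_num)
  haveI : Nontrivial (M ⧸ R0) := QuotientGroup.nontrivial_iff.2 hne
  haveI : IsSimpleGroup (M ⧸ R0) := ⟨fun N hN => by
    let S0 := N.comap (QuotientGroup.mk' R0)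
    haveI : S0.Normal := hN.comap _
    have hR0S : R0 ≤ S0 := fun r hr => by
      show QuotientGroup.mk' R0 r ∈ N
      rw [show QuotientGroup.mk' R0 r = 1 from (QuotientGroup.eq_one_iff r).2 hr]
      exact N.one_mem
    by_cases htop : S0.map M.subtype = M
    · right
      have : S0 = ⊤ := Subgroup.map_injective M.subtype_injective (by
        rw [htop, ← MonoidHom.range_eq_map, Subgroup.range_subtype])
      rw [← Subgroup.map_comap_eq_self_of_surjective (QuotientGroup.mk'_surjective R0) N]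
      show S0.map _ = ⊤
      rw [this, Subgroup.map_top_of_surjective _ (QuotientGroup.mk'_surjective R0)]
    · left
      have hSn : Nrm M (S0.map M.subtype) := by
        rintro c hc l ⟨r, hr, rfl⟩
        exact ⟨⟨c, hc⟩ * r * (⟨c, hc⟩ : M)⁻¹,
          (inferInstance : S0.Normal).conj_mem r hr ⟨c, hc⟩, rfl⟩
      have h2S := normal_two L ht (map_subtype_le S0) hSn htop
      have hSR := hmax _ (map_subtype_le S0) h2S hSn
      have hS0 : S0 ≤ R0 := (Subgroup.map_le_map_iff_of_injective M.subtype_injective).1 hSR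
      rw [← Subgroup.map_comap_eq_self_of_surjective (QuotientGroup.mk'_surjective R0) N,
        eq_bot_iff]
      exact (Subgroup.map_mono hS0).trans (QuotientGroup.map_mk'_self R0).le⟩
  have hcardq := R0.card_eq_card_quotient_mul_card_subgroup
  have hRc : Nat.card R = Nat.card R0 := Subgroup.card_map_of_injective M.subtype_injective
  obtain ⟨k, hk⟩ := hR2.exists_card_eq
  have hd := card_dvd_cent L ht (mSub_le t)
  rw [← hM] at hd
  have hM1 := (index_mSub_le L ht).1
  rw [← hM] at hM1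
  obtain ⟨a, ha⟩ := dvd_card_mSub L ht
  rw [← hM] at ha
  have hMle := Nat.le_of_dvd (by norm_num) hd
  have h3 := three_dvd_mSub L ht
  rw [← hM] at h3
  have h21 : 21 ∣ Nat.card (M ⧸ R0) := by
    have h21M : 21 ∣ Nat.card M := by omega
    rw [hcardq, ← hRc, hk] at h21M
    exact ((by norm_num : Nat.Coprime 21 2).pow_right k).dvd_of_dvd_mul_right h21M
  have hqd : Nat.card (M ⧸ R0) ∣ 2688 := (Dvd.intro _ hcardq.symm).trans hd
  have hqle : Nat.card (M ⧸ R0) ≤ 2688 := Nat.le_of_dvd (by norm_num) hqd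
  have hnc : ¬ IsMulCommutative (M ⧸ R0) := by
    intro h
    letI : CommGroup (M ⧸ R0) :=
      { (inferInstance : Group (M ⧸ R0)) with mul_comm := fun a b => h.is_comm.comm a b }
    have hp := IsSimpleGroup.prime_card (α := M ⧸ R0)
    have h37 : 3 ∣ Nat.card (M ⧸ R0) := (by norm_num : 3 ∣ 21).trans h21
    have h77 : 7 ∣ Nat.card (M ⧸ R0) := (by norm_num : 7 ∣ 21).trans h21
    have e3 := (Nat.prime_dvd_prime_iff_eq Nat.prime_three hp).1 h37
    have e7 := (Nat.prime_dvd_prime_iff_eq (by decide : Nat.Prime 7) hp).1 h77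
    omega
  have hord := H4.SmallOrder.card_mem_orders hnc (by omega)
  simp only [H4.SmallOrder.orders, Finset.mem_insert, Finset.mem_singleton] at hord
  have h168 : Nat.card (M ⧸ R0) = 168 := by
    rcases hord with h | h | h | h | h | h | h | h | h | h | h <;>
      first | exact h | (exfalso; rw [h] at hqd h21; omega)
  rw [h168, ← hRc] at hcardq
  have hk7 := pgroup_exp_le L ht (hRle.trans (mSub_le t)) hk
  rw [hk] at hcardq ⊢
  interval_cases k <;> omega

/-- An element of order 7 moves every subgroup strictly between `⟨t⟩` and the sixteen-group. -/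
theorem no_middle (ht : orderOf t = 2) {E : Subgroup G} (h16 : Nat.card E = 16) {A : Subgroup G}
    (hA : A ≤ E) (htA : t ∈ A) {w : G} (hw : orderOf w = 7) (hwt : w ∈ cz t)
    (hn : ∀ a ∈ A, w * a * w⁻¹ ∈ A) : Nat.card A = 2 ∨ A = E := by
  haveI := Fact.mk Nat.prime_two
  have hE2 : IsPGroup 2 E := IsPGroup.of_card (n := 4) h16
  have h := fix_seven L ht (hE2.to_le hA) htA hw hwt hn
  obtain ⟨k, hk⟩ := (hE2.to_le hA).exists_card_eq
  have hle : Nat.card A ≤ 16 := h16 ▸ Subgroup.card_le_of_le hA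
  rw [hk] at h hle
  have hk7 : k ≤ 7 := by
    by_contra hh
    have := Nat.pow_le_pow_right (show 0 < 2 by norm_num) (show 8 ≤ k by omega)
    omega
  rcases mod_sixteen hk7 h with rfl | rfl | rfl
  · left; rw [hk]; rfl
  · right; exact Subgroup.eq_of_le_of_card_ge hA (by rw [h16, hk]; norm_num)
  · norm_num at hle

end H91.M23R
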