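import Cfsg.Agent.H91.M23R.Fusion

/-! The TI sixteen-group with normaliser of order 40320. -/

set_option autoImplicit false

namespace H91.M23R

open Subgroup H78.M22R

variable {G : Type*} [Group G] [Finite G] (L : Loc G)
include L

/-- The sixteen-group of an involution. -/
noncomputable def sixteen {t : G} (ht : orderOf t = 2) : Subgroup G := (exists_cd L ht).choose

theorem sixteen_spec {t : G} (ht : orderOf t = 2) : Cd t (sixteen L ht) :=
  (exists_cd L ht).choose_spec

theorem sixteen_conj {u v g : G} (hu : orderOf u = 2) (hv : orderOf v = 2)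
    (h : g * u * g⁻¹ = v) {a : G} (ha : a ∈ sixteen L hu) : g * a * g⁻¹ ∈ sixteen L hv := by
  have D := sixteen_spec L hu
  refine (sixteen_spec L hv).max ((sixteen L hu).map (MulAut.conj g).toMonoidHom) ?_ ?_ ?_
    ⟨a, ha, rfl⟩
  · rintro b ⟨c, hc, rfl⟩
    rw [mem_cz, ← h]
    exact (commute_conj_iff g c u).2 (mem_cz.1 (D.le hc))
  · rintro c hc b ⟨d, hd, rfl⟩
    have hc' : g⁻¹ * c * g ∈ cz u := by
      rw [mem_cz, ← commute_conj_iff g, h, show g * (g⁻¹ * c * g) * g⁻¹ = c by group]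
      exact mem_cz.1 hc
    refine ⟨_, D.norm _ hc' d hd, ?_⟩
    show g * _ * g⁻¹ = c * (g * d * g⁻¹) * c⁻¹
    group
  · rintro b ⟨c, hc, rfl⟩ hb
    have h2 : orderOf (g * c * g⁻¹) ∣ 2 := by
      rw [orderOf_conj']
      exact orderOf_dvd_of_pow_eq_one (by rw [pow_two]; exact D.sq c hc)
    have hb' : orderOf (g * c * g⁻¹) = 7 := hb
    rw [hb'] at h2
    norm_num at h2

theorem sixteen_eq {u v : G} (hu : orderOf u = 2) (hv : orderOf v = 2) (h : u = v) :
    sixteen L hu = sixteen L hv := by subst h; rfl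

/-- An element acting trivially on `E/⟨u⟩` lies in `E`. -/
theorem mem_of_trivial {u g : G} (hu : orderOf u = 2) (hg : g ∈ cz u)
    (h : ∀ a ∈ sixteen L hu, g * a * g⁻¹ = a ∨ g * a * g⁻¹ = a * u) : g ∈ sixteen L hu := by
  have D := sixteen_spec L hu
  have hu2 : u * u = 1 := by rw [← pow_two, ← hu, pow_orderOf_eq_one]
  let K : Subgroup G :=
    { carrier := {g | g ∈ cz u ∧ ∀ a ∈ sixteen L hu, g * a * g⁻¹ = a ∨ g * a * g⁻¹ = a * u}
      one_mem' := ⟨one_mem _, fun a _ => Or.inl (by simp)⟩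
      mul_mem' := fun {p q} hp hq => ⟨mul_mem hp.1 hq.1, fun a ha => by
        have e1 : p * q * a * (p * q)⁻¹ = p * (q * a * q⁻¹) * p⁻¹ := by group
        have e2 : p * (a * u) * p⁻¹ = (p * a * p⁻¹) * u := by
          calc p * (a * u) * p⁻¹ = (p * a * p⁻¹) * (p * u * p⁻¹) := by group
            _ = _ := by rw [(mem_cz.1 hp.1).eq, mul_inv_cancel_right]
        rw [e1]
        rcases hq.2 a ha with h1 | h1 <;> rw [h1]
        · exact hp.2 a ha
        · rw [e2]
          rcases hp.2 a ha with h2 | h2 <;> rw [h2]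
          · exact Or.inr rfl
          · exact Or.inl (by rw [mul_assoc, hu2, mul_one])⟩
      inv_mem' := fun {p} hp => ⟨inv_mem hp.1, fun a ha => by
        have ha' : p⁻¹ * a * p⁻¹⁻¹ ∈ sixteen L hu := D.norm p⁻¹ (inv_mem hp.1) a ha
        rcases hp.2 _ ha' with h1 | h1
        · left
          calc p⁻¹ * a * p⁻¹⁻¹ = p * (p⁻¹ * a * p⁻¹⁻¹) * p⁻¹ := h1.symm
            _ = a := by group
        · right
          have h2 : a = p⁻¹ * a * p⁻¹⁻¹ * u :=
            (show p * (p⁻¹ * a * p⁻¹⁻¹) * p⁻¹ = a by group).symm.trans h1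
          calc p⁻¹ * a * p⁻¹⁻¹ = p⁻¹ * a * p⁻¹⁻¹ * u * u := by rw [mul_assoc _ u u, hu2, mul_one]
            _ = a * u := by rw [← h2]⟩ }
  refine D.max K (fun p hp => hp.1) ?_ ?_ ⟨hg, h⟩
  · intro c hc p hp
    refine ⟨mul_mem (mul_mem hc hp.1) (inv_mem hc), fun a ha => ?_⟩
    have ha' : c⁻¹ * a * c⁻¹⁻¹ ∈ sixteen L hu := D.norm c⁻¹ (inv_mem hc) a ha
    have e1 : c * p * c⁻¹ * a * (c * p * c⁻¹)⁻¹ = c * (p * (c⁻¹ * a * c⁻¹⁻¹) * p⁻¹) * c⁻¹ := by
      group
    rw [e1]
    rcases hp.2 _ ha' with h1 | h1 <;> rw [h1]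
    · left; group
    · right
      calc c * (c⁻¹ * a * c⁻¹⁻¹ * u) * c⁻¹ = a * (c * u * c⁻¹) := by group
        _ = a * u := by rw [(mem_cz.1 hc).eq, mul_inv_cancel_right]
  · intro w hw hw7
    have hwu : w * u * w⁻¹ = u := by rw [(mem_cz.1 hw.1).eq, mul_inv_cancel_right]
    have hfix : ∀ a ∈ sixteen L hu, Commute w a := by
      intro a ha
      refine mul_inv_eq_iff_eq_mul.1 ?_
      rcases hw.2 a ha with h1 | h1
      · exact h1
      · exfalso
        have hit : ∀ n : ℕ, w ^ n * a * (w ^ n)⁻¹ = a * u ^ n := by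
          intro n
          induction n with
          | zero => simp
          | succ n ih =>
            rw [pow_succ' w, pow_succ' u]
            calc w * w ^ n * a * (w * w ^ n)⁻¹ = w * (w ^ n * a * (w ^ n)⁻¹) * w⁻¹ := by group
              _ = (w * a * w⁻¹) * (w * u ^ n * w⁻¹) := by rw [ih]; group
              _ = _ := by
                rw [h1, ((mem_cz.1 hw.1).pow_right n).eq, mul_inv_cancel_right, mul_assoc]
        have h7 := hit 7
        rw [← hw7, pow_orderOf_eq_one, hw7, one_mul, inv_one, mul_one] at h7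
        have hu7 : u ^ 7 = 1 := mul_left_cancel (h7.symm.trans (mul_one a).symm)
        have := orderOf_dvd_of_pow_eq_one hu7
        rw [hu] at this
        norm_num at this
    have hsub : sixteen L hu ≤ zpowers u := by
      intro a ha
      rcases D.fix7 w a hw7 hw.1 ha (hfix a ha) with rfl | rfl
      · exact one_mem _
      · exact mem_zpowers _
    have := Subgroup.card_le_of_le hsub
    rw [D.card16, Nat.card_zpowers, hu] at this
    omega

theorem orderOf_two {u : G} (h : u * u = 1) (h1 : u ≠ 1) : orderOf u = 2 :=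
  orderOf_eq_prime (by rw [pow_two]; exact h) h1

/-- The commutator `g a g⁻¹ a⁻¹`. -/
def cm (g a : G) : G := g * a * g⁻¹ * a⁻¹

omit [Finite G] L in
theorem cm_eq_one {g a : G} : cm g a = 1 ↔ Commute g a := by
  rw [cm, mul_inv_eq_one, mul_inv_eq_iff_eq_mul]
  rfl

omit [Finite G] L in
theorem conj_eq_cm (g a : G) : g * a * g⁻¹ = cm g a * a := by simp [cm]

omit [Finite G] L in
theorem cm_swap (g a : G) : cm a g = (cm g a)⁻¹ := by simp [cm, mul_assoc]

omit [Finite G] L in
theorem cm_mul_left {g h a : G} (hc : Commute g (cm h a)) : cm (g * h) a = cm h a * cm g a := by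
  calc cm (g * h) a = g * (h * a * h⁻¹) * g⁻¹ * a⁻¹ := by simp [cm, mul_assoc]
    _ = g * cm h a * (a * g⁻¹ * a⁻¹) := by rw [conj_eq_cm h a]; group
    _ = cm h a * g * (a * g⁻¹ * a⁻¹) := by rw [hc.eq]
    _ = _ := by simp [cm, mul_assoc]

omit [Finite G] L in
theorem cm_mul_right {g a b : G} (hc : Commute a (cm g b)) :
    cm g (a * b) = cm g a * cm g b := by
  calc cm g (a * b) = (g * a * g⁻¹) * (g * b * g⁻¹) * b⁻¹ * a⁻¹ := by simp [cm, mul_assoc]
    _ = cm g a * (a * cm g b) * a⁻¹ := by rw [conj_eq_cm g a, conj_eq_cm g b]; group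
    _ = cm g a * cm g b := by rw [hc.eq]; group

omit [Finite G] L in
theorem cm_conj (x g a : G) : x * cm g a * x⁻¹ = cm (x * g * x⁻¹) (x * a * x⁻¹) := by
  simp [cm, mul_assoc]

omit [Finite G] L in
theorem comm_of_sq {U : Subgroup G} (h : ∀ a ∈ U, a * a = 1) {a b : G} (ha : a ∈ U)
    (hb : b ∈ U) : Commute a b := by
  calc a * b = (b * b) * (a * b) * (a * a) := by rw [h a ha, h b hb, one_mul, mul_one]
    _ = b * (b * a * (b * a)) * a := by group
    _ = b * a := by rw [h (b * a) (mul_mem hb ha), mul_one]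

omit [Finite G] L in
theorem bit_mul {V : Subgroup G} {t e : G} (hV : ∀ v ∈ V, v = 1 ∨ v = t ∨ v = e ∨ v = t * e)
    (ht2 : t * t = 1) (he2 : e * e = 1) (hte : Commute t e) {v w : G} (hv : v ∈ V) (hw : w ∈ V)
    (h : (v = 1 ∨ v = t) ↔ (w = 1 ∨ w = t)) : v * w = 1 ∨ v * w = t := by
  by_cases hvt : v = 1 ∨ v = t
  · rcases hvt with rfl | rfl <;> rcases h.1 (by simp) with rfl | rfl <;> simp [ht2]
  · have hwt : ¬ (w = 1 ∨ w = t) := fun q => hvt (h.2 q)
    have hcase : ∀ u ∈ V, ¬ (u = 1 ∨ u = t) → u = e ∨ u = t * e := fun u hu hn => by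
      rcases hV u hu with q | q | q | q
      · exact absurd (Or.inl q) hn
      · exact absurd (Or.inr q) hn
      · exact Or.inl q
      · exact Or.inr q
    rcases hcase v hv hvt with rfl | rfl <;> rcases hcase w hw hwt with rfl | rfl
    · exact Or.inl he2
    · right; rw [← mul_assoc, ← hte.eq, mul_assoc, he2, mul_one]
    · right; rw [mul_assoc, he2, mul_one]
    · left
      rw [mul_assoc, ← mul_assoc e t e, ← hte.eq, mul_assoc t e e, he2, mul_one, ht2]

/-- An element fixed modulo the fixed points of `x` is fixed. -/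
theorem fixed_of_coset {u x : G} (hu : orderOf u = 2) {U : Subgroup G} (DU : Cd u U)
    (hx : orderOf x = 3) {q v : G} (hq : q ∈ U) (hv : v ∈ U ⊓ cz x)
    (h : x * q * x⁻¹ = v * q) : q ∈ U ⊓ cz x := by
  have hxv : x * v * x⁻¹ = v := by rw [(mem_cz.1 hv.2).symm.eq, mul_inv_cancel_right]
  have h2 : x * (x * q * x⁻¹) * x⁻¹ = q := by
    calc x * (x * q * x⁻¹) * x⁻¹ = x * (v * q) * x⁻¹ := by rw [h]
      _ = (x * v * x⁻¹) * (x * q * x⁻¹) := by group
      _ = (v * v) * q := by rw [hxv, h, mul_assoc]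
      _ = q := by rw [DU.sq v hv.1, one_mul]
  refine ⟨hq, mem_cz.2 (mul_inv_eq_iff_eq_mul.1 (?_ : x * q * x⁻¹ = q)).symm⟩
  have hx3 : x ^ 3 = 1 := hx ▸ pow_orderOf_eq_one x
  conv_lhs => rw [← h2]
  calc x * (x * (x * q * x⁻¹) * x⁻¹) * x⁻¹ = x ^ 3 * q * (x ^ 3)⁻¹ := by
        rw [pow_succ, pow_succ, pow_one]; group
    _ = q := by rw [hx3]; group

/-- The four cosets of the fixed four-group. -/
theorem coset_cases {u x : G} (hu : orderOf u = 2) {U : Subgroup G} (DU : Cd u U)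
    (hx : orderOf x = 3) (hxu : x ∈ cz u) {q : G} (hq : q ∈ U) (hqV : q ∉ U ⊓ cz x)
    {a : G} (ha : a ∈ U) : ∃ v ∈ U ⊓ cz x,
      a = v ∨ a = v * q ∨ a = v * (x * q * x⁻¹) ∨ a = v * (q * (x * q * x⁻¹)) := by
  classical
  set q' := x * q * x⁻¹ with hq'
  set V := U ⊓ cz x with hV
  have hq'U : q' ∈ U := DU.norm x hxu q hq
  have hq2 := DU.sq q hq
  have hq'2 := DU.sq q' hq'U
  have hc := comm_of_sq DU.sq hq hq'U
  have hq'V : q' ∉ V := fun h => hqV (by
    have h3 : x * q' * x⁻¹ = q' := by rw [(mem_cz.1 h.2).symm.eq, mul_inv_cancel_right]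
    rw [hq'] at h3
    have h4 : x * q * x⁻¹ = q := by
      have := congrArg (fun g => x⁻¹ * g * x) h3
      simpa [mul_assoc] using this
    exact fixed_of_coset L hu DU hx hq V.one_mem (by rw [one_mul]; exact h4))
  have hqq' : q * q' ∉ V := fun h => hqV (fixed_of_coset L hu DU hx hq h (by
    rw [← hq', mul_assoc, ← hc.eq, ← mul_assoc, hq2, one_mul]))
  let r : Bool × Bool → G := fun i => (if i.1 then q else 1) * (if i.2 then q' else 1)
  have hrU : ∀ i, r i ∈ U := fun i =>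
    U.mul_mem (by split <;> simp [hq]) (by split <;> simp [hq'U])
  have hq2l : ∀ z, q * (q * z) = z := fun z => by rw [← mul_assoc, hq2, one_mul]
  have hq'2l : ∀ z, q' * (q' * z) = z := fun z => by rw [← mul_assoc, hq'2, one_mul]
  have hmul : ∀ i j, r i * r j = r (xor i.1 j.1, xor i.2 j.2) := by
    rintro ⟨a, b⟩ ⟨c, d⟩
    cases a <;> cases b <;> cases c <;> cases d <;>
      simp [r, hq2, hq'2, hq2l, hq'2l, mul_assoc, hc.symm.eq, hc.symm.left_comm]
  have hr0 : ∀ i, r i ∈ V → i = (false, false) := by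
    rintro ⟨a, b⟩ h
    cases a <;> cases b <;> simp [r] at h ⊢
    · exact hq'V h
    · exact hqV h
    · exact hqq' h
  let f : V × (Bool × Bool) → U := fun p => ⟨(p.1 : G) * r p.2, U.mul_mem p.1.2.1 (hrU _)⟩
  have hinj : Function.Injective f := by
    rintro ⟨v, i⟩ ⟨v', j⟩ h
    have h' : (v : G) * r i = v' * r j := congrArg Subtype.val h
    have key : r i * r j = (v : G)⁻¹ * v' := by
      rw [eq_inv_mul_iff_mul_eq, ← mul_assoc, h', mul_assoc, hmul j j]
      simp [r]
    have hij := hr0 _ (show r (xor i.1 j.1, xor i.2 j.2) ∈ V by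
      rw [← hmul, key]; exact V.mul_mem (V.inv_mem v.2) v'.2)
    have hij' : i = j := by
      obtain ⟨a, b⟩ := i
      obtain ⟨c, d⟩ := j
      revert hij
      cases a <;> cases b <;> cases c <;> cases d <;> simp
    subst hij'
    exact Prod.ext (Subtype.ext (mul_right_cancel h')) rfl
  haveI := Fintype.ofFinite U
  haveI := Fintype.ofFinite V
  have hbij : Function.Bijective f := by
    refine (Fintype.bijective_iff_injective_and_card f).2 ⟨hinj, ?_⟩
    rw [Fintype.card_prod, ← Nat.card_eq_fintype_card, ← Nat.card_eq_fintype_card (α := U),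
      DU.card16, card_four L hu DU hx hxu]
    rfl
  obtain ⟨⟨v, ⟨i, j⟩⟩, hvi⟩ := hbij.2 ⟨a, ha⟩
  have hvi' : (v : G) * r (i, j) = a := congrArg Subtype.val hvi
  refine ⟨v, v.2, ?_⟩
  cases i <;> cases j <;> simp [r] at hvi'
  · exact Or.inl hvi'.symm
  · exact Or.inr (Or.inr (Or.inl hvi'.symm))
  · exact Or.inr (Or.inl hvi'.symm)
  · exact Or.inr (Or.inr (Or.inr hvi'.symm))

/-- The kernel criterion on two generators modulo the fixed points. -/
theorem ker_crit {u x g : G} (hu : orderOf u = 2) (hx : orderOf x = 3) (hxu : x ∈ cz u)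
    (hg : g ∈ cz u) (hgV : ∀ v ∈ sixteen L hu ⊓ cz x, Commute g v)
    {q : G} (hq : q ∈ sixteen L hu) (hqV : q ∉ sixteen L hu ⊓ cz x)
    (h0 : cm g q = 1 ∨ cm g q = u)
    (h1 : cm g (x * q * x⁻¹) = 1 ∨ cm g (x * q * x⁻¹) = u) : g ∈ sixteen L hu := by
  have DU := sixteen_spec L hu
  have hu2 : u * u = 1 := DU.sq u DU.t_mem
  refine mem_of_trivial L hu hg fun a ha => ?_
  have hau : cm g a = 1 ∨ cm g a = u → g * a * g⁻¹ = a ∨ g * a * g⁻¹ = a * u := by
    rw [conj_eq_cm g a]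
    rintro (h | h)
    · exact Or.inl (by rw [h, one_mul])
    · exact Or.inr (by rw [h]; exact (comm_of_sq DU.sq DU.t_mem ha).eq)
  apply hau
  have hmulc : ∀ p r : G, p ∈ sixteen L hu → (cm g p = 1 ∨ cm g p = u) →
      (cm g r = 1 ∨ cm g r = u) → cm g (p * r) = 1 ∨ cm g (p * r) = u := by
    intro p r hp hp' hr'
    have hc : Commute p (cm g r) := by
      rcases hr' with h | h <;> rw [h]
      · exact Commute.one_right p
      · exact comm_of_sq DU.sq hp DU.t_mem
    rw [cm_mul_right hc]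
    rcases hp' with h | h <;> rcases hr' with h' | h' <;> rw [h, h'] <;> simp [hu2]
  obtain ⟨v, hv, hcase⟩ := coset_cases L hu DU hx hxu hq hqV ha
  have hv' : cm g v = 1 ∨ cm g v = u := Or.inl (cm_eq_one.2 (hgV v hv))
  have hq'U := DU.norm x hxu q hq
  rcases hcase with rfl | rfl | rfl | rfl
  · exact hv'
  · exact hmulc _ _ hv.1 hv' h0
  · exact hmulc _ _ hv.1 hv' h1
  · exact hmulc _ _ hv.1 hv' (hmulc _ _ hq h0 h1)

/-- Three sixteen-groups meeting in a four-group are equal. -/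
theorem three_equal {t e x y : G} (ht : orderOf t = 2) (he : orderOf e = 2)
    (hf : orderOf (t * e) = 2) (hx : orderOf x = 3) (hxt : x ∈ cz t)
    (heV : e ∈ sixteen L ht ⊓ cz x) (hte : t ≠ e)
    (hy1 : y * t * y⁻¹ = e) (hy2 : y * e * y⁻¹ = t * e)
    (hy3 : y * (t * e) * y⁻¹ = t) : sixteen L he = sixteen L ht := by
  classical
  set A := sixteen L ht with hA
  set B := sixteen L he with hB
  set C := sixteen L hf with hC
  have DA : Cd t A := sixteen_spec L ht
  have DB : Cd e B := sixteen_spec L he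
  have DC : Cd (t * e) C := sixteen_spec L hf
  set V := A ⊓ cz x with hV
  have hV4 : Nat.card V = 4 := card_four L ht DA hx hxt
  have htV : t ∈ V := ⟨DA.t_mem, mem_cz.2 (mem_cz.1 hxt).symm⟩
  have hex : x ∈ cz e := mem_cz.2 (mem_cz.1 heV.2).symm
  have hfV : t * e ∈ V := V.mul_mem htV heV
  have hfx : x ∈ cz (t * e) := mem_cz.2 (mem_cz.1 hfV.2).symm
  have hAe : A ≤ cz e := fun a ha => mem_cz.2 (comm_of_sq DA.sq ha heV.1)
  have hAf : A ≤ cz (t * e) := fun a ha => mem_cz.2 (comm_of_sq DA.sq ha hfV.1)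
  have hVU : ∀ {u : G} (hu : orderOf u = 2), x ∈ cz u → A ≤ cz u →
      sixteen L hu ⊓ cz x = V := by
    intro u hu hxu hAu
    refine (Subgroup.eq_of_le_of_card_ge ?_ ?_).symm
    · intro v hv
      exact ⟨two_mem_four L hu (sixteen_spec L hu) hx hxu (hAu hv.1) hv.2 (k := 1)
        (by rw [pow_one, pow_two]; exact DA.sq v hv.1), hv.2⟩
    · rw [card_four L hu (sixteen_spec L hu) hx hxu, hV4]
  have hVB : B ⊓ cz x = V := hVU he hex hAe
  have hVC : C ⊓ cz x = V := hVU hf hfx hAf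
  have ht2 : t * t = 1 := DA.sq t DA.t_mem
  have he2 : e * e = 1 := DA.sq e heV.1
  have hte' : Commute t e := comm_of_sq DA.sq DA.t_mem heV.1
  have hxV : ∀ v ∈ V, x * v * x⁻¹ = v := fun v hv => by
    rw [(mem_cz.1 hv.2).symm.eq, mul_inv_cancel_right]
  by_contra hne
  have hCA : C ≠ A := by
    intro h
    apply hne
    let S := A.map (MulAut.conj y).toMonoidHom
    have hSc : Nat.card S = 16 := by
      rw [Subgroup.card_map_of_injective (MulAut.conj y).injective, DA.card16]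
    have hSB : S = B := Subgroup.eq_of_le_of_card_ge (by
      rintro c ⟨d, hd, rfl⟩
      exact sixteen_conj L ht he hy1 hd) (by rw [hSc, DB.card16])
    have hSA : S = A := Subgroup.eq_of_le_of_card_ge (by
      rintro c ⟨d, hd, rfl⟩
      exact sixteen_conj L hf ht hy3 (by rw [← hC, h]; exact hd)) (by rw [hSc, DA.card16])
    exact hSB.symm.trans hSA
  have hinter : ∀ {u : G} (hu : orderOf u = 2), x ∈ cz u → sixteen L hu ≠ A →
      sixteen L hu ⊓ cz x = V → A ⊓ sixteen L hu = V := by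
    intro u hu hxu hUA hVu
    set U := sixteen L hu with hU
    have DU : Cd u U := sixteen_spec L hu
    have hle : V ≤ A ⊓ U := le_inf inf_le_left (hVu ▸ inf_le_left)
    refine (Subgroup.eq_of_le_of_card_ge hle ?_).symm
    haveI := Fact.mk Nat.prime_three
    have h := card_fix_modEq (p := 3) (hx ▸ pow_orderOf_eq_one x) (A ⊓ U)
      (fun a ha => ⟨DA.norm x hxt a ha.1, DU.norm x hxu a ha.2⟩)
    have hfix : Nat.card {a : G // a ∈ A ⊓ U ∧ Commute x a} = 4 := by
      rw [← hV4]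
      exact Nat.card_congr (Equiv.subtypeEquivRight fun a =>
        ⟨fun ha => ⟨ha.1.1, mem_cz.2 ha.2.symm⟩, fun ha => ⟨hle ha, (mem_cz.1 ha.2).symm⟩⟩)
    rw [hfix] at h
    have hd : Nat.card (A ⊓ U : Subgroup G) ∣ 2 ^ 4 :=
      (Subgroup.card_dvd_of_le inf_le_left).trans (dvd_of_eq DA.card16)
    obtain ⟨i, hi, hie⟩ := (Nat.dvd_prime_pow Nat.prime_two).1 hd
    have h4le := hV4 ▸ Subgroup.card_le_of_le hle
    rw [hie] at h h4le
    have hi4 : i ≠ 4 := by
      rintro rfl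
      apply hUA
      have hi16 : A ⊓ U = A :=
        Subgroup.eq_of_le_of_card_ge inf_le_left (by rw [hie, DA.card16]; norm_num)
      exact (Subgroup.eq_of_le_of_card_ge (hi16.ge.trans inf_le_right)
        (by rw [DA.card16, DU.card16])).symm
    rw [hie, hV4]
    have h' : 2 ^ i % 3 = 4 % 3 := h
    interval_cases i <;> simp_all
  have hAB : A ⊓ B = V := hinter he hex hne hVB
  have hAC : A ⊓ C = V := hinter hf hfx hCA hVC
  have hVmemt : ∀ v ∈ V, v = 1 ∨ v = t ∨ v = e ∨ v = t * e := by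
    intro v hv
    by_contra hh
    push_neg at hh
    have h1e : (1 : G) ≠ e := fun h => by rw [← h, orderOf_one] at he; omega
    have h1t : (1 : G) ≠ t := fun h => by rw [← h, orderOf_one] at ht; omega
    have h1f : (1 : G) ≠ t * e := fun h => by rw [← h, orderOf_one] at hf; omega
    have htf : t ≠ t * e := fun h => h1e (mul_left_cancel ((mul_one t).trans h))
    have hef : e ≠ t * e := fun h => h1t (mul_right_cancel ((one_mul e).trans h))
    haveI := Fintype.ofFinite V
    have hsub : ({1, t, e, t * e, v} : Finset G) ⊆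
        Finset.univ.image (fun p : V => (p : G)) := by
      intro g hg
      simp only [Finset.mem_insert, Finset.mem_singleton] at hg
      have hgV : g ∈ V := by
        rcases hg with rfl | rfl | rfl | rfl | rfl
        exacts [V.one_mem, htV, heV, hfV, hv]
      exact Finset.mem_image.2 ⟨⟨g, hgV⟩, Finset.mem_univ _, rfl⟩
    have h5 := Finset.card_le_card hsub
    rw [Finset.card_image_of_injective _ Subtype.val_injective, Finset.card_univ,
      ← Nat.card_eq_fintype_card, hV4] at h5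
    rw [Finset.card_insert_of_notMem (by simp [h1t, h1e, h1f, hh.1.symm]),
      Finset.card_insert_of_notMem (by simp [hte, htf, hh.2.1.symm]),
      Finset.card_insert_of_notMem (by simp [hef, hh.2.2.1.symm]),
      Finset.card_insert_of_notMem (by simp [hh.2.2.2.symm]), Finset.card_singleton] at h5
    omega
  have hVBle : V ≤ B := hVB ▸ inf_le_left
  have hVCle : V ≤ C := hVC ▸ inf_le_left
  have hBC : ∀ g, g ∈ B → g ∈ C → g ∈ V := by
    intro g hgB hgC
    have hy1' : y⁻¹ * e * y⁻¹⁻¹ = t := by rw [← hy1]; group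
    have hy2' : y⁻¹ * (t * e) * y⁻¹⁻¹ = e := by rw [← hy2]; group
    have h1 := sixteen_conj L he ht hy1' hgB
    have h2 := sixteen_conj L hf he hy2' hgC
    have h3 : y⁻¹ * g * y⁻¹⁻¹ ∈ V := hAB ▸ (⟨h1, h2⟩ : y⁻¹ * g * y⁻¹⁻¹ ∈ A ⊓ B)
    have hg : g = y * (y⁻¹ * g * y⁻¹⁻¹) * y⁻¹ := by group
    rw [hg]
    rcases hVmemt _ h3 with h | h | h | h <;> rw [h]
    · simp
    · rw [hy1]; exact heV
    · rw [hy2]; exact hfV
    · rw [hy3]; exact htV
  have hBt : B ≤ cz t := fun b hb => mem_cz.2 (comm_of_sq DB.sq hb (hVBle htV))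
  have hCt : C ≤ cz t := fun c hc => mem_cz.2 (comm_of_sq DC.sq hc (hVCle htV))
  have hcV : ∀ {u : G} {U : Subgroup G}, Cd u U → A ≤ cz u → U ≤ cz t → A ⊓ U = V →
      ∀ a ∈ A, ∀ g ∈ U, cm g a ∈ V := by
    intro u U DU hAu hUt hI a ha g hg
    rw [← hI]
    refine ⟨A.mul_mem (DA.norm g (hUt hg) a ha) (A.inv_mem ha), ?_⟩
    rw [cm, show g * a * g⁻¹ * a⁻¹ = g * (a * g⁻¹ * a⁻¹) by group]
    exact U.mul_mem hg (DU.norm a (hAu ha) g⁻¹ (U.inv_mem hg))
  have hcomV : ∀ g, g ∈ B ∨ g ∈ C → ∀ v ∈ V, Commute g v := fun g hg v hv =>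
    hg.elim (fun h => comm_of_sq DB.sq h (hVBle hv)) (fun h => comm_of_sq DC.sq h (hVCle hv))
  have hvals : ∀ a ∈ A, ∀ g, g ∈ B ∨ g ∈ C → cm g a ∈ V := fun a ha g hg =>
    hg.elim (hcV DB hAe hBt hAB a ha g) (hcV DC hAf hCt hAC a ha g)
  obtain ⟨q0, hq0, hq0V⟩ : ∃ q ∈ A, q ∉ V := by
    by_contra hh
    push_neg at hh
    have := Subgroup.card_le_of_le (show A ≤ V from hh)
    rw [DA.card16, hV4] at this
    omega
  set q1 := x * q0 * x⁻¹ with hq1
  have hq1A : q1 ∈ A := DA.norm x hxt q0 hq0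
  obtain ⟨b, hb, hbV⟩ : ∃ b ∈ B, b ∉ V := by
    by_contra hh
    push_neg at hh
    have := Subgroup.card_le_of_le (show B ≤ V from hh)
    rw [DB.card16, hV4] at this
    omega
  let T0 : G → Bool × Bool := fun g =>
    (decide (cm g q0 = 1 ∨ cm g q0 = t), decide (cm g q1 = 1 ∨ cm g q1 = t))
  have hsame : ∀ g h : G, g ∈ B ∨ g ∈ C → h ∈ B ∨ h ∈ C → T0 g = T0 h → g * h ∈ A := by
    intro g h hg hh hT
    have hgt : g ∈ cz t := hg.elim (fun p => hBt p) (fun p => hCt p)
    have hht : h ∈ cz t := hh.elim (fun p => hBt p) (fun p => hCt p)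
    have one : ∀ a ∈ A, decide (cm g a = 1 ∨ cm g a = t) = decide (cm h a = 1 ∨ cm h a = t) →
        cm (g * h) a = 1 ∨ cm (g * h) a = t := by
      intro a ha hd
      rw [decide_eq_decide] at hd
      rw [cm_mul_left (hcomV g hg _ (hvals a ha h hh))]
      exact bit_mul hVmemt ht2 he2 hte' (hvals a ha h hh) (hvals a ha g hg) hd.symm
    exact ker_crit L ht hx hxt (mul_mem hgt hht)
      (fun v hv => (hcomV g hg v hv).mul_left (hcomV h hh v hv)) hq0 hq0V
      (one q0 hq0 (congrArg Prod.fst hT)) (one q1 hq1A (congrArg Prod.snd hT))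
  haveI := Fintype.ofFinite C
  have hT0surj : (Finset.univ : Finset C).image (fun c : C => T0 (c : G)) = Finset.univ := by
    have hfib : ∀ p ∈ (Finset.univ : Finset C).image (fun c : C => T0 (c : G)),
        ((Finset.univ : Finset C).filter fun c : C => T0 (c : G) = p).card ≤ 4 := by
      intro p hp
      obtain ⟨c0, -, hc0⟩ := Finset.mem_image.1 hp
      haveI := Fintype.ofFinite V
      rw [← hV4, Nat.card_eq_fintype_card, ← Finset.card_univ]
      refine Finset.card_le_card_of_injOn (fun c : C => if h : (c0 : G) * (c : G) ∈ V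
        then ⟨_, h⟩ else (1 : V)) (fun c _ => Finset.mem_univ _) ?_
      intro c hc c' hc' hcc
      simp only [Finset.coe_filter, Set.mem_setOf_eq, Finset.mem_univ, true_and] at hc hc'
      have hm : ∀ d : C, T0 (d : G) = p → (c0 : G) * d ∈ V := fun d hd => by
        rw [← hAC]
        exact ⟨hsame _ _ (Or.inr c0.2) (Or.inr d.2) (hc0.trans hd.symm), C.mul_mem c0.2 d.2⟩
      simp only [dif_pos (hm c hc), dif_pos (hm c' hc')] at hcc
      exact Subtype.ext (mul_left_cancel (Subtype.mk.inj hcc))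
    have h16 := Finset.card_le_mul_card_image (s := (Finset.univ : Finset C)) 4 hfib
    rw [Finset.card_univ, ← Nat.card_eq_fintype_card, DC.card16] at h16
    apply Finset.eq_univ_of_card
    have := Finset.card_le_univ ((Finset.univ : Finset C).image fun c : C => T0 (c : G))
    simp only [Fintype.card_prod, Fintype.card_bool] at this ⊢
    omega
  obtain ⟨c0, -, hc0⟩ := Finset.mem_image.1 (hT0surj.symm ▸ Finset.mem_univ (T0 b) :
    T0 b ∈ (Finset.univ : Finset C).image (fun c : C => T0 (c : G)))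
  set q := (c0 : G) * b with hq
  have hqA : q ∈ A := hsame _ _ (Or.inr c0.2) (Or.inl hb) hc0
  have hb2 : b * b = 1 := DB.sq b hb
  have hqb : q * b = c0 := by rw [hq, mul_assoc, hb2, mul_one]
  have hq2 : q * q = 1 := DA.sq q hqA
  have hqbc : Commute q b := by
    have h1 : q * b * (q * b) = 1 := by rw [hqb]; exact DC.sq _ c0.2
    have h2 : q * b = (q * b)⁻¹ := eq_inv_of_mul_eq_one_left h1
    calc q * b = b⁻¹ * q⁻¹ := by rw [h2, mul_inv_rev]
      _ = b * q := by
        rw [inv_eq_of_mul_eq_one_right hb2, inv_eq_of_mul_eq_one_right hq2]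
  have hqV : q ∉ V := fun hqm => hbV (hBC b hb (by
    have hbq : b = q⁻¹ * c0 := by rw [← hqb]; group
    rw [hbq]
    exact C.mul_mem (C.inv_mem (hVCle hqm)) c0.2))
  set q' := x * q * x⁻¹ with hq'
  set b' := x * b * x⁻¹ with hb'
  have hq'A : q' ∈ A := DA.norm x hxt q hqA
  have hb'B : b' ∈ B := DB.norm x hex b hb
  have hqq : cm b q = 1 := cm_eq_one.2 hqbc.symm
  have hqq' : cm b' q' = 1 := by rw [← cm_conj, hqq]; group
  set c := cm b' q with hc
  have hcV' : c ∈ V := hvals q hqA b' (Or.inl hb'B)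
  have hbV' : b ∉ B ⊓ cz x := fun h => hbV (hVB ▸ h)
  have hcb : cm b q' = c := by
    have h1 : cm (x * b' * x⁻¹) q' = c := by rw [hq', ← cm_conj]; exact hxV c hcV'
    obtain ⟨v, hv, hcase⟩ := coset_cases L he DB hx hex hb hbV' (DB.norm x hex b' hb'B)
    rw [← hb'] at hcase
    have hvq : cm v q' = 1 := cm_eq_one.2 (comm_of_sq DA.sq (hVB ▸ hv : v ∈ V).1 hq'A)
    have hnV : b' ∉ B ⊓ cz x := fun h => hbV' (by
      have h2 : x * b * x⁻¹ = b := by
        have h3 : x * b' * x⁻¹ = b' := by rw [(mem_cz.1 h.2).symm.eq, mul_inv_cancel_right]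
        have h4 := congrArg (fun g => x⁻¹ * g * x) h3
        rw [hb'] at h4
        simpa [mul_assoc] using h4
      exact fixed_of_coset L he DB hx hb (one_mem _) (by rw [one_mul]; exact h2))
    have hcomb : ∀ g, g ∈ B → Commute v g := fun g hg => comm_of_sq DB.sq hv.1 hg
    rcases hcase with h | h | h | h
    · refine absurd ?_ hnV
      have hbv : b' = v := by
        calc b' = x⁻¹ * (x * b' * x⁻¹) * x := by group
          _ = x⁻¹ * (x * v * x⁻¹) * x := by rw [h, hxV v (hVB ▸ hv)]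
          _ = v := by group
      rw [hbv]
      exact hv
    · rw [h, cm_mul_left (hcomV v (Or.inl hv.1) _ (hvals q' hq'A b (Or.inl hb))), hvq,
        mul_one] at h1
      exact h1
    · exact absurd (fixed_of_coset L he DB hx hb'B hv h) hnV
    · rw [h, cm_mul_left (hcomV v (Or.inl hv.1) _ (hvals q' hq'A _ (Or.inl (B.mul_mem hb hb'B)))),
        hvq, mul_one, cm_mul_left (by rw [hqq']; exact Commute.one_right b), hqq', one_mul] at h1
      exact h1
  rcases hVmemt c hcV' with h | h | h | h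
  · exact hbV (hAB ▸ (⟨ker_crit L ht hx hxt (hBt hb) (hcomV b (Or.inl hb)) hqA hqV (Or.inl hqq)
      (Or.inl (hcb.trans h)), hb⟩ : b ∈ A ⊓ B))
  · exact hbV (hAB ▸ (⟨ker_crit L ht hx hxt (hBt hb) (hcomV b (Or.inl hb)) hqA hqV (Or.inl hqq)
      (Or.inr (hcb.trans h)), hb⟩ : b ∈ A ⊓ B))
  · refine hqV (hAB ▸ (⟨hqA, ker_crit L he hx hex (hAe hqA) ?_ hb hbV'
      (Or.inl (cm_eq_one.2 hqbc)) ?_⟩ : q ∈ A ⊓ B))
    · intro v hv
      exact comm_of_sq DA.sq hqA (hVB ▸ hv : v ∈ V).1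
    · right
      rw [← hb', cm_swap, ← hc, h, inv_eq_of_mul_eq_one_right he2]
  · have hc0V : (c0 : G) ∉ C ⊓ cz x := fun hm => hbV (hAB ▸ (⟨(by
      have hmA : (c0 : G) ∈ A := (hVC ▸ hm : (c0 : G) ∈ V).1
      have hbq : b = q⁻¹ * c0 := by rw [← hqb]; group
      rw [hbq]
      exact A.mul_mem (A.inv_mem hqA) hmA), hb⟩ : b ∈ A ⊓ B))
    refine hqV (hAC ▸ (⟨hqA, ker_crit L hf hx hfx (hAf hqA) ?_ c0.2 hc0V ?_ ?_⟩ : q ∈ A ⊓ C))
    · intro v hv
      exact comm_of_sq DA.sq hqA (hVC ▸ hv : v ∈ V).1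
    · left
      rw [cm_eq_one, ← hqb]
      exact (Commute.refl q).mul_right hqbc
    · right
      have e1 : x * (c0 : G) * x⁻¹ = q' * b' := by rw [← hqb, hq', hb']; group
      rw [e1, cm_mul_right (by
        rw [cm_swap, ← hc]; exact (comm_of_sq DA.sq hq'A hcV'.1).inv_right),
        cm_eq_one.2 (comm_of_sq DA.sq hqA hq'A), one_mul, cm_swap, ← hc, h,
        inv_eq_of_mul_eq_one_right (DA.sq _ hfV.1)]

end H91.M23R
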