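import Cfsg.Agent.H78.M22R.FromNse
import Cfsg.Agent.H27.SolCount
import Mathlib.GroupTheory.SpecificGroups.Cyclic

/-! Counting elements by order through cyclic Sylow subgroups and commuting parts. -/

set_option autoImplicit false
set_option linter.style.haveILetI false

namespace H91.M23R

open Subgroup H78.M22R

variable {G : Type*} [Group G] [Finite G]

omit [Finite G] in
theorem centralizer_zpowers (z : G) : centralizer (zpowers z : Set G) = cz z := by
  rw [zpowers_eq_closure, centralizer_closure]

/-- A cyclic subgroup of the full prime power order is a Sylow subgroup. -/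
theorem exists_sylow_zpowers {p k : ℕ} [Fact p.Prime] (hk : (Nat.card G).factorization p = k)
    {g : G} (hg : orderOf g = p ^ k) : ∃ S : Sylow p G, (S : Subgroup G) = zpowers g :=
  ⟨Sylow.ofCard (zpowers g) (by rw [Nat.card_zpowers, hg, hk]), rfl⟩

/-- With a cyclic Sylow subgroup every element of that order generates one Sylow subgroup. -/
theorem cnt_eq_sylow_mul {p k : ℕ} [Fact p.Prime] (hk : (Nat.card G).factorization p = k) {g : G}
    (hg : orderOf g = p ^ k) : cnt G (p ^ k) = Nat.card (Sylow p G) * Nat.totient (p ^ k) := by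
  classical
  haveI : Fintype (Sylow p G) := Fintype.ofFinite _
  obtain ⟨S0, hS0⟩ := exists_sylow_zpowers hk hg
  have hcard : ∀ S : Sylow p G, Nat.card (S : Subgroup G) = p ^ k := fun S => by
    rw [Sylow.card_eq_multiplicity, hk]
  have hfib : ∀ S : Sylow p G,
      Nat.card {x : (S : Subgroup G) // orderOf x = p ^ k} = Nat.totient (p ^ k) := by
    intro S
    obtain ⟨c, hc⟩ := MulAction.exists_smul_eq G S0 S
    have hm : c * g * c⁻¹ ∈ (S : Subgroup G) := by
      rw [← hc, Sylow.coe_subgroup_smul]
      exact ⟨g, hS0.ge (mem_zpowers g), rfl⟩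
    haveI : IsCyclic (S : Subgroup G) := isCyclic_of_orderOf_eq_card ⟨c * g * c⁻¹, hm⟩
      (by rw [Subgroup.orderOf_mk, H78.M22R.orderOf_conj', hg, hcard])
    haveI := Fintype.ofFinite (S : Subgroup G)
    rw [Nat.card_eq_fintype_card, Fintype.card_subtype]
    exact IsCyclic.card_orderOf_eq_totient (by rw [← Nat.card_eq_fintype_card, hcard])
  let f : (Σ S : Sylow p G, {x : (S : Subgroup G) // orderOf x = p ^ k}) →
      {x : G // orderOf x = p ^ k} := fun a =>
    ⟨a.2.1.1, by rw [Subgroup.orderOf_coe]; exact a.2.2⟩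
  have hf : Function.Bijective f := by
    constructor
    · rintro ⟨S, ⟨x, hx⟩, hxo⟩ ⟨S', ⟨x', hx'⟩, hxo'⟩ e
      have e' : x = x' := congrArg Subtype.val e
      subst e'
      have key : ∀ T : Sylow p G, x ∈ (T : Subgroup G) → (T : Subgroup G) = zpowers x :=
        fun T hT => (eq_of_le_of_card_ge (zpowers_le.2 hT) (by
          rw [hcard, Nat.card_zpowers]
          rw [Subgroup.orderOf_mk] at hxo
          rw [hxo])).symm
      obtain rfl : S = S' := Sylow.ext ((key S hx).trans (key S' hx').symm)
      rfl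
    · rintro ⟨x, hx⟩
      obtain ⟨S, hS⟩ := exists_sylow_zpowers hk hx
      exact ⟨⟨S, ⟨x, hS.ge (mem_zpowers x)⟩, by rw [Subgroup.orderOf_mk]; exact hx⟩, rfl⟩
  rw [cnt, ← Nat.card_congr (Equiv.ofBijective f hf), Nat.card_sigma,
    Finset.sum_congr rfl (fun S _ => hfib S), Finset.sum_const, smul_eq_mul, Finset.card_univ,
    ← Nat.card_eq_fintype_card]

/-- The normaliser of such a subgroup from the count. -/
theorem card_normalizer {p k : ℕ} [Fact p.Prime] (hk : (Nat.card G).factorization p = k) {g : G}
    (hg : orderOf g = p ^ k) :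
    cnt G (p ^ k) * Nat.card (normalizer (zpowers g : Set G)) =
      Nat.totient (p ^ k) * Nat.card G := by
  obtain ⟨S, hS⟩ := exists_sylow_zpowers hk hg
  have hS' : ((S : Subgroup G) : Set G) = (zpowers g : Set G) := by rw [hS]
  rw [cnt_eq_sylow_mul hk hg, S.card_eq_index_normalizer, show (S : Set G) = (zpowers g : Set G) from hS',
    ← (normalizer (zpowers g : Set G)).card_mul_index]
  ring

/-- The centraliser has index dividing the totient in the normaliser. -/
theorem card_normalizer_eq (z : G) : ∃ d, d ∣ Nat.totient (orderOf z) ∧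
    Nat.card (normalizer (zpowers z : Set G)) = d * Nat.card (cz z) := by
  have h := (normalizerMonoidHom (zpowers z)).ker.card_mul_index
  rw [Subgroup.index_ker, normalizerMonoidHom_ker, centralizer_zpowers] at h
  have hle : cz z ≤ normalizer (zpowers z : Set G) := by
    rw [← centralizer_zpowers]; exact centralizer_le_normalizer _
  rw [Nat.card_congr (subgroupOfEquivOfLe hle).toEquiv] at h
  refine ⟨Nat.card (normalizerMonoidHom (zpowers z)).range, ?_, ?_⟩
  · have := card_subgroup_dvd_card (normalizerMonoidHom (zpowers z)).range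
    rwa [IsCyclic.card_mulAut, Nat.card_zpowers] at this
  · rw [mul_comm]; exact h.symm

/-- Elements of order a product of two primes, one of them with a Sylow subgroup of prime order. -/
theorem cnt_mul_prime {p q : ℕ} [hp : Fact p.Prime] [hq : Fact q.Prime] (hpq : p ≠ q)
    (hk : (Nat.card G).factorization p = 1) {z : G} (hz : orderOf z = p) :
    cnt G (p * q) = cnt G p * Nat.card {w : G // orderOf w = q ∧ Commute w z} := by
  classical
  haveI := Fintype.ofFinite G
  have hcop : Nat.Coprime p q := (Nat.coprime_primes hp.out hq.out).2 hpq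
  let f : (Σ x : {g : G // orderOf g = p}, {w : G // orderOf w = q ∧ Commute w x.1}) →
      {g : G // orderOf g = p * q} := fun a =>
    ⟨a.1.1 * a.2.1, by
      rw [a.2.2.2.symm.orderOf_mul_eq_mul_orderOf_of_coprime (by rw [a.1.2, a.2.2.1]; exact hcop),
        a.1.2, a.2.2.1]⟩
  have hf : Function.Bijective f := by
    constructor
    · rintro ⟨⟨x, hx⟩, ⟨w, hw, hc⟩⟩ ⟨⟨x', hx'⟩, ⟨w', hw', hc'⟩⟩ e
      have e1 : x * w = x' * w' := congrArg Subtype.val e
      have e' : (x * w) ^ q = (x' * w') ^ q := by rw [e1]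
      rw [hc.symm.mul_pow, hc'.symm.mul_pow, H78.M22R.pow_eq_one_of (g := w) (by rw [hw]),
        H78.M22R.pow_eq_one_of (g := w') (by rw [hw']), mul_one, mul_one] at e'
      obtain ⟨u, hu⟩ := Nat.exists_mul_mod_eq_one_of_coprime hcop.symm hp.out.one_lt
      have h1 : ∀ c : G, orderOf c = p → (c ^ q) ^ u = c := fun c hc => by
        rw [← pow_mul, ← pow_mod_orderOf, hc, hu.2, pow_one]
      have ex : x = x' := by rw [← h1 x hx, e', h1 x' hx']
      subst ex
      obtain rfl : w = w' := mul_left_cancel e1
      rfl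
    · rintro ⟨g, hg⟩
      obtain ⟨y, w, hc, hy, hw, rfl⟩ :=
        H27.exists_split hcop (x := g) (H78.M22R.pow_eq_one_of (by rw [hg]))
      have hyd := orderOf_dvd_of_pow_eq_one hy
      have hwd := orderOf_dvd_of_pow_eq_one hw
      have hmul : p * q ∣ orderOf y * orderOf w := hg ▸ hc.orderOf_mul_dvd_mul_orderOf
      have hyo : orderOf y = p := by
        rcases (Nat.dvd_prime hp.out).1 hyd with e | e
        · rw [e, one_mul] at hmul
          exact absurd ((Nat.prime_dvd_prime_iff_eq hp.out hq.out).1
            ((dvd_mul_right p q).trans (hmul.trans hwd))) hpq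
        · exact e
      have hwo : orderOf w = q := by
        rcases (Nat.dvd_prime hq.out).1 hwd with e | e
        · rw [e, mul_one] at hmul
          exact absurd ((Nat.prime_dvd_prime_iff_eq hq.out hp.out).1
            ((dvd_mul_left q p).trans (hmul.trans hyd))) hpq.symm
        · exact e
      exact ⟨⟨⟨y, hyo⟩, ⟨w, hwo, hc.symm⟩⟩, rfl⟩
  have hfib : ∀ x : {g : G // orderOf g = p},
      Nat.card {w : G // orderOf w = q ∧ Commute w x.1} =
        Nat.card {w : G // orderOf w = q ∧ Commute w z} := by
    intro x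
    obtain ⟨S, hS⟩ := exists_sylow_zpowers hk (g := z) (by rw [pow_one, hz])
    obtain ⟨S', hS'⟩ := exists_sylow_zpowers hk (g := x.1) (by rw [pow_one, x.2])
    obtain ⟨c, hc⟩ := MulAction.exists_smul_eq G S S'
    have hmem : c * z * c⁻¹ ∈ zpowers x.1 := by
      rw [← hS', ← hc, Sylow.coe_subgroup_smul]
      exact ⟨z, hS.ge (mem_zpowers z), rfl⟩
    have heq : zpowers (c * z * c⁻¹) = zpowers x.1 := eq_of_le_of_card_ge (zpowers_le.2 hmem)
      (by rw [Nat.card_zpowers, Nat.card_zpowers, H78.M22R.orderOf_conj', hz, x.2])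
    have hcz : cz x.1 = cz (c * z * c⁻¹) := by
      rw [← centralizer_zpowers, ← centralizer_zpowers, heq]
    refine (Nat.card_congr ((MulAut.conj c).toEquiv.subtypeEquiv fun w => ?_)).symm
    rw [← mem_cz (x := x.1), hcz, mem_cz]
    simp only [MulEquiv.toEquiv_eq_coe, MulEquiv.coe_toEquiv, MulAut.conj_apply,
      H78.M22R.orderOf_conj', commute_conj_iff]
  rw [cnt, ← Nat.card_congr (Equiv.ofBijective f hf), Nat.card_sigma,
    Finset.sum_congr rfl (fun x _ => hfib x), Finset.sum_const, smul_eq_mul, Finset.card_univ,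
    ← Nat.card_eq_fintype_card]
  rfl

/-- Elements whose order lies in a given set. -/
theorem card_orders (S : Finset ℕ) :
    Nat.card {g : G // orderOf g ∈ S} = ∑ n ∈ S, cnt G n := by
  classical
  haveI := Fintype.ofFinite G
  simp only [cnt, Nat.card_eq_fintype_card, Fintype.card_subtype]
  rw [← Finset.card_biUnion (fun a _ b _ hab => Finset.disjoint_left.2 fun g ha hb =>
    hab ((Finset.mem_filter.1 ha).2.symm.trans (Finset.mem_filter.1 hb).2))]
  congr 1
  ext g
  simp

omit [Finite G] in
/-- Elements of a given order in a centraliser. -/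
theorem cnt_cz (t : G) (n : ℕ) :
    cnt (cz t) n = Nat.card {g : G // orderOf g = n ∧ Commute g t} :=
  Nat.card_congr
    { toFun := fun g => ⟨g.1.1, by rw [Subgroup.orderOf_coe]; exact g.2, mem_cz.1 g.1.2⟩
      invFun := fun g => ⟨⟨g.1, mem_cz.2 g.2.2⟩, by rw [Subgroup.orderOf_mk]; exact g.2.1⟩
      left_inv := fun g => rfl
      right_inv := fun g => rfl }

/-- Elements of even order have exactly one power that is an involution. -/
theorem card_inv_powers {g : G} (hg : Even (orderOf g)) :
    Nat.card {t : G // orderOf t = 2 ∧ t ∈ zpowers g} = 1 := by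
  classical
  haveI := Fintype.ofFinite (zpowers g)
  rw [show Nat.card {t : G // orderOf t = 2 ∧ t ∈ zpowers g} =
      Nat.card {x : zpowers g // orderOf x = 2} from Nat.card_congr
    { toFun := fun t => ⟨⟨t.1, t.2.2⟩, by rw [Subgroup.orderOf_mk]; exact t.2.1⟩
      invFun := fun x => ⟨x.1.1, by rw [Subgroup.orderOf_coe]; exact x.2, x.1.2⟩
      left_inv := fun t => rfl
      right_inv := fun x => rfl },
    Nat.card_eq_fintype_card, Fintype.card_subtype,
    IsCyclic.card_orderOf_eq_totient (by rw [← Nat.card_eq_fintype_card, Nat.card_zpowers]; exact hg.two_dvd)]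
  rfl

end H91.M23R
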