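import Cfsg.Agent.H91.M23R.ThreeT

/-! Fusion of the four-group inside the centraliser of an element of order 3. -/

set_option autoImplicit false

namespace H91.M23R

open Subgroup H78.M22R

variable {G : Type*} [Group G] [Finite G] {t x : G} {E : Subgroup G} (L : Loc G)
include L

theorem two_group_le_four (ht : orderOf t = 2) (hx : orderOf x = 3) (hxt : x ∈ cz t)
    {P : Subgroup G} (hP : P ≤ cz x) (hP2 : IsPGroup 2 P) (htP : t ∈ P) : Nat.card P ≤ 4 := by
  haveI := Fact.mk Nat.prime_two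
  haveI : Nontrivial P := ⟨⟨⟨t, htP⟩, 1, fun h => by
    have := congrArg Subtype.val h
    rw [show t = 1 from this, orderOf_one] at ht
    omega⟩⟩
  haveI := hP2.center_nontrivial
  obtain ⟨k, hk⟩ := (hP2.to_subgroup (center P)).exists_card_eq
  have h2 : 2 ∣ Nat.card (center P) := by
    rcases k with _ | k
    · rw [pow_zero] at hk
      exact absurd hk (Finite.one_lt_card (α := center P)).ne'
    · rw [hk]; exact dvd_pow_self 2 (Nat.succ_ne_zero k)
  obtain ⟨z, hz, hzo⟩ := exists_orderOf 2 h2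
  have hzG : orderOf (z : G) = 2 := by rw [Subgroup.orderOf_coe]; exact hzo
  have hle : P ≤ cz (z : G) ⊓ cz x := fun p hp => ⟨mem_cz.2 (congrArg Subtype.val
    (Subgroup.mem_center_iff.1 hz ⟨p, hp⟩) : p * z = z * p), hP hp⟩
  have hxz : x ∈ cz (z : G) := mem_cz.2 (mem_cz.1 (hP z.2)).symm
  obtain ⟨F, DF⟩ := exists_cd L hzG
  have hd := Subgroup.card_dvd_of_le hle
  rw [card_twelve L hzG DF hx hxz] at hd
  obtain ⟨j, hj⟩ := hP2.exists_card_eq
  rw [hj] at hd ⊢
  have : j ≤ 2 := by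
    by_contra h
    have h8 := (pow_dvd_pow 2 (show 3 ≤ j by omega)).trans hd
    norm_num at h8
  calc 2 ^ j ≤ 2 ^ 2 := Nat.pow_le_pow_right (by norm_num) this
    _ = 4 := by norm_num

theorem exists_fusion (ht : orderOf t = 2) (D : Cd t E) (hx : orderOf x = 3) (hxt : x ∈ cz t) :
    ∃ y ∈ cz x, (∀ v ∈ E ⊓ cz x, y * v * y⁻¹ ∈ E ⊓ cz x) ∧
      ∀ v ∈ E ⊓ cz x, v ≠ 1 → y * v * y⁻¹ ≠ v := by
  classical
  haveI := Fact.mk Nat.prime_two
  set V := E ⊓ cz x with hV
  have hV4 : Nat.card V = 4 := card_four L ht D hx hxt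
  have hVsq : ∀ v ∈ V, v * v = 1 := fun v hv => D.sq v hv.1
  have hVcomm : ∀ u ∈ V, ∀ v ∈ V, Commute u v := fun u hu v hv =>
    cz_inf_comm L ht D hx hxt ⟨D.le hu.1, hu.2⟩ ⟨D.le hv.1, hv.2⟩
  -- an element of the normaliser fixing one involution of V fixes all
  suffices h : ∃ y ∈ cz x, (∀ v ∈ V, y * v * y⁻¹ ∈ V) ∧ ∃ v ∈ V, y * v * y⁻¹ ≠ v by
    obtain ⟨y, hyx, hyV, u, hu, hne⟩ := h
    refine ⟨y, hyx, hyV, fun v hv hv1 he => hne ?_⟩
    have hvo : orderOf v = 2 := orderOf_eq_prime (by rw [pow_two]; exact hVsq v hv) hv1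
    have hyv : y ∈ cz v := mem_cz.2 (mul_inv_eq_iff_eq_mul.1 he)
    have hxv : x ∈ cz v := mem_cz.2 (mem_cz.1 hv.2).symm
    obtain ⟨F, DF⟩ := exists_cd L hvo
    have huv : u ∈ cz v := mem_cz.2 (hVcomm u hu v hv)
    have := cz_inf_comm L hvo DF hx hxv (a := y) (b := u) ⟨hyv, hyx⟩ ⟨huv, hu.2⟩
    rw [this.eq, mul_inv_cancel_right]
  by_contra hno
  push_neg at hno
  set K := cz x with hK
  have hVK : V ≤ K := inf_le_right
  have htV : t ∈ V := ⟨D.t_mem, mem_cz.2 (mem_cz.1 hxt).symm⟩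
  let P : Sylow 2 K :=
    { toSubgroup := V.subgroupOf K
      isPGroup' := (IsPGroup.of_card (n := 2) hV4).of_equiv
        (Subgroup.subgroupOfEquivOfLe hVK).symm
      is_maximal' := by
        intro Q hQ hle
        refine le_antisymm ?_ hle
        have hQ4 : Nat.card (Q.map K.subtype) ≤ 4 :=
          two_group_le_four L ht hx hxt (map_subtype_le Q) (hQ.map _)
            ⟨⟨t, hVK htV⟩, hle htV, rfl⟩
        rw [Subgroup.card_map_of_injective K.subtype_injective] at hQ4
        refine (Subgroup.eq_of_le_of_card_ge hle ?_).ge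
        rw [Nat.card_congr (Subgroup.subgroupOfEquivOfLe hVK).toEquiv, hV4]
        exact hQ4 }
  have hPmem : ∀ g : K, g ∈ (P : Subgroup K) ↔ (g : G) ∈ V := fun g => Iff.rfl
  have hP : normalizer ((P : Subgroup K) : Set K) ≤ centralizer ((P : Subgroup K) : Set K) := by
    intro n hn
    rw [Subgroup.mem_centralizer_iff]
    intro v hv
    have hyV : ∀ u ∈ V, (n : G) * u * (n : G)⁻¹ ∈ V := fun u hu =>
      (Subgroup.mem_normalizer_iff.1 hn ⟨u, hVK hu⟩).1 hu
    have := hno n n.2 hyV (v : G) hv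
    exact Subtype.ext (mul_inv_eq_iff_eq_mul.1 this).symm
  let φ := MonoidHom.transferSylow P hP
  have hcomp := MonoidHom.ker_transferSylow_isComplement' P hP
  have hodd := MonoidHom.not_dvd_card_ker_transferSylow P hP
  have hPc : Nat.card (P : Subgroup K) = 4 := by
    show Nat.card (V.subgroupOf K) = 4
    rw [Nat.card_congr (Subgroup.subgroupOfEquivOfLe hVK).toEquiv, hV4]
  set O := φ.ker with hO
  have hOK : Nat.card O * 4 = Nat.card K := by rw [← hPc]; exact hcomp.card_mul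
  have h180 := L.cent3 x hx
  have hO45 : 45 ≤ Nat.card O := by
    have : 180 ≤ Nat.card K := h180
    omega
  have hOG : Nat.card O ∣ 128 * (9 * (5 * (7 * (11 * 23)))) := by
    have h1 : Nat.card O ∣ Nat.card G := (Subgroup.card_subgroup_dvd_card O).trans
      (Subgroup.card_subgroup_dvd_card K)
    rw [L.card] at h1
    exact h1
  have hcop2 : Nat.Coprime (Nat.card O) 128 :=
    ((Nat.prime_two.coprime_iff_not_dvd.2 hodd).symm).pow_right 7
  have hO' := hcop2.dvd_of_dvd_mul_left hOG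
  obtain ⟨r, hr, hr2⟩ : ∃ r, (r = 5 ∨ r = 7 ∨ r = 11 ∨ r = 23) ∧ r ∣ Nat.card O := by
    by_contra hh
    push_neg at hh
    have c : ∀ r, r.Prime → (r = 5 ∨ r = 7 ∨ r = 11 ∨ r = 23) → Nat.Coprime (Nat.card O) r :=
      fun r hr h => ((hr.coprime_iff_not_dvd).2 (hh r h)).symm
    have h9 : Nat.card O ∣ 9 := (Nat.Coprime.mul_right (c 5 (by decide) (by omega))
      (Nat.Coprime.mul_right (c 7 (by decide) (by omega)) (Nat.Coprime.mul_right
        (c 11 (by decide) (by omega)) (c 23 (by decide) (by omega))))).dvd_of_dvd_mul_right hO'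
    have := Nat.le_of_dvd (by norm_num) h9
    omega
  have hrp : r.Prime := by rcases hr with rfl | rfl | rfl | rfl <;> decide
  haveI := Fact.mk hrp
  by_cases h7 : r = 7
  · obtain ⟨z, hz, hzo⟩ := exists_orderOf r hr2
    have hzG : orderOf (z : G) = 7 := by rw [Subgroup.orderOf_coe, hzo, h7]
    have hxz : x ∈ cz (z : G) := mem_cz.2 (mem_cz.1 z.2).symm
    have := Subgroup.orderOf_dvd_natCard _ hxz
    rw [hx, L.cent7 (z : G) hzG] at this
    norm_num at this
  -- Frattini argument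
  haveI : O.Normal := MonoidHom.normal_ker φ
  obtain ⟨R⟩ : Nonempty (Sylow r O) := inferInstance
  have hsup := Sylow.normalizer_sup_eq_top R
  set N := normalizer ((R : Subgroup O).map O.subtype : Set K) with hN
  have hrange : N.map φ = ⊤ := by
    have h1 : (N ⊔ O).map φ = N.map φ := by
      rw [Subgroup.map_sup, hO, (MonoidHom.ker φ).map_eq_bot_iff.2 le_rfl, sup_bot_eq]
    rw [← h1, hsup, Subgroup.map_top_of_surjective]
    intro p
    have hb : Function.Bijective (φ.domRestrict (P : Subgroup K)) :=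
      (MonoidHom.transferSylow_domRestrict_eq_pow P hP).symm ▸
        (P.2.powEquiv' P.not_dvd_index).bijective
    obtain ⟨q, hq⟩ := hb.2 p
    exact ⟨q, hq⟩
  have h4N : 4 ∣ Nat.card N := by
    have h := Subgroup.card_map_dvd (H := N) φ
    rw [hrange, Subgroup.card_top, hPc] at h
    exact h
  obtain ⟨V', hV'⟩ := Sylow.exists_subgroup_card_pow_prime (G := N) 2 (n := 2) (by
    rw [show 2 ^ 2 = 4 from rfl]; exact h4N)
  have hsq' : ∀ v : N, v ∈ V' → v * v = 1 := by
    intro v hv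
    have hS : IsPGroup 2 (V'.map N.subtype) := (IsPGroup.of_card hV').map _
    obtain ⟨S, hS'⟩ := hS.exists_le_sylow
    obtain ⟨g, hg⟩ := MulAction.exists_smul_eq K P S
    have hm : (v : K) ∈ (S : Subgroup K) := hS' ⟨v, hv, rfl⟩
    rw [← hg, Sylow.coe_subgroup_smul] at hm
    obtain ⟨p, hp, hpe⟩ := hm
    apply Subtype.ext
    apply Subtype.ext
    have hpe' : ((v : K) : G) = (g : G) * p * (g : G)⁻¹ := by
      rw [← hpe]; rfl
    show ((v : K) : G) * (v : K) = 1
    rw [hpe']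
    calc (g : G) * p * (g : G)⁻¹ * ((g : G) * p * (g : G)⁻¹) = g * ((p : G) * p) * (g : G)⁻¹ := by
          group
      _ = 1 := by rw [hVsq p ((hPmem p).1 hp)]; group
  have hGr : ¬ r ^ 2 ∣ Nat.card G := by
    rw [L.card]; rcases hr with rfl | rfl | rfl | rfl <;> norm_num
  have hRc : Nat.card (R : Subgroup O) = r := by
    rw [R.card_eq_multiplicity, factorization_one hrp Nat.card_pos.ne' hr2 (fun h => hGr
      (h.trans ((Subgroup.card_subgroup_dvd_card O).trans (Subgroup.card_subgroup_dvd_card K)))),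
      pow_one]
  obtain ⟨z, hz⟩ : ∃ z : K, (R : Subgroup O).map O.subtype = zpowers z ∧ orderOf z = r := by
    have hc : Nat.card ((R : Subgroup O).map O.subtype) = r := by
      rw [Subgroup.card_map_of_injective O.subtype_injective, hRc]
    obtain ⟨z, hz, hzo⟩ := exists_orderOf r (H := (R : Subgroup O).map O.subtype) (dvd_of_eq hc.symm)
    exact ⟨z, (Subgroup.eq_of_le_of_card_ge (zpowers_le.2 hz)
      (by rw [hc, Nat.card_zpowers, hzo])).symm, hzo⟩
  have hact : ∀ v : N, v ∈ V' → (v : K) * z * (v : K)⁻¹ = z ∨ (v : K) * z * (v : K)⁻¹ = z⁻¹ := by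
    intro v hv
    have hm : (v : K) * z * (v : K)⁻¹ ∈ zpowers z := by
      have hvN : (v : K) ∈ normalizer ((R : Subgroup O).map O.subtype : Set K) := v.2
      rw [hz.1] at hvN
      exact (Subgroup.mem_normalizer_iff.1 hvN z).1 (mem_zpowers z)
    obtain ⟨n, hn⟩ := mem_zpowers_iff.1 hm
    have h2 : z ^ (n * n) = z := by
      have hv2 : (v : K) * (v : K) = 1 := congrArg Subtype.val (hsq' v hv)
      calc z ^ (n * n) = (z ^ n) ^ n := zpow_mul z n n
        _ = ((v : K) * z * (v : K)⁻¹) ^ n := by rw [hn]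
        _ = (v : K) * z ^ n * (v : K)⁻¹ := by rw [conj_zpow]
        _ = ((v : K) * v) * z * ((v : K) * v)⁻¹ := by rw [hn]; group
        _ = z := by rw [hv2]; group
    have hdvd : (r : ℤ) ∣ (n - 1) * (n + 1) := by
      rw [← hz.2, show (n - 1) * (n + 1) = n * n - 1 by ring, orderOf_dvd_iff_zpow_eq_one,
        zpow_sub, h2, zpow_one, mul_inv_cancel]
    rcases (Nat.prime_iff_prime_int.1 hrp).dvd_or_dvd hdvd with h | h
    · left
      rw [← hz.2, orderOf_dvd_iff_zpow_eq_one, zpow_sub, zpow_one, mul_inv_eq_one] at h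
      rw [← hn, h]
    · right
      rw [← hz.2, orderOf_dvd_iff_zpow_eq_one, zpow_add, zpow_one] at h
      rw [← hn]
      exact eq_inv_of_mul_eq_one_left h
  obtain ⟨v, hvne, hvV, hvc⟩ : ∃ v : N, v ≠ 1 ∧ v ∈ V' ∧ (v : K) * z * (v : K)⁻¹ = z := by
    by_contra hh
    push_neg at hh
    haveI := Fintype.ofFinite V'
    have hcard : Fintype.card V' = 4 := by
      rw [← Nat.card_eq_fintype_card, hV']; rfl
    obtain ⟨a, b, hab, ha, hb⟩ : ∃ a b : V', a ≠ b ∧ a ≠ 1 ∧ b ≠ 1 := by
      have h3 : 1 < ((Finset.univ : Finset V').erase 1).card := by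
        rw [Finset.card_erase_of_mem (Finset.mem_univ _), Finset.card_univ, hcard]; norm_num
      obtain ⟨a, ha, b, hb, hab⟩ := Finset.one_lt_card.1 h3
      exact ⟨a, b, hab, (Finset.mem_erase.1 ha).1, (Finset.mem_erase.1 hb).1⟩
    have hne1 : ∀ a : V', a ≠ 1 → (a : N) ≠ 1 := fun a ha h => ha (Subtype.ext h)
    have ea := (hact a a.2).resolve_left (hh a (hne1 a ha) a.2)
    have eb := (hact b b.2).resolve_left (hh b (hne1 b hb) b.2)
    have hab1 : a * b ≠ 1 := by
      intro h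
      apply hab
      have hb2 : b * b = 1 := Subtype.ext (hsq' b b.2)
      calc a = a * (b * b) := by rw [hb2, mul_one]
        _ = b := by rw [← mul_assoc, h, one_mul]
    refine hh (a * b : V') (hne1 _ hab1) (a * b).2 ?_
    show ((a : N) : K) * ((b : N) : K) * z * (((a : N) : K) * ((b : N) : K))⁻¹ = z
    calc ((a : N) : K) * ((b : N) : K) * z * (((a : N) : K) * ((b : N) : K))⁻¹
        = ((a : N) : K) * (((b : N) : K) * z * ((b : N) : K)⁻¹) * ((a : N) : K)⁻¹ := by group
      _ = (((a : N) : K) * z * ((a : N) : K)⁻¹)⁻¹ := by rw [eb]; group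
      _ = z := by rw [ea, inv_inv]
  have hvo : orderOf ((v : K) : G) = 2 := by
    refine orderOf_eq_prime ?_ (fun h => hvne (Subtype.ext (Subtype.ext h)))
    rw [pow_two]
    exact congrArg (fun q : N => ((q : K) : G)) (hsq' v hvV)
  have hzv : (z : G) ∈ cz ((v : K) : G) :=
    mem_cz.2 (congrArg Subtype.val (mul_inv_eq_iff_eq_mul.1 hvc).symm : (z : G) * (v : K) = (v : K) * z)
  have := Subgroup.orderOf_dvd_natCard _ hzv
  rw [Subgroup.orderOf_coe, hz.2, L.cent2 _ hvo] at this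
  rcases hr with rfl | rfl | rfl | rfl
  · norm_num at this
  · exact h7 rfl
  · norm_num at this
  · norm_num at this

end H91.M23R
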