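import Cfsg.Agent.H91.M23R.Core

/-! The sixteen-group is a TI subgroup with transitive normaliser. -/

set_option autoImplicit false

namespace H91.M23R

open Subgroup H78.M22R

variable {G : Type*} [Group G] [Finite G] (L : Loc G)
include L

theorem sixteen_mem {t : G} (ht : orderOf t = 2) {v : G} (hv : v ∈ sixteen L ht)
    (hvo : orderOf v = 2) : sixteen L hvo = sixteen L ht := by
  classical
  by_cases hvt : v = t
  · exact sixteen_eq L hvo ht hvt
  set A := sixteen L ht with hA
  have DA : Cd t A := sixteen_spec L ht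
  obtain ⟨x, hx, hxt⟩ := exists_three L ht
  set V := A ⊓ cz x with hV
  have hV4 : Nat.card V = 4 := card_four L ht DA hx hxt
  have htV : t ∈ V := ⟨DA.t_mem, mem_cz.2 (mem_cz.1 hxt).symm⟩
  have ht2 : t * t = 1 := DA.sq t DA.t_mem
  have ht1 : t ≠ 1 := fun h => by rw [h, orderOf_one] at ht; omega
  obtain ⟨y, hyx, hyV, hyne⟩ := exists_fusion L ht DA hx hxt
  set e := y * t * y⁻¹ with he
  have heV : e ∈ V := hyV t htV
  have hte : t ≠ e := fun h => hyne t htV ht1 h.symm
  have he1 : e ≠ 1 := fun h => ht1 (by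
    rw [he, mul_inv_eq_one, mul_eq_left] at h; exact h)
  have he2 : e * e = 1 := DA.sq e heV.1
  have hf1 : t * e ≠ 1 := fun h => hte (by
    calc t = t * (e * e) := by rw [he2, mul_one]
      _ = e := by rw [← mul_assoc, h, one_mul])
  have hVcases : ∀ u ∈ V, u = 1 ∨ u = t ∨ u = e ∨ u = t * e := by
    intro u hu
    by_contra hh
    push_neg at hh
    haveI := Fintype.ofFinite V
    have hsub : ({1, t, e, t * e, u} : Finset G) ⊆
        Finset.univ.image (fun p : V => (p : G)) := by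
      intro g hg
      simp only [Finset.mem_insert, Finset.mem_singleton] at hg
      have hgV : g ∈ V := by
        rcases hg with rfl | rfl | rfl | rfl | rfl
        exacts [V.one_mem, htV, heV, V.mul_mem htV heV, hu]
      exact Finset.mem_image.2 ⟨⟨g, hgV⟩, Finset.mem_univ _, rfl⟩
    have h5 := Finset.card_le_card hsub
    rw [Finset.card_image_of_injective _ Subtype.val_injective, Finset.card_univ,
      ← Nat.card_eq_fintype_card, hV4] at h5
    have htf : t ≠ t * e := fun h => he1 (mul_left_cancel ((mul_one t).trans h)).symm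
    have hef : e ≠ t * e := fun h => ht1 (mul_right_cancel ((one_mul e).trans h)).symm
    rw [Finset.card_insert_of_notMem (by simp [ht1.symm, he1.symm, hf1.symm, hh.1.symm]),
      Finset.card_insert_of_notMem (by simp [hte, htf, hh.2.1.symm]),
      Finset.card_insert_of_notMem (by simp [hef, hh.2.2.1.symm]),
      Finset.card_insert_of_notMem (by simp [hh.2.2.2.symm]), Finset.card_singleton] at h5
    omega
  have hy2 : y * e * y⁻¹ = t * e := by
    rcases hVcases _ (hyV e heV) with h | h | h | h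
    · exact absurd (by rw [mul_inv_eq_one, mul_eq_left] at h; exact h) he1
    · exfalso
      refine hyne (t * e) (V.mul_mem htV heV) hf1 ?_
      calc y * (t * e) * y⁻¹ = (y * t * y⁻¹) * (y * e * y⁻¹) := by group
        _ = e * t := by rw [← he, h]
        _ = t * e := (comm_of_sq DA.sq heV.1 DA.t_mem).eq
    · exact absurd h (hyne e heV he1)
    · exact h
  have hy3 : y * (t * e) * y⁻¹ = t := by
    calc y * (t * e) * y⁻¹ = (y * t * y⁻¹) * (y * e * y⁻¹) := by group
      _ = e * (t * e) := by rw [← he, hy2]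
      _ = t := by
        rw [(comm_of_sq DA.sq DA.t_mem heV.1).eq, ← mul_assoc, he2, one_mul]
  have heo : orderOf e = 2 := orderOf_two L he2 he1
  have hfo : orderOf (t * e) = 2 := orderOf_two L (DA.sq _ (V.mul_mem htV heV).1) hf1
  have hEe : sixteen L heo = A :=
    three_equal L ht heo hfo hx hxt heV hte he.symm hy2 hy3
  have hEf : sixteen L hfo = A := by
    refine (Subgroup.eq_of_le_of_card_ge (fun a ha => ?_)
      (by rw [DA.card16, (sixteen_spec L hfo).card16])).symm
    let S := A.map (MulAut.conj y).toMonoidHom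
    have hSc : Nat.card S = 16 := by
      rw [Subgroup.card_map_of_injective (MulAut.conj y).injective, DA.card16]
    have hSA : S = A := Subgroup.eq_of_le_of_card_ge (by
      rintro c ⟨d, hd, rfl⟩
      have h := sixteen_conj L ht heo he.symm hd
      rw [hEe] at h
      exact h) (by rw [hSc, DA.card16])
    obtain ⟨d, hd, rfl⟩ := (hSA.ge ha : a ∈ S)
    exact sixteen_conj L heo hfo hy2 (by rw [hEe]; exact hd)
  -- conjugates of e and te under an element of order 7 cover A
  obtain ⟨w, hw, hwt⟩ := exists_seven L ht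
  have hw7 : w ^ 7 = 1 := hw ▸ pow_orderOf_eq_one w
  have hwA : ∀ (i : ℕ) (a : G), a ∈ A → w ^ i * a * (w ^ i)⁻¹ ∈ A :=
    fun i a ha => DA.norm _ (pow_mem hwt i) a ha
  have hconj : ∀ (i : ℕ) (u : G) (hu : orderOf u = 2) (z : G) (hz : orderOf z = 2),
      z = w ^ i * u * (w ^ i)⁻¹ → sixteen L hu = A → sixteen L hz = A := by
    intro i u hu z hz hzu hUA
    refine (Subgroup.eq_of_le_of_card_ge (fun a ha => ?_)
      (by rw [DA.card16, (sixteen_spec L hz).card16])).symm
    have ha' := DA.norm (w ^ i)⁻¹ (inv_mem (pow_mem hwt i)) a ha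
    rw [inv_inv] at ha'
    have := sixteen_conj L hu hz hzu.symm (hUA.symm ▸ ha')
    rwa [show w ^ i * ((w ^ i)⁻¹ * a * w ^ i) * (w ^ i)⁻¹ = a by group] at this
  let f : Fin 7 × Bool → A := fun p => ⟨(if p.2 then t else 1) * (w ^ p.1.1 * e * (w ^ p.1.1)⁻¹),
    A.mul_mem (by split <;> simp [DA.t_mem]) (hwA _ _ heV.1)⟩
  have hwt' : ∀ i : ℕ, w ^ i * t * (w ^ i)⁻¹ = t := fun i => by
    rw [((mem_cz.1 hwt).pow_left i).eq, mul_inv_cancel_right]
  have hne2 : ∀ i : ℕ, i % 7 ≠ 0 → ∀ s : G, s = 1 ∨ s = t → w ^ i * e * (w ^ i)⁻¹ ≠ s * e := by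
    intro i hi s hs h
    haveI : Fact (Nat.Prime 7) := ⟨by decide⟩
    have hwo : orderOf (w ^ i) = 7 := by
      refine orderOf_eq_prime (by rw [← pow_mul, mul_comm, pow_mul, hw7, one_pow]) ?_
      intro h1
      have := orderOf_dvd_of_pow_eq_one h1
      rw [hw] at this
      omega
    have hcom : Commute (w ^ i) e := by
      refine mul_inv_eq_iff_eq_mul.1 ?_
      rcases hs with hs' | hs' <;> rw [hs'] at h
      · rw [h, one_mul]
      · exfalso
        have hsq : (w ^ i) ^ 2 * e * ((w ^ i) ^ 2)⁻¹ = e := by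
          calc (w ^ i) ^ 2 * e * ((w ^ i) ^ 2)⁻¹
              = w ^ i * (w ^ i * e * (w ^ i)⁻¹) * (w ^ i)⁻¹ := by rw [pow_two]; group
            _ = w ^ i * (t * e) * (w ^ i)⁻¹ := by rw [h]
            _ = (w ^ i * t * (w ^ i)⁻¹) * (w ^ i * e * (w ^ i)⁻¹) := by group
            _ = e := by rw [hwt', h, ← mul_assoc, ht2, one_mul]
        have hc2 : Commute ((w ^ i) ^ 2) e := mul_inv_eq_iff_eq_mul.1 hsq
        have h8 : ((w ^ i) ^ 2) ^ 4 = w ^ i := by
          rw [← pow_mul, show 2 * 4 = orderOf (w ^ i) + 1 by rw [hwo], pow_succ,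
            pow_orderOf_eq_one, one_mul]
        have hc : Commute (w ^ i) e := h8 ▸ hc2.pow_left 4
        rw [hc.eq, mul_inv_cancel_right] at h
        exact ht1 (mul_eq_right.1 h.symm)
    rcases DA.fix7 _ e hwo (pow_mem hwt i) heV.1 hcom with h1 | h1
    · exact he1 h1
    · exact hte h1.symm
  have hinj : Function.Injective f := by
    rintro ⟨i, b⟩ ⟨j, c⟩ h
    have h' : (if b then t else 1) * (w ^ i.1 * e * (w ^ i.1)⁻¹) =
        (if c then t else 1) * (w ^ j.1 * e * (w ^ j.1)⁻¹) := congrArg Subtype.val h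
    have hk := congrArg (fun g => w ^ (7 - j.1) * g * (w ^ (7 - j.1))⁻¹) h'
    have hinv2 : ∀ (b : Bool) (z : G),
        (if b then t else 1) * ((if b then t else 1) * z) = z := fun b z => by
      cases b <;> simp [← mul_assoc, ht2]
    have hws : ∀ (k : ℕ) (s : G) (g : G), (s = 1 ∨ s = t) →
        w ^ k * (s * g) * (w ^ k)⁻¹ = s * (w ^ k * g * (w ^ k)⁻¹) := by
      intro k s g hs
      have : Commute (w ^ k) s := by
        rcases hs with rfl | rfl
        · exact Commute.one_right _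
        · exact (mem_cz.1 hwt).pow_left k
      rw [← mul_assoc, this.eq]; group
    have hb : ∀ b : Bool, (if b then t else 1) = 1 ∨ (if b then t else 1) = t := fun b => by
      cases b <;> simp
    simp only [hws _ _ _ (hb b), hws _ _ _ (hb c)] at hk
    have hpp : ∀ k m : ℕ, w ^ k * (w ^ m * e * (w ^ m)⁻¹) * (w ^ k)⁻¹ =
        w ^ (k + m) * e * (w ^ (k + m))⁻¹ := fun k m => by rw [pow_add]; group
    rw [hpp, hpp, show 7 - j.1 + j.1 = 7 by omega, hw7] at hk
    simp only [one_mul, inv_one, mul_one] at hk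
    have hij : i = j := by
      by_contra hij
      have hi : (7 - j.1 + i.1) % 7 ≠ 0 := by
        have := Fin.val_ne_of_ne hij
        omega
      refine hne2 _ hi ((if b then t else 1) * (if c then t else 1)) ?_ ?_
      · cases b <;> cases c <;> simp [ht2]
      · calc w ^ (7 - j.1 + i.1) * e * (w ^ (7 - j.1 + i.1))⁻¹
            = (if b then t else 1) * ((if b then t else 1) *
                (w ^ (7 - j.1 + i.1) * e * (w ^ (7 - j.1 + i.1))⁻¹)) := (hinv2 b _).symm
          _ = (if b then t else 1) * ((if c then t else 1) * e) := by rw [hk]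
          _ = _ := (mul_assoc _ _ _).symm
    subst hij
    have hbc := mul_right_cancel h'
    cases b <;> cases c <;> simp at hbc ⊢
    · exact ht1 hbc.symm
    · exact ht1 hbc
  haveI := Fintype.ofFinite A
  let bad : Finset A := {⟨1, A.one_mem⟩, ⟨t, DA.t_mem⟩}
  have hsub : Finset.univ.image f ⊆ Finset.univ \ bad := by
    intro a ha
    obtain ⟨⟨i, b⟩, -, rfl⟩ := Finset.mem_image.1 ha
    refine Finset.mem_sdiff.2 ⟨Finset.mem_univ _, ?_⟩
    simp only [bad, Finset.mem_insert, Finset.mem_singleton, Subtype.ext_iff, f]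
    have hb : ∀ s : G, (s = 1 ∨ s = t) →
        (if b then t else 1) * (w ^ i.1 * e * (w ^ i.1)⁻¹) ≠ s := by
      intro s hs h
      have hs' : w ^ i.1 * e * (w ^ i.1)⁻¹ = 1 ∨ w ^ i.1 * e * (w ^ i.1)⁻¹ = t := by
        have h2 : w ^ i.1 * e * (w ^ i.1)⁻¹ = (if b then t else 1) * s := by
          rw [← h]
          cases b
          · simp
          · simp only [if_true, ← mul_assoc, ht2, one_mul]
        rcases hs with rfl | rfl <;> cases b <;> simp [ht2] at h2 <;> simp [h2]
      rcases hs' with h2 | h2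
      · exact he1 (by
          calc e = (w ^ i.1)⁻¹ * (w ^ i.1 * e * (w ^ i.1)⁻¹) * w ^ i.1 := by group
            _ = 1 := by rw [h2]; group)
      · exact hte (by
          calc t = (w ^ i.1)⁻¹ * (w ^ i.1 * t * (w ^ i.1)⁻¹) * w ^ i.1 := by group
            _ = (w ^ i.1)⁻¹ * (w ^ i.1 * e * (w ^ i.1)⁻¹) * w ^ i.1 := by rw [h2, hwt']
            _ = e := by group)
    exact not_or.2 ⟨hb 1 (Or.inl rfl), hb t (Or.inr rfl)⟩
  have hall : Finset.univ.image f = Finset.univ \ bad := by
    refine Finset.eq_of_subset_of_card_le hsub ?_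
    rw [Finset.card_image_of_injective _ hinj, Finset.card_univ_diff,
      Finset.card_pair (by simp [Subtype.ext_iff, ht1.symm]), ← Nat.card_eq_fintype_card,
      DA.card16, Finset.card_univ]
    rfl
  have hv1 : v ≠ 1 := fun h => by rw [h, orderOf_one] at hvo; omega
  have hmem : (⟨v, hv⟩ : A) ∈ Finset.univ.image f := by
    rw [hall]
    simp [bad, hv1, hvt]
  obtain ⟨⟨i, b⟩, -, hib⟩ := Finset.mem_image.1 hmem
  have hib' : (if b then t else 1) * (w ^ i.1 * e * (w ^ i.1)⁻¹) = v := congrArg Subtype.val hib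
  cases b
  · exact hconj i.1 e heo v hvo (by rw [← hib']; simp) hEe
  · refine hconj i.1 (t * e) hfo v hvo ?_ hEf
    rw [← hib']
    calc (if true then t else 1) * (w ^ i.1 * e * (w ^ i.1)⁻¹)
        = (w ^ i.1 * t * (w ^ i.1)⁻¹) * (w ^ i.1 * e * (w ^ i.1)⁻¹) := by rw [hwt']; rfl
      _ = _ := by group

/-- The TI sixteen-group. -/
theorem exists_hep : Nonempty (Hep G) := by
  classical
  haveI := Fact.mk Nat.prime_two
  obtain ⟨t, ht⟩ : ∃ t : G, orderOf t = 2 :=
    exists_prime_orderOf_dvd_card' 2 (by rw [L.card]; norm_num)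
  set A := sixteen L ht with hA
  have DA : Cd t A := sixteen_spec L ht
  have hvo : ∀ v ∈ A, v ≠ 1 → orderOf v = 2 := fun v hv h1 => orderOf_two L (DA.sq v hv) h1
  have hti : ∀ g : G, ∀ v ∈ A, v ≠ 1 → g * v * g⁻¹ ∈ A → g ∈ normalizer (A : Set G) := by
    intro g v hv h1 hgv
    have hu1 : g * v * g⁻¹ ≠ 1 := fun h => h1 (by
      rw [mul_inv_eq_one, mul_eq_left] at h; exact h)
    have h1v := sixteen_mem L ht hv (hvo v hv h1)
    have h2v := sixteen_mem L ht hgv (hvo _ hgv hu1)
    refine (Nrm.le_normalizer (C := zpowers g) ?_) (mem_zpowers g)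
    have hmap : ∀ a ∈ A, g * a * g⁻¹ ∈ A := fun a ha => by
      have h := sixteen_conj L (hvo v hv h1) (hvo _ hgv hu1) rfl (show a ∈ sixteen L _ by rw [h1v]; exact ha)
      rwa [h2v] at h
    intro c hc a ha
    have hle : (zpowers g : Subgroup G) ≤ normalizer (A : Set G) := by
      rw [zpowers_le, Subgroup.mem_normalizer_iff]
      have heq : A.map (MulAut.conj g).toMonoidHom = A := Subgroup.eq_of_le_of_card_ge
        (by rintro c ⟨d, hd, rfl⟩; exact hmap d hd)
        (le_of_eq (Subgroup.card_map_of_injective (MulAut.conj g).injective).symm)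
      intro l
      refine ⟨fun hl => hmap l hl, fun hl => ?_⟩
      obtain ⟨d, hd, hde⟩ := (heq.ge hl : g * l * g⁻¹ ∈ A.map _)
      have : d = l := mul_left_cancel (mul_right_cancel
        (show g * d * g⁻¹ = g * l * g⁻¹ from hde))
      exact this ▸ hd
    exact (Subgroup.mem_normalizer_iff.1 (hle hc) a).1 ha
  have hcent : ∀ v ∈ A, v ≠ 1 → cz v ≤ normalizer (A : Set G) := fun v hv h1 g hg =>
    hti g v hv h1 (by rw [(mem_cz.1 hg).eq, mul_inv_cancel_right]; exact hv)
  have htrans : ∀ u ∈ A, ∀ v ∈ A, u ≠ 1 → v ≠ 1 →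
      ∃ n ∈ normalizer (A : Set G), n * u * n⁻¹ = v := by
    intro u hu v hv hu1 hv1
    obtain ⟨g, hg⟩ := isConj_iff.1 (L.conj2 u v (hvo u hu hu1) (hvo v hv hv1))
    exact ⟨g, hti g u hu hu1 (hg ▸ hv), hg⟩
  refine ⟨⟨A, DA.card16, DA.sq, DA.self, ?_, htrans, hcent, hti⟩⟩
  have ht1 : t ≠ 1 := fun h => by rw [h, orderOf_one] at ht; omega
  set N := normalizer (A : Set G) with hN
  let Ω := {v : G // v ∈ A ∧ v ≠ 1}
  choose g hgN hg using fun v : Ω => htrans t DA.t_mem v.1 v.2.1 ht1 v.2.2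
  have hmem : ∀ n : N, (n : G) * t * (n : G)⁻¹ ∈ A ∧ (n : G) * t * (n : G)⁻¹ ≠ 1 := fun n =>
    ⟨(Subgroup.mem_normalizer_iff.1 n.2 t).1 DA.t_mem, fun h => ht1 (by
      rw [mul_inv_eq_one, mul_eq_left] at h; exact h)⟩
  let F : N → Ω × cz t := fun n => (⟨_, hmem n⟩, ⟨(g ⟨_, hmem n⟩)⁻¹ * n, by
    rw [mem_cz]
    refine mul_inv_eq_iff_eq_mul.1 ?_
    have h := hg ⟨_, hmem n⟩
    calc (g ⟨_, hmem n⟩)⁻¹ * (n : G) * t * ((g ⟨_, hmem n⟩)⁻¹ * (n : G))⁻¹
        = (g ⟨_, hmem n⟩)⁻¹ * ((n : G) * t * (n : G)⁻¹) * g ⟨_, hmem n⟩ := by group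
      _ = (g ⟨_, hmem n⟩)⁻¹ * (g ⟨_, hmem n⟩ * t * (g ⟨_, hmem n⟩)⁻¹) * g ⟨_, hmem n⟩ := by
          rw [h]
      _ = t := by group⟩)
  have hF : Function.Bijective F := by
    constructor
    · intro n m h
      obtain ⟨h1, h2⟩ := Prod.mk.injEq _ _ _ _ |>.mp h
      have h3 : (g ⟨_, hmem n⟩)⁻¹ * (n : G) = (g ⟨_, hmem m⟩)⁻¹ * (m : G) :=
        congrArg Subtype.val h2
      rw [h1] at h3
      exact Subtype.ext (mul_left_cancel h3)
    · rintro ⟨v, c, hc⟩
      let n : N := ⟨g v * c, N.mul_mem (hgN v) (hcent t DA.t_mem ht1 hc)⟩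
      have hv : (⟨_, hmem n⟩ : Ω) = v := Subtype.ext (by
        show g v * c * t * (g v * c)⁻¹ = v.1
        rw [mul_assoc (g v) c t, (mem_cz.1 hc).eq]
        calc g v * (t * c) * (g v * c)⁻¹ = g v * t * (g v)⁻¹ := by group
          _ = v.1 := hg v)
      refine ⟨n, Prod.ext hv (Subtype.ext ?_)⟩
      show (g ⟨_, hmem n⟩)⁻¹ * (g v * c) = c
      rw [hv, inv_mul_cancel_left]
  have hΩ : Nat.card Ω = 15 := by
    haveI := Fintype.ofFinite G
    have e : Nat.card Ω = ((Finset.univ.filter fun v : G => v ∈ A).erase 1).card := by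
      rw [← Nat.card_eq_finsetCard]
      exact Nat.card_congr (Equiv.subtypeEquivRight fun v => by simp [and_comm])
    rw [e, Finset.card_erase_of_mem (by simp), ← Fintype.card_subtype,
      ← Nat.card_eq_fintype_card, DA.card16]
  rw [Nat.card_eq_of_bijective F hF, Nat.card_prod, hΩ, L.cent2 t ht]

end H91.M23R
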