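import Cfsg.Agent.H91.M23R.Loc
import Cfsg.Agent.H91.M23R.Act

/-! Elements of order 3 and 7 in the centraliser of an involution. -/

set_option autoImplicit false

namespace H91.M23R

open Subgroup H78.M22R

variable {G : Type*} [Group G] [Finite G]

/-- The subgroup generated by the elements of order 7 of `cz t`. -/
def mSub (t : G) : Subgroup G := closure {w | orderOf w = 7 ∧ w ∈ cz t}

omit [Finite G] in
theorem mSub_le (t : G) : mSub t ≤ cz t := (closure_le _).2 fun _ h => h.2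

omit [Finite G] in
theorem mem_mSub {t w : G} (hw : orderOf w = 7) (hwt : w ∈ cz t) : w ∈ mSub t :=
  subset_closure ⟨hw, hwt⟩

omit [Finite G] in
theorem mSub_nrm (t : G) : Nrm (cz t) (mSub t) := by
  intro c hc l hl
  have h : mSub t ≤ (mSub t).comap (MulAut.conj c).toMonoidHom := by
    rw [mSub, closure_le]
    intro w hw
    exact subset_closure ⟨by show orderOf (c * w * c⁻¹) = 7; rw [orderOf_conj']; exact hw.1,
      mul_mem (mul_mem hc hw.2) (inv_mem hc)⟩
  exact h hl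

theorem isPGroup_of_free {S : Subgroup G} (hd : Nat.card S ∣ 2688)
    (h3 : ∀ x ∈ S, orderOf x ≠ 3) (h7 : ∀ w ∈ S, orderOf w ≠ 7) : IsPGroup 2 S := by
  have h3' : ¬ 3 ∣ Nat.card S := fun h => by
    haveI := Fact.mk Nat.prime_three
    obtain ⟨g, hg, ho⟩ := exists_orderOf 3 h
    exact h3 g hg ho
  have h7' : ¬ 7 ∣ Nat.card S := fun h => by
    haveI : Fact (Nat.Prime 7) := ⟨by decide⟩
    obtain ⟨g, hg, ho⟩ := exists_orderOf 7 h
    exact h7 g hg ho
  have h21 : Nat.Coprime (Nat.card S) 21 := by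
    rw [show (21 : ℕ) = 3 * 7 from rfl]
    exact Nat.Coprime.mul_right
      ((Nat.prime_three.coprime_iff_not_dvd.2 h3').symm)
      (((by decide : Nat.Prime 7).coprime_iff_not_dvd.2 h7').symm)
  have h128 : Nat.card S ∣ 2 ^ 7 := by
    refine h21.dvd_of_dvd_mul_right ?_
    exact hd
  obtain ⟨k, -, hk⟩ := (Nat.dvd_prime_pow Nat.prime_two).1 h128
  exact IsPGroup.of_card hk

variable {t : G} (L : Loc G)
include L

theorem card_dvd_cent (ht : orderOf t = 2) {S : Subgroup G} (hS : S ≤ cz t) :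
    Nat.card S ∣ 2688 := L.cent2 t ht ▸ Subgroup.card_dvd_of_le hS

theorem not_49 (ht : orderOf t = 2) {S : Subgroup G} (hS : S ≤ cz t) : ¬ 7 ^ 2 ∣ Nat.card S :=
  fun h => absurd (h.trans (card_dvd_cent L ht hS)) (by norm_num)

theorem not_9 (ht : orderOf t = 2) {S : Subgroup G} (hS : S ≤ cz t) : ¬ 3 ^ 2 ∣ Nat.card S :=
  fun h => absurd (h.trans (card_dvd_cent L ht hS)) (by norm_num)

theorem exists_seven (ht : orderOf t = 2) : ∃ w : G, orderOf w = 7 ∧ w ∈ cz t := by
  haveI : Fact (Nat.Prime 7) := ⟨by decide⟩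
  obtain ⟨w, hw, ho⟩ := exists_orderOf 7 (H := cz t) (by rw [L.cent2 t ht]; norm_num)
  exact ⟨w, ho, hw⟩

theorem exists_three (ht : orderOf t = 2) : ∃ x : G, orderOf x = 3 ∧ x ∈ cz t := by
  haveI := Fact.mk Nat.prime_three
  obtain ⟨w, hw, ho⟩ := exists_orderOf 3 (H := cz t) (by rw [L.cent2 t ht]; norm_num)
  exact ⟨w, ho, hw⟩

omit [Finite G] L in
theorem order_mul_t (ht : orderOf t = 2) {w : G} (hw : orderOf w = 7) (hwt : w ∈ cz t) :
    orderOf (w * t) = 14 := by
  rw [(mem_cz.1 hwt).orderOf_mul_eq_mul_orderOf_of_coprime (by rw [hw, ht]; norm_num), hw, ht]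

theorem cz_seven (ht : orderOf t = 2) {w : G} (hw : orderOf w = 7) (hwt : w ∈ cz t) :
    cz w = zpowers (w * t) := by
  refine (Subgroup.eq_of_le_of_card_ge (zpowers_le.2 ?_) ?_).symm
  · exact mul_mem (mem_cz.2 (Commute.refl w)) (mem_cz.2 (mem_cz.1 hwt).symm)
  · rw [Nat.card_zpowers, order_mul_t ht hw hwt]
    exact le_of_eq (L.cent7 w hw)

/-- The only involution commuting with an element of order 7 of `cz t` is `t`. -/
theorem two_in_cz_seven (ht : orderOf t = 2) {w g : G} (hw : orderOf w = 7) (hwt : w ∈ cz t)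
    (hg : Commute g w) (k : ℕ) (hk : g ^ (2 ^ k) = 1) : g = 1 ∨ g = t := by
  classical
  have hm : g ∈ zpowers (w * t) := cz_seven L ht hw hwt ▸ mem_cz.2 hg
  rw [mem_zpowers_iff_mem_range_orderOf, order_mul_t ht hw hwt] at hm
  simp only [Finset.mem_image, Finset.mem_range] at hm
  obtain ⟨i, hi, rfl⟩ := hm
  have h14 : 14 ∣ i * 2 ^ k := by
    rw [← order_mul_t ht hw hwt]
    exact orderOf_dvd_of_pow_eq_one (by rw [pow_mul]; exact hk)
  have h7 : 7 ∣ i :=
    (Nat.Coprime.pow_right k (by norm_num : Nat.Coprime 7 2)).dvd_of_dvd_mul_right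
      ((by norm_num : 7 ∣ 14).trans h14)
  rw [(mem_cz.1 hwt).mul_pow]
  have hw7 : w ^ 7 = 1 := hw ▸ pow_orderOf_eq_one w
  have ht2 : t ^ 2 = 1 := ht ▸ pow_orderOf_eq_one t
  obtain ⟨j, rfl⟩ := h7
  have hj : j = 0 ∨ j = 1 := by omega
  rcases hj with rfl | rfl
  · exact Or.inl (by simp)
  · right
    rw [mul_one, hw7, one_mul, show t ^ 7 = (t ^ 2) ^ 3 * t from by rw [← pow_mul, ← pow_succ],
      ht2, one_pow, one_mul]

/-- The normaliser of a 7-subgroup of `cz t` lies in `cz t`. -/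
theorem norm_seven_le (ht : orderOf t = 2) {w : G} (hw : orderOf w = 7) (hwt : w ∈ cz t) :
    normalizer (zpowers w : Set G) ≤ cz t := by
  intro n hn
  have h1 : n⁻¹ * w * n ∈ zpowers w := by
    have h := (Subgroup.mem_normalizer_iff.1 (inv_mem hn) w).1 (mem_zpowers w)
    rwa [inv_inv] at h
  obtain ⟨i, hi⟩ := mem_zpowers_iff.1 h1
  have hc : Commute (n * t * n⁻¹) w := by
    have h2 : w = n * w ^ i * n⁻¹ := by rw [hi]; group
    rw [h2, commute_conj_iff]
    exact (mem_cz.1 hwt).symm.zpow_right i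
  have ho : orderOf (n * t * n⁻¹) = 2 := (orderOf_conj' n t).trans ht
  have hsq : (n * t * n⁻¹) ^ (2 ^ 1) = 1 := by
    rw [pow_one, ← ho]; exact pow_orderOf_eq_one _
  rcases two_in_cz_seven L ht hw hwt hc 1 hsq with h | h
  · rw [h, orderOf_one] at ho; omega
  · exact mem_cz.2 (mul_inv_eq_iff_eq_mul.1 h)

theorem count_seven_mem (ht : orderOf t = 2) {S : Subgroup G} (hS : S ≤ cz t) {w : G}
    (hw : orderOf w = 7) (hwS : w ∈ S) :
    Nat.card {g : G // orderOf g = 7 ∧ g ∈ S} *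
      Nat.card (normalizer (zpowers w : Set G) ⊓ S : Subgroup G) = 6 * Nat.card S := by
  haveI : Fact (Nat.Prime 7) := ⟨by decide⟩
  exact count_order_prime S hwS hw (not_49 L ht hS)

/-- 384 elements of order 7 centralise an involution. -/
theorem card_seven (ht : orderOf t = 2) :
    Nat.card {g : G // orderOf g = 7 ∧ g ∈ cz t} = 384 := by
  obtain ⟨w, hw, hwt⟩ := exists_seven L ht
  have h := count_seven_mem L ht le_rfl hw hwt
  rw [inf_eq_left.2 (norm_seven_le L ht hw hwt), L.norm7 w hw, L.cent2 t ht] at h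
  omega

theorem card_three (ht : orderOf t = 2) :
    Nat.card {g : G // orderOf g = 3 ∧ g ∈ cz t} = 224 := by
  rw [← L.three_in t ht]
  exact Nat.card_congr (Equiv.subtypeEquivRight fun g => and_congr_right fun _ => mem_cz)

/-- `mSub t` has order divisible by `448`. -/
theorem dvd_card_mSub (ht : orderOf t = 2) : 448 ∣ Nat.card (mSub t) := by
  obtain ⟨w, hw, hwt⟩ := exists_seven L ht
  have h := count_seven_mem L ht (mSub_le t) hw (mem_mSub hw hwt)
  have h2 : Nat.card {g : G // orderOf g = 7 ∧ g ∈ mSub t} = 384 := by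
    rw [← card_seven L ht]
    exact Nat.card_congr (Equiv.subtypeEquivRight fun g =>
      and_congr_right fun hg => ⟨fun h => mSub_le t h, mem_mSub hg⟩)
  have h7 : 7 ∣ Nat.card (normalizer (zpowers w : Set G) ⊓ mSub t : Subgroup G) :=
    hw ▸ Subgroup.orderOf_dvd_natCard _ (Subgroup.mem_inf.2
      ⟨le_normalizer (mem_zpowers w), mem_mSub hw hwt⟩)
  rw [h2] at h
  obtain ⟨a, ha⟩ := h7
  refine ⟨a, ?_⟩
  rw [ha] at h
  omega

/-- A subgroup of `cz t` meeting the elements of order 3 and normalised by them all contains all. -/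
theorem three_all (ht : orderOf t = 2) {S : Subgroup G} (hn : Nrm (cz t) S) {x : G}
    (hx : orderOf x = 3) (hxS : x ∈ S) (hxt : x ∈ cz t) {y : G} (hy : orderOf y = 3)
    (hyt : y ∈ cz t) : y ∈ S := by
  haveI := Fact.mk Nat.prime_three
  obtain ⟨s, hs, j, -, -, rfl⟩ := conj_gen (cz t) hxt hyt hx hy (not_9 L ht le_rfl)
  exact hn s hs _ (pow_mem hxS j)

theorem seven_all (ht : orderOf t = 2) {M S : Subgroup G} (hM : M ≤ cz t) (hn : Nrm M S) {x : G}
    (hx : orderOf x = 7) (hxS : x ∈ S) (hxM : x ∈ M) {y : G} (hy : orderOf y = 7)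
    (hyM : y ∈ M) : y ∈ S := by
  haveI : Fact (Nat.Prime 7) := ⟨by decide⟩
  obtain ⟨s, hs, j, -, -, rfl⟩ := conj_gen M hxM hyM hx hy (not_49 L ht hM)
  exact hn s hs _ (pow_mem hxS j)

end H91.M23R
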