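import Cfsg.Agent.H91.M23R.Loc
import Cfsg.Agent.H91.M23R.Counts
import Mathlib.Tactic.IntervalCases

/-! The order and the counts of elements by order give the local data of M23. -/

set_option autoImplicit false
set_option linter.style.haveILetI false

namespace H91.M23R

open Subgroup H78.M22R

variable {G : Type*} [Group G] [Finite G]

theorem fact_eq {n p k m : ℕ} (hp : p.Prime) (h : n = p ^ k * m) (hm : ¬ p ∣ m) :
    n.factorization p = k := by
  have hm0 : m ≠ 0 := by rintro rfl; exact hm (dvd_zero p)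
  rw [h, Nat.factorization_mul (pow_ne_zero _ hp.ne_zero) hm0, hp.factorization_pow]
  simp [Nat.factorization_eq_zero_of_not_dvd hm]

theorem factor_one (hcard : Nat.card G = 10200960) {p : ℕ}
    (hp : p = 5 ∨ p = 7 ∨ p = 11 ∨ p = 23) : (Nat.card G).factorization p = 1 := by
  rw [hcard]
  rcases hp with rfl | rfl | rfl | rfl
  · exact fact_eq (m := 2040192) (by norm_num) (by norm_num) (by norm_num)
  · exact fact_eq (m := 1457280) (by norm_num) (by norm_num) (by norm_num)
  · exact fact_eq (m := 927360) (by norm_num) (by norm_num) (by norm_num)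
  · exact fact_eq (m := 443520) (by norm_num) (by norm_num) (by norm_num)

theorem comm_of_prime_card {p : ℕ} [Fact p.Prime] {P : Subgroup G} (hP : Nat.card P = p) :
    ∀ a ∈ P, ∀ b ∈ P, Commute a b := fun a ha b hb => by
  haveI : IsCyclic P := isCyclic_of_prime_card hP
  exact congrArg Subtype.val (IsCyclic.isMulCommutative.is_comm.comm (⟨a, ha⟩ : P) ⟨b, hb⟩)

/-- The possible values. -/
theorem val_cases {v : ℕ} (h : v ∈ nseM23) : v = 1 ∨ v = 3795 ∨ v = 56672 ∨ v = 318780 ∨
    v = 680064 ∨ v = 850080 ∨ v = 1457280 ∨ v = 1275120 ∨ v = 1854720 ∨ v = 1360128 ∨ v = 887040 := by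
  simpa [nseM23] using h

/-- What is known about the counts. -/
structure Tally (G : Type*) [Group G] : Prop where
  card : Nat.card G = 10200960
  val : ∀ n, 0 < cnt G n → cnt G n ∈ nseM23
  c2 : cnt G 2 = 3795
  c3 : cnt G 3 = 56672
  c5 : cnt G 5 = 680064
  c7 : cnt G 7 = 1457280
  c11 : cnt G 11 = 1854720
  c23 : cnt G 23 = 887040
  c14 : cnt G 14 = 1457280
  uniq : ∀ n m, 0 < cnt G n → cnt G n = cnt G m → cnt G n ≠ 1457280 → n = m
  seven : ∀ n, cnt G n = 1457280 → n = 7 ∨ n = 14

theorem cnt_prime_val (hcard : Nat.card G = 10200960)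
    (hval : ∀ n, 0 < cnt G n → cnt G n ∈ nseM23) {p v : ℕ}
    (hp : p = 3 ∧ v = 56672 ∨ p = 5 ∧ v = 680064 ∨ p = 7 ∧ v = 1457280 ∨ p = 11 ∧ v = 1854720 ∨
      p = 23 ∧ v = 887040) : cnt G p = v := by
  have hpp : p.Prime := by
    rcases hp with ⟨rfl, -⟩ | ⟨rfl, -⟩ | ⟨rfl, -⟩ | ⟨rfl, -⟩ | ⟨rfl, -⟩ <;> norm_num
  haveI := Fact.mk hpp
  have hd : p ∣ Nat.card G := by
    rw [hcard]
    rcases hp with ⟨rfl, -⟩ | ⟨rfl, -⟩ | ⟨rfl, -⟩ | ⟨rfl, -⟩ | ⟨rfl, -⟩ <;> norm_num
  obtain ⟨P⟩ : Nonempty (Sylow p G) := inferInstance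
  have hab : ∀ a ∈ (P : Subgroup G), ∀ b ∈ (P : Subgroup G), Commute a b := by
    by_cases h3 : p = 3
    · subst h3
      refine comm_of_card_nine ?_
      rw [Sylow.card_eq_multiplicity, hcard,
        fact_eq (k := 2) (m := 1133440) Nat.prime_three (by norm_num) (by norm_num)]
      rfl
    · exact comm_of_prime_card (by
        rw [Sylow.card_eq_multiplicity, factor_one hcard (by omega), pow_one])
  have h := dvd_cnt_succ P hd hab
  obtain ⟨g, hg⟩ := exists_prime_orderOf_dvd_card' p hd
  have hv := val_cases (hval p (cnt_pos.2 ⟨g, hg⟩))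
  rcases hp with ⟨rfl, rfl⟩ | ⟨rfl, rfl⟩ | ⟨rfl, rfl⟩ | ⟨rfl, rfl⟩ | ⟨rfl, rfl⟩ <;>
    rcases hv with e | e | e | e | e | e | e | e | e | e | e <;> omega

/-- An element of order seven commutes with an involution. -/
theorem exists_inv_seven (h2 : cnt G 2 = 3795) {w : G} (hw : orderOf w = 7) :
    ∃ t : G, orderOf t = 2 ∧ Commute t w := by
  haveI : Fact (Nat.Prime 7) := ⟨by norm_num⟩
  letI act : MulAction (zpowers w) {g : G // orderOf g = 2} :=
    { smul := fun k g => ⟨k.1 * g.1 * k.1⁻¹, by rw [H78.M22R.orderOf_conj']; exact g.2⟩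
      one_smul := fun g => Subtype.ext (show (1 : G) * g.1 * (1 : G)⁻¹ = g.1 by group)
      mul_smul := fun k l g => Subtype.ext
        (show (k.1 * l.1) * g.1 * (k.1 * l.1)⁻¹ = k.1 * (l.1 * g.1 * l.1⁻¹) * k.1⁻¹ by group) }
  obtain ⟨t, ht⟩ := exists_fixed_of_not_dvd (H78.M22R.isPGroup_zpowers hw)
    (α := {g : G // orderOf g = 2}) (by
      show ¬ 7 ∣ cnt G 2
      rw [h2]; norm_num)
  exact ⟨t.1, t.2, (mul_inv_eq_iff_eq_mul.1 (congrArg Subtype.val (ht ⟨w, mem_zpowers w⟩))).symm⟩

theorem tally_of_nse (hcard : Nat.card G = 10200960)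
    (hnse : {c : ℕ | 0 < c ∧ ∃ n : ℕ, c = Nat.card {g : G // orderOf g = n}} = nseM23) :
    Tally G := by
  classical
  have hval : ∀ n, 0 < cnt G n → cnt G n ∈ nseM23 := fun n hn => hnse ▸ ⟨hn, n, rfl⟩
  have hatt : ∀ v ∈ nseM23, ∃ n, cnt G n = v := fun v hv => by
    rw [← hnse] at hv
    exact hv.2.imp fun n h => h.symm
  have h2 : cnt G 2 = 3795 := by
    obtain ⟨n, hn⟩ := hatt 3795 (by simp [nseM23])
    rcases (by omega : n = 0 ∨ n = 1 ∨ n = 2 ∨ 2 < n) with rfl | rfl | rfl | h
    · rw [cnt_zero] at hn; omega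
    · rw [cnt_one] at hn; omega
    · exact hn
    · have := even_cnt (G := G) h
      rw [hn] at this; exact absurd this (by decide)
  have h7 := cnt_prime_val hcard hval (p := 7) (v := 1457280) (by simp)
  have h14 : cnt G 14 = 1457280 := by
    haveI : Fact (Nat.Prime 7) := ⟨by norm_num⟩
    haveI : Fact (Nat.Prime 2) := ⟨Nat.prime_two⟩
    obtain ⟨w, hw⟩ := cnt_pos.1 (show 0 < cnt G 7 by omega)
    obtain ⟨t, ht, hc⟩ := exists_inv_seven h2 hw
    have h := cnt_mul_prime (G := G) (q := 2) (by norm_num) (factor_one hcard (by simp)) hw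
    haveI : Nonempty {g : G // orderOf g = 2 ∧ Commute g w} := ⟨⟨t, ht, hc⟩⟩
    have hpos := Nat.card_pos (α := {g : G // orderOf g = 2 ∧ Commute g w})
    rw [show 7 * 2 = 14 from rfl, h7] at h
    have hv := val_cases (hval 14 (by rw [h]; positivity))
    rw [h] at hv
    rcases hv with e | e | e | e | e | e | e | e | e | e | e <;> omega
  let V : Finset ℕ :=
    {1, 3795, 56672, 318780, 680064, 850080, 1457280, 1275120, 1854720, 1360128, 887040}
  have hV : ∀ v, v ∈ V ↔ v ∈ nseM23 := fun v => by simp [V, nseM23]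
  let f : ℕ → ℕ := fun v =>
    if v = 1457280 then 7 else if h : ∃ n, cnt G n = v then h.choose else 0
  have hf : ∀ v ∈ V, cnt G (f v) = v := fun v hv => by
    show cnt G (if v = 1457280 then 7 else if h : ∃ n, cnt G n = v then h.choose else 0) = v
    by_cases h : v = 1457280
    · rw [if_pos h, h7, h]
    · have he := hatt v ((hV v).1 hv)
      rw [if_neg h, dif_pos he]
      exact he.choose_spec
  have h14n : 14 ∉ V.image f := by
    intro h
    obtain ⟨v, hv, e⟩ := Finset.mem_image.1 h
    have := hf v hv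
    rw [e, h14] at this
    subst this
    simp [f] at e
  have hsum : ∑ n ∈ insert 14 (V.image f), cnt G n = Nat.card G := by
    rw [Finset.sum_insert h14n,
      Finset.sum_image (fun a ha b hb e => by rw [← hf a ha, e, hf b hb]),
      Finset.sum_congr rfl hf, h14, hcard]
    norm_num [V]
  have hchar : ∀ n, 0 < cnt G n → n ≠ 14 → n = f (cnt G n) := by
    intro n hn hne
    by_contra h
    refine hn.ne' (cnt_eq_zero_of_sum hsum fun hmem => ?_)
    rcases Finset.mem_insert.1 hmem with e | e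
    · exact hne e
    · obtain ⟨v, hv, e⟩ := Finset.mem_image.1 e
      have h' := hf v hv
      rw [e] at h'
      rw [h'] at h
      exact h e.symm
  refine ⟨hcard, hval, h2, cnt_prime_val hcard hval (by simp), cnt_prime_val hcard hval (by simp),
    h7, cnt_prime_val hcard hval (by simp), cnt_prime_val hcard hval (by simp), h14, ?_, ?_⟩
  · intro n m hn he hne
    rw [hchar n hn (fun e => hne (e ▸ h14)),
      hchar m (he ▸ hn) (fun e => hne (by rw [he, e, h14])), he]
  · intro n hn
    by_cases h : n = 14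
    · exact Or.inr h
    · refine Or.inl ((hchar n (by omega) h).trans ?_)
      simp [f, hn]

namespace Tally

variable (D : Tally G)

include D

theorem exists_ord {p : ℕ} [Fact p.Prime] (hp : p ∣ 10200960) : ∃ z : G, orderOf z = p :=
  exists_prime_orderOf_dvd_card' p (by rw [D.card]; exact hp)

/-- A product order with 11 or 23 does not occur. -/
theorem no_mul_big {p q : ℕ} (hq : q.Prime) (hp : p = 11 ∨ p = 23) (hpq : p ≠ q) :
    cnt G (p * q) = 0 := by
  haveI := Fact.mk hq
  haveI : Fact p.Prime := ⟨by rcases hp with rfl | rfl <;> norm_num⟩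
  obtain ⟨z, hz⟩ := D.exists_ord (p := p) (by rcases hp with rfl | rfl <;> norm_num)
  have h := cnt_mul_prime (q := q) hpq (factor_one D.card (by omega)) hz
  generalize Nat.card {w : G // orderOf w = q ∧ Commute w z} = m at h
  by_contra h0
  have hv := val_cases (D.val _ (Nat.pos_of_ne_zero h0))
  have hq2 := hq.two_le
  have heq : cnt G (p * q) = cnt G p := by
    rcases hp with rfl | rfl
    · rw [D.c11] at h ⊢
      rcases hv with e | e | e | e | e | e | e | e | e | e | e <;> omega
    · rw [D.c23] at h ⊢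
      rcases hv with e | e | e | e | e | e | e | e | e | e | e <;> omega
  have := D.uniq _ _ (Nat.pos_of_ne_zero h0) heq (by
    rw [heq]; rcases hp with rfl | rfl
    · rw [D.c11]; norm_num
    · rw [D.c23]; norm_num)
  rcases hp with rfl | rfl <;> omega

theorem five_data {z : G} (hz : orderOf z = 5) :
    Nat.card (cz z) = 15 ∧ Nat.card (normalizer (zpowers z : Set G)) = 60 ∧
      Nat.card {w : G // orderOf w = 3 ∧ Commute w z} = 2 ∧ cnt G 15 = 1360128 ∧ cnt G 10 = 0 := by
  haveI : Fact (Nat.Prime 5) := ⟨by norm_num⟩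
  haveI : Fact (Nat.Prime 3) := ⟨Nat.prime_three⟩
  haveI : Fact (Nat.Prime 2) := ⟨Nat.prime_two⟩
  have hk := factor_one D.card (p := 5) (by simp)
  have hN := card_normalizer hk (g := z) (by rw [pow_one, hz])
  rw [pow_one, D.c5, D.card, Nat.totient_prime (by norm_num)] at hN
  have hN60 : Nat.card (normalizer (zpowers z : Set G)) = 60 := by omega
  obtain ⟨d, hd, hdc⟩ := card_normalizer_eq z
  rw [hz, Nat.totient_prime (by norm_num)] at hd
  rw [hN60] at hdc
  have hd4 : d ≤ 4 := Nat.le_of_dvd (by norm_num) hd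
  have hC : Nat.card (cz z) = 15 ∨ Nat.card (cz z) = 30 ∨ Nat.card (cz z) = 60 := by
    interval_cases d <;> simp_all <;> omega
  obtain ⟨x, hx, hxo⟩ := H78.M22R.exists_orderOf 3 (H := cz z)
    (by rcases hC with e | e | e <;> rw [e] <;> norm_num)
  have h15 := cnt_mul_prime (q := 3) (by norm_num) hk hz
  haveI : Nonempty {w : G // orderOf w = 3 ∧ Commute w z} := ⟨⟨x, hxo, mem_cz.1 hx⟩⟩
  have hpos := Nat.card_pos (α := {w : G // orderOf w = 3 ∧ Commute w z})
  generalize Nat.card {w : G // orderOf w = 3 ∧ Commute w z} = m3 at h15 hpos ⊢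
  rw [show 5 * 3 = 15 from rfl, D.c5] at h15
  have hne5 : ∀ n, 0 < cnt G n → n ≠ 5 → cnt G n ≠ 680064 := fun n hn hne e =>
    hne (D.uniq n 5 hn (e.trans D.c5.symm) (by omega))
  have h15v : cnt G 15 = 1360128 := by
    have hp : 0 < cnt G 15 := by rw [h15]; positivity
    have := hne5 15 hp (by norm_num)
    rcases val_cases (D.val 15 hp) with e | e | e | e | e | e | e | e | e | e | e <;> omega
  have h10 : cnt G 10 = 0 := by
    have h := cnt_mul_prime (q := 2) (by norm_num) hk hz
    generalize Nat.card {w : G // orderOf w = 2 ∧ Commute w z} = m2 at h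
    rw [show 5 * 2 = 10 from rfl, D.c5] at h
    by_contra h0
    have := hne5 10 (Nat.pos_of_ne_zero h0) (by norm_num)
    rcases val_cases (D.val 10 (Nat.pos_of_ne_zero h0)) with
      e | e | e | e | e | e | e | e | e | e | e
    all_goals try omega
    exact absurd (D.uniq 10 15 (by omega) (e.trans h15v.symm) (by omega)) (by norm_num)
  refine ⟨?_, hN60, by omega, h15v, h10⟩
  by_contra hne
  obtain ⟨t, ht, hto⟩ := H78.M22R.exists_orderOf 2 (H := cz z)
    (by rcases hC with e | e | e <;> first | exact absurd e hne | (rw [e]; norm_num))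
  have ho := (mem_cz.1 ht).orderOf_mul_eq_mul_orderOf_of_coprime (by rw [hz, hto]; norm_num)
  rw [hz, hto] at ho
  exact absurd (cnt_pos.2 ⟨t * z, ho⟩) (by rw [show 2 * 5 = 10 from rfl, h10]; norm_num)

theorem seven_data {w : G} (hw : orderOf w = 7) :
    Nat.card (cz w) = 14 ∧ Nat.card (normalizer (zpowers w : Set G)) = 42 := by
  haveI : Fact (Nat.Prime 7) := ⟨by norm_num⟩
  haveI : Fact (Nat.Prime 3) := ⟨Nat.prime_three⟩
  have hk := factor_one D.card (p := 7) (by simp)
  have hN := card_normalizer hk (g := w) (by rw [pow_one, hw])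
  rw [pow_one, D.c7, D.card, Nat.totient_prime (by norm_num)] at hN
  have hN42 : Nat.card (normalizer (zpowers w : Set G)) = 42 := by omega
  obtain ⟨d, hd, hdc⟩ := card_normalizer_eq w
  rw [hw, Nat.totient_prime (by norm_num)] at hd
  rw [hN42] at hdc
  obtain ⟨t, ht, hc⟩ := exists_inv_seven D.c2 hw
  have h2C : 2 ∣ Nat.card (cz w) := by
    rw [← ht]; exact Subgroup.orderOf_dvd_natCard _ (mem_cz.2 hc)
  have h3C : ¬ 3 ∣ Nat.card (cz w) := by
    intro h
    obtain ⟨x, hx, hxo⟩ := H78.M22R.exists_orderOf 3 h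
    have ho := (mem_cz.1 hx).orderOf_mul_eq_mul_orderOf_of_coprime (by rw [hw, hxo]; norm_num)
    rw [hw, hxo] at ho
    have hp := cnt_pos.2 ⟨x * w, ho⟩
    have h21 := cnt_mul_prime (q := 3) (by norm_num) hk hw
    generalize Nat.card {g : G // orderOf g = 3 ∧ Commute g w} = m at h21
    rw [show 3 * 7 = 21 from rfl] at hp
    rw [show 7 * 3 = 21 from rfl, D.c7] at h21
    rcases val_cases (D.val 21 hp) with e | e | e | e | e | e | e | e | e | e | e
    all_goals try omega
    rcases D.seven 21 e with h' | h' <;> norm_num at h'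
  have hd6 : d ≤ 6 := Nat.le_of_dvd (by norm_num) hd
  refine ⟨?_, hN42⟩
  interval_cases d <;> omega

theorem orders_big {n p : ℕ} (hn : 0 < cnt G n) (hp : p = 5 ∨ p = 7 ∨ p = 11 ∨ p = 23)
    (hd : p ∣ n) : n = 5 ∨ n = 15 ∨ n = 7 ∨ n = 14 ∨ n = 11 ∨ n = 23 := by
  obtain ⟨g, hg⟩ := cnt_pos.1 hn
  have hn0 : 0 < n := hg ▸ orderOf_pos g
  by_cases h57 : p = 5 ∨ p = 7
  · have hz : orderOf (g ^ (n / p)) = p := by
      rw [orderOf_pow' g (Nat.div_pos (Nat.le_of_dvd hn0 hd) (by omega)).ne', hg,
        Nat.gcd_eq_right (Nat.div_dvd_of_dvd hd), Nat.div_div_self hd hn0.ne']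
    have h := Subgroup.orderOf_dvd_natCard (cz (g ^ (n / p)))
      (mem_cz.2 ((Commute.refl g).pow_right _))
    rcases h57 with rfl | rfl
    · rw [(D.five_data hz).1, hg] at h
      have := Nat.le_of_dvd (by norm_num) h
      interval_cases n <;> simp_all <;> omega
    · rw [(D.seven_data hz).1, hg] at h
      have := Nat.le_of_dvd (by norm_num) h
      interval_cases n <;> simp_all <;> omega
  · obtain ⟨k, rfl⟩ := hd
    have hpp : p.Prime := by rcases hp with rfl | rfl | rfl | rfl <;> norm_num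
    by_cases hk1 : k = 1
    · subst hk1; omega
    exfalso
    obtain ⟨q, hq, hqk⟩ := Nat.exists_prime_and_dvd hk1
    have hpos := cnt_pos_of_dvd hn (Nat.mul_dvd_mul_left p hqk)
    by_cases hpq : p = q
    · subst hpq
      obtain ⟨u, hu⟩ := cnt_pos.1 hpos
      have h := orderOf_dvd_natCard u
      rw [hu, D.card] at h
      rcases hp with rfl | rfl | rfl | rfl <;> norm_num at h
    · exact hpos.ne' (D.no_mul_big hq (by omega) hpq)

theorem no_nine : cnt G 9 = 0 := by
  haveI : Fact (Nat.Prime 3) := ⟨Nat.prime_three⟩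
  by_contra h0
  obtain ⟨g, hg⟩ := cnt_pos.1 (Nat.pos_of_ne_zero h0)
  have hk : (Nat.card G).factorization 3 = 2 := by
    rw [D.card]
    exact fact_eq (m := 1133440) Nat.prime_three (by norm_num) (by norm_num)
  have h := cnt_eq_sylow_mul hk (g := g) (by rw [hg]; norm_num)
  rw [Nat.totient_prime_pow Nat.prime_three (by norm_num)] at h
  norm_num at h
  have hm := card_sylow_modEq_one 3 G
  rw [Nat.ModEq] at hm
  rcases val_cases (D.val 9 (Nat.pos_of_ne_zero h0)) with e | e | e | e | e | e | e | e | e | e | e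
  all_goals try omega
  exact absurd (D.uniq 9 5 (by omega) (e.trans D.c5.symm) (by omega)) (by norm_num)

theorem odd_orders {n : ℕ} (hn : 0 < cnt G n) (ho : ¬ Even n) :
    n ∈ ({1, 3, 5, 7, 11, 15, 23} : Finset ℕ) := by
  by_cases hb : ∃ p, (p = 5 ∨ p = 7 ∨ p = 11 ∨ p = 23) ∧ p ∣ n
  · obtain ⟨p, hp, hd⟩ := hb
    rcases D.orders_big hn hp hd with rfl | rfl | rfl | rfl | rfl | rfl
    all_goals first
      | decide
      | exact absurd (by decide) ho
  · push Not at hb
    obtain ⟨g, hg⟩ := cnt_pos.1 hn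
    have hd : n ∣ 10200960 := by rw [← hg, ← D.card]; exact orderOf_dvd_natCard g
    have hcp : ∀ p, p.Prime → ¬ p ∣ n → Nat.Coprime n p := fun p hp h =>
      ((Nat.Prime.coprime_iff_not_dvd hp).2 h).symm
    have h2 : Nat.Coprime n 2 := hcp 2 Nat.prime_two (fun h => ho (even_iff_two_dvd.2 h))
    have h9 : n ∣ 9 := by
      refine Nat.Coprime.dvd_of_dvd_mul_right (n := 2 ^ 7 * 5 * 7 * 11 * 23) ?_
        (by rwa [show 9 * (2 ^ 7 * 5 * 7 * 11 * 23) = 10200960 by norm_num])
      exact ((((h2.pow_right 7).mul_right (hcp 5 (by norm_num) (hb 5 (by simp)))).mul_right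
        (hcp 7 (by norm_num) (hb 7 (by simp)))).mul_right
          (hcp 11 (by norm_num) (hb 11 (by simp)))).mul_right (hcp 23 (by norm_num) (hb 23 (by simp)))
    have := Nat.le_of_dvd (by norm_num) h9
    interval_cases n
    all_goals first
      | decide
      | (norm_num at h9; done)
      | exact absurd (show cnt G 9 = 0 from D.no_nine) hn.ne'

theorem card_even : Nat.card {g : G // Even (orderOf g)} = 3905055 := by
  classical
  haveI := Fintype.ofFinite G
  obtain ⟨z, hz⟩ := cnt_pos.1 (show 0 < cnt G 5 by rw [D.c5]; norm_num)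
  have h15 := (D.five_data hz).2.2.2.1
  have hodd : Nat.card {g : G // ¬ Even (orderOf g)} = 6295905 := by
    rw [Nat.card_congr (Equiv.subtypeEquivRight (q := fun g : G =>
      orderOf g ∈ ({1, 3, 5, 7, 11, 15, 23} : Finset ℕ)) fun g =>
        ⟨D.odd_orders (cnt_pos.2 ⟨g, rfl⟩), fun h => by
          simp only [Finset.mem_insert, Finset.mem_singleton] at h
          rcases h with e | e | e | e | e | e | e <;> rw [e] <;> decide⟩), card_orders]
    simp [cnt_one, D.c3, D.c5, D.c7, D.c11, D.c23, h15]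
  have h := Nat.card_congr (Equiv.sumCompl fun g : G => Even (orderOf g))
  rw [Nat.card_sum, hodd, D.card] at h
  omega

theorem exists_six : 0 < cnt G 6 := by
  haveI : Fact (Nat.Prime 5) := ⟨by norm_num⟩
  haveI : Fact (Nat.Prime 2) := ⟨Nat.prime_two⟩
  obtain ⟨z, hz⟩ := D.exists_ord (p := 5) (by norm_num)
  obtain ⟨-, hN, hm3, -, -⟩ := D.five_data hz
  obtain ⟨⟨x, hx, hxz⟩⟩ := (Nat.card_pos_iff.1 (show 0 < Nat.card
    {w : G // orderOf w = 3 ∧ Commute w z} by rw [hm3]; norm_num)).1
  have ho := card_conj_orbit (normalizer (zpowers z : Set G)) x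
  rw [hN] at ho
  have hle : Nat.card {v : G // ∃ n ∈ normalizer (zpowers z : Set G), n * x * n⁻¹ = v} ≤ 2 := by
    rw [← hm3]
    refine Nat.card_le_card_of_injective (fun v => (⟨v.1, ?_⟩ :
      {w : G // orderOf w = 3 ∧ Commute w z})) (fun a b e => Subtype.ext
        (congrArg (fun u : {w : G // orderOf w = 3 ∧ Commute w z} => u.1) e))
    obtain ⟨n, hn, e⟩ := v.2
    rw [← e, H78.M22R.orderOf_conj']
    refine ⟨hx, ?_⟩
    have hmem : n⁻¹ * z * n ∈ zpowers z := by
      have := (mem_normalizer_iff.1 (inv_mem hn) z).1 (mem_zpowers z)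
      rwa [inv_inv] at this
    obtain ⟨i, hi⟩ := mem_zpowers_iff.1 hmem
    have hc : Commute x (n⁻¹ * z * n) := hi ▸ hxz.zpow_right i
    have h := (commute_conj_iff n x (n⁻¹ * z * n)).2 hc
    rwa [show n * (n⁻¹ * z * n) * n⁻¹ = z by group] at h
  generalize Nat.card {v : G // ∃ n ∈ normalizer (zpowers z : Set G), n * x * n⁻¹ = v} = o at ho hle
  have heven : 2 ∣ Nat.card (normalizer (zpowers z : Set G) ⊓ cz x : Subgroup G) := by
    interval_cases o <;> omega
  obtain ⟨t, ht, hto⟩ := H78.M22R.exists_orderOf 2 heven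
  refine cnt_pos.2 ⟨x * t, ?_⟩
  rw [(mem_cz.1 (mem_inf.1 ht).2).symm.orderOf_mul_eq_mul_orderOf_of_coprime
    (by rw [hx, hto]; norm_num), hx, hto]

theorem not_dvd_cent {t : G} (ht : orderOf t = 2) {p : ℕ} (hp : p = 5 ∨ p = 11 ∨ p = 23) :
    ¬ p ∣ Nat.card (cz t) := by
  intro hd
  haveI : Fact p.Prime := ⟨by rcases hp with rfl | rfl | rfl <;> norm_num⟩
  obtain ⟨u, hu, huo⟩ := H78.M22R.exists_orderOf p hd
  have ho := (mem_cz.1 hu).orderOf_mul_eq_mul_orderOf_of_coprime
    (by rw [huo, ht]; rcases hp with rfl | rfl | rfl <;> norm_num)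
  rw [huo, ht] at ho
  have hpos := cnt_pos.2 ⟨u * t, ho⟩
  rcases hp with rfl | rfl | rfl
  · obtain ⟨-, -, -, -, h10⟩ := D.five_data huo
    rw [show 5 * 2 = 10 from rfl, h10] at hpos
    exact lt_irrefl 0 hpos
  · rw [D.no_mul_big Nat.prime_two (by norm_num) (by norm_num)] at hpos
    exact lt_irrefl 0 hpos
  · rw [D.no_mul_big Nat.prime_two (by norm_num) (by norm_num)] at hpos
    exact lt_irrefl 0 hpos

theorem not_8064 {t : G} (hC : Nat.card (cz t) = 8064) : False := by
  haveI : Fact (Nat.Prime 7) := ⟨by norm_num⟩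
  obtain ⟨w, hw⟩ := exists_prime_orderOf_dvd_card' (G := cz t) 7 (by rw [hC]; norm_num)
  have hk : (Nat.card (cz t)).factorization 7 = 1 := by
    rw [hC]; exact fact_eq (m := 1152) (by norm_num) (by norm_num) (by norm_num)
  have h1 := cnt_eq_sylow_mul hk (g := w) (by rw [pow_one, hw])
  have h2 := card_normalizer hk (g := w) (by rw [pow_one, hw])
  rw [h1, hC, pow_one, Nat.totient_prime (by norm_num)] at h2
  have hm := card_sylow_modEq_one 7 (cz t)
  rw [Nat.ModEq] at hm
  have hd : Nat.card (normalizer (zpowers w : Set (cz t))) ∣ 42 := by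
    rw [← (D.seven_data (w := (w : G)) (by rw [Subgroup.orderOf_coe, hw])).2,
      Nat.card_congr ((normalizer (zpowers w : Set (cz t))).equivMapOfInjective _
        (cz t).subtype_injective).toEquiv]
    refine card_dvd_of_le ?_
    refine (le_normalizer_map (cz t).subtype).trans (le_of_eq ?_)
    rw [MonoidHom.map_zpowers]
    rfl
  generalize Nat.card (normalizer (zpowers w : Set (cz t))) = N at h2 hd
  have := Nat.le_of_dvd (by norm_num) hd
  interval_cases N <;> first | omega | (norm_num at hd; done)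

/-- An involution with the expected centraliser. -/
theorem exists_inv_cent : ∃ t : G, orderOf t = 2 ∧ Nat.card (cz t) = 2688 := by
  haveI : Fact (Nat.Prime 2) := ⟨Nat.prime_two⟩
  obtain ⟨S⟩ : Nonempty (Sylow 2 G) := inferInstance
  have hS : Nat.card (S : Subgroup G) = 128 := by
    rw [Sylow.card_eq_multiplicity, D.card,
      fact_eq (k := 7) (m := 79695) Nat.prime_two (by norm_num) (by norm_num)]
    rfl
  haveI : Nontrivial (S : Subgroup G) := Finite.one_lt_card_iff_nontrivial.1 (by rw [hS]; norm_num)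
  have hZ := S.2.center_nontrivial
  obtain ⟨z, hz⟩ := exists_prime_orderOf_dvd_card' (G := center (S : Subgroup G)) 2 (by
    obtain ⟨k, hk⟩ := IsPGroup.iff_card.1 (S.2.to_subgroup (center (S : Subgroup G)))
    have h1 := Finite.one_lt_card_iff_nontrivial.2 hZ
    rcases Nat.eq_zero_or_pos k with rfl | hk0
    · rw [hk] at h1; norm_num at h1
    · rw [hk]; exact dvd_pow_self 2 hk0.ne')
  set t : G := ((z : (S : Subgroup G)) : G) with htdef
  have ht : orderOf t = 2 := by rw [htdef, Subgroup.orderOf_coe, Subgroup.orderOf_coe, hz]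
  refine ⟨t, ht, ?_⟩
  have hSt : (S : Subgroup G) ≤ cz t := fun s hs =>
    mem_cz.2 (congrArg Subtype.val (mem_center_iff.1 z.2 ⟨s, hs⟩))
  obtain ⟨m, hm⟩ := hS ▸ card_dvd_of_le hSt
  have h8064 : Nat.card (cz t) ∣ 8064 := by
    have hdvd : Nat.card (cz t) ∣ 10200960 := D.card ▸ card_subgroup_dvd_card _
    refine Nat.Coprime.dvd_of_dvd_mul_right (n := 5 * 11 * 23) ?_
      (by rwa [show 8064 * (5 * 11 * 23) = 10200960 from rfl])
    have hp : ∀ p, p.Prime → ¬ p ∣ Nat.card (cz t) → Nat.Coprime (Nat.card (cz t)) p := fun p hp h =>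
      ((Nat.Prime.coprime_iff_not_dvd hp).2 h).symm
    exact ((hp 5 (by norm_num) (D.not_dvd_cent ht (by simp))).mul_right
      (hp 11 (by norm_num) (D.not_dvd_cent ht (by simp)))).mul_right
        (hp 23 (by norm_num) (D.not_dvd_cent ht (by simp)))
  have hle : Nat.card {u : G // IsConj t u} ≤ 3795 := by
    rw [← D.c2]
    refine Nat.card_le_card_of_injective (fun u => (⟨u.1, ?_⟩ : {g : G // orderOf g = 2})) ?_
    · obtain ⟨c, hc⟩ := isConj_iff.1 u.2
      rw [← hc, H78.M22R.orderOf_conj', ht]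
    · intro u v e
      exact Subtype.ext (congrArg (fun w : {g : G // orderOf g = 2} => w.1) e)
  have hmul := card_class_mul t
  rw [D.card, hm] at hmul
  rw [hm] at h8064
  have hm63 : m ∣ 63 := Nat.dvd_of_mul_dvd_mul_left (by norm_num : 0 < 128) h8064
  have hm_le := Nat.le_of_dvd (by norm_num) hm63
  have h21 : 21 ≤ m := by
    by_contra hlt
    have := Nat.mul_le_mul hle (show 128 * m ≤ 128 * 20 by omega)
    omega
  rcases (show m = 21 ∨ m = 63 by interval_cases m <;> simp_all (config := { decide := true }))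
    with rfl | rfl
  · exact hm
  · exact (D.not_8064 hm).elim

theorem conj_cent {s : G} (hs : orderOf s = 2) :
    ∀ t : G, orderOf t = 2 → IsConj s t ∧ Nat.card (cz t) = 2688 := by
  obtain ⟨t0, ht0, hC⟩ := D.exists_inv_cent
  let f : {u : G // IsConj t0 u} → {g : G // orderOf g = 2} := fun u => ⟨u.1, by
    obtain ⟨c, hc⟩ := isConj_iff.1 u.2
    rw [← hc, H78.M22R.orderOf_conj', ht0]⟩
  have hf : Function.Bijective f := (Nat.bijective_iff_injective_and_card f).2
    ⟨fun a b e => Subtype.ext (congrArg (fun w : {g : G // orderOf g = 2} => w.1) e), by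
      have h := card_class_mul t0
      have h2 : Nat.card {g : G // orderOf g = 2} = 3795 := D.c2
      rw [hC, D.card] at h
      omega⟩
  have hconj : ∀ u, orderOf u = 2 → IsConj t0 u := fun u hu => by
    obtain ⟨v, hv⟩ := hf.2 ⟨u, hu⟩
    have e : v.1 = u := congrArg (fun w : {g : G // orderOf g = 2} => w.1) hv
    rw [← e]
    exact v.2
  intro t ht
  refine ⟨(hconj s hs).symm.trans (hconj t ht), ?_⟩
  obtain ⟨c, rfl⟩ := isConj_iff.1 (hconj t ht)
  exact (card_cz_conj c t0).trans hC

theorem three_in {t : G} (ht : orderOf t = 2) :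
    Nat.card {x : G // orderOf x = 3 ∧ Commute x t} = 224 := by
  classical
  haveI := Fintype.ofFinite G
  haveI : Fact (Nat.Prime 3) := ⟨Nat.prime_three⟩
  have h6 := D.exists_six
  have hC := (D.conj_cent ht t ht).2
  have hL : cnt G 6 = 3795 * Nat.card {x : G // orderOf x = 3 ∧ Commute x t} := by
    rw [card_pairs, ← D.c2]
    have hsame : ∀ s : {g : G // orderOf g = 2}, Nat.card {x : G // orderOf x = 3 ∧ Commute x s.1} =
        Nat.card {x : G // orderOf x = 3 ∧ Commute x t} := by
      intro s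
      obtain ⟨c, hc⟩ := isConj_iff.1 (D.conj_cent ht s.1 s.2).1
      refine (Nat.card_congr ((MulAut.conj c).toEquiv.subtypeEquiv fun x => ?_)).symm
      simp only [MulEquiv.toEquiv_eq_coe, MulEquiv.coe_toEquiv, MulAut.conj_apply,
        H78.M22R.orderOf_conj', ← hc, commute_conj_iff]
    rw [show Nat.card (Σ x : {g : G // orderOf g = 3}, {u : G // orderOf u = 2 ∧ Commute u x.1}) =
        Nat.card (Σ s : {g : G // orderOf g = 2}, {x : G // orderOf x = 3 ∧ Commute x s.1}) from
      Nat.card_congr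
        { toFun := fun a => ⟨⟨a.2.1, a.2.2.1⟩, ⟨a.1.1, a.1.2, a.2.2.2.symm⟩⟩
          invFun := fun a => ⟨⟨a.2.1, a.2.2.1⟩, ⟨a.1.1, a.1.2, a.2.2.2.symm⟩⟩
          left_inv := fun a => rfl
          right_inv := fun a => rfl },
      Nat.card_sigma, Finset.sum_congr rfl (fun s _ => hsame s), Finset.sum_const, smul_eq_mul,
      Finset.card_univ, ← Nat.card_eq_fintype_card]
    rfl
  have hk : (Nat.card (cz t)).factorization 3 = 1 := by
    rw [hC]; exact fact_eq (m := 896) Nat.prime_three (by norm_num) (by norm_num)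
  obtain ⟨x, hx⟩ := exists_prime_orderOf_dvd_card' (G := cz t) 3 (by rw [hC]; norm_num)
  have h := cnt_eq_sylow_mul hk (g := x) (by rw [pow_one, hx])
  rw [pow_one, cnt_cz, Nat.totient_prime Nat.prime_three] at h
  have hm := card_sylow_modEq_one 3 (cz t)
  rw [Nat.ModEq] at hm
  have hv := val_cases (D.val 6 h6)
  rcases hv with e | e | e | e | e | e | e | e | e | e | e <;> omega

theorem roots {t : G} (ht : orderOf t = 2) :
    Nat.card {g : G // t ∈ zpowers g} = 1029 := by
  classical
  haveI := Fintype.ofFinite G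
  have hsame : ∀ s : {g : G // orderOf g = 2},
      Nat.card {g : G // s.1 ∈ zpowers g} = Nat.card {g : G // t ∈ zpowers g} := by
    intro s
    obtain ⟨c, hc⟩ := isConj_iff.1 (D.conj_cent ht s.1 s.2).1
    refine (Nat.card_congr ((MulAut.conj c).toEquiv.subtypeEquiv fun g => ?_)).symm
    rw [← hc]
    show t ∈ zpowers g ↔ (MulAut.conj c).toMonoidHom t ∈ zpowers ((MulAut.conj c).toMonoidHom g)
    rw [← MonoidHom.map_zpowers, mem_map_iff_mem (MulAut.conj c).injective]
  have h : 3795 * Nat.card {g : G // t ∈ zpowers g} = 3905055 := by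
    rw [← D.c2, ← D.card_even]
    calc cnt G 2 * Nat.card {g : G // t ∈ zpowers g}
        = Nat.card (Σ s : {g : G // orderOf g = 2}, {g : G // s.1 ∈ zpowers g}) := by
          rw [Nat.card_sigma, Finset.sum_congr rfl (fun s _ => hsame s), Finset.sum_const,
            smul_eq_mul, Finset.card_univ, ← Nat.card_eq_fintype_card]
          rfl
      _ = Nat.card (Σ g : {g : G // Even (orderOf g)}, {u : G // orderOf u = 2 ∧ u ∈ zpowers g.1}) :=
          Nat.card_congr
            { toFun := fun a => ⟨⟨a.2.1, by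
                  have := orderOf_dvd_of_mem_zpowers a.2.2
                  rw [a.1.2] at this
                  exact even_iff_two_dvd.2 this⟩, ⟨a.1.1, a.1.2, a.2.2⟩⟩
              invFun := fun a => ⟨⟨a.2.1, a.2.2.1⟩, ⟨a.1.1, a.2.2.2⟩⟩
              left_inv := fun a => rfl
              right_inv := fun a => rfl }
      _ = Nat.card {g : G // Even (orderOf g)} := by
          rw [Nat.card_sigma, Finset.sum_congr rfl (fun g _ => card_inv_powers g.2),
            Finset.sum_const, smul_eq_mul, mul_one, Finset.card_univ, ← Nat.card_eq_fintype_card]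
  omega

theorem cent3 {x : G} (hx : orderOf x = 3) : 180 ≤ Nat.card (cz x) := by
  have hle : Nat.card {u : G // IsConj x u} ≤ 56672 := by
    rw [← D.c3]
    refine Nat.card_le_card_of_injective (fun u => (⟨u.1, ?_⟩ : {g : G // orderOf g = 3})) ?_
    · obtain ⟨c, hc⟩ := isConj_iff.1 u.2
      rw [← hc, H78.M22R.orderOf_conj', hx]
    · intro u v e
      exact Subtype.ext (congrArg (fun w : {g : G // orderOf g = 3} => w.1) e)
  have h := card_class_mul x
  rw [D.card] at h
  by_contra hlt
  have := Nat.mul_le_mul hle (show Nat.card (cz x) ≤ 179 by omega)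
  omega

end Tally

/-- The local data follow from the order and the set of counts of elements by order. -/
theorem loc_of_nse (hcard : Nat.card G = 10200960)
    (hnse : {c : ℕ | 0 < c ∧ ∃ n : ℕ, c = Nat.card {g : G // orderOf g = n}} = nseM23) : Loc G := by
  have D := tally_of_nse hcard hnse
  exact
    { card := hcard
      conj2 := fun s t hs ht => (D.conj_cent hs t ht).1
      cent2 := fun t ht => (D.conj_cent ht t ht).2
      cent3 := fun x hx => D.cent3 hx
      cent5 := fun z hz => (D.five_data hz).1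
      norm5 := fun z hz => (D.five_data hz).2.1
      cent7 := fun w hw => (D.seven_data hw).1
      norm7 := fun w hw => (D.seven_data hw).2
      three_in := fun t ht => D.three_in ht
      roots := fun t ht => D.roots ht }

end H91.M23R
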