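import Cfsg.Agent.H91.M23R.InCent
import Mathlib.Algebra.Order.BigOperators.Group.Finset

/-! The centraliser of an involution has no normal Sylow 2-subgroup. -/

set_option autoImplicit false

namespace H91.M23R

open Subgroup H78.M22R

variable {G : Type*} [Group G] [Finite G] {t : G} (L : Loc G)
include L

theorem no_normal_sylow (ht : orderOf t = 2) (Q : Subgroup G) (hQn : Nrm (cz t) Q)
    (hQle : Q ≤ cz t) (hQ : Nat.card Q = 128) : False := by
  classical
  haveI := Fintype.ofFinite G
  have hall : ∀ g ∈ cz t, orderOf g ∣ 128 → g ∈ Q := by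
    intro g hg ho
    have hS : IsPGroup 2 (zpowers g) := by
      obtain ⟨k, -, hk⟩ := (Nat.dvd_prime_pow Nat.prime_two).1
        (show orderOf g ∣ 2 ^ 7 from ho)
      exact IsPGroup.of_card (by rw [Nat.card_zpowers, hk])
    have hP : IsPGroup 2 (Q ⊔ zpowers g : Subgroup G) :=
      IsPGroup.to_sup_of_normal_left' (IsPGroup.of_card (n := 7) hQ) hS
        ((zpowers_le.2 (hQn.le_normalizer hg)))
    obtain ⟨k, hk⟩ := hP.exists_card_eq
    have hd := card_dvd_cent L ht (sup_le hQle (zpowers_le.2 hg))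
    rw [hk] at hd
    have hk7 : k ≤ 7 := by
      by_contra h
      exact absurd ((pow_dvd_pow 2 (show 8 ≤ k by omega)).trans hd) (by norm_num)
    have heq : Q = Q ⊔ zpowers g := Subgroup.eq_of_le_of_card_ge le_sup_left (by
      rw [hk, hQ]; exact (Nat.pow_le_pow_right (by norm_num) hk7).trans_eq (by norm_num))
    rw [heq]
    exact mem_sup_right (mem_zpowers g)
  have ht2 : t * t = 1 := by rw [← pow_two, ← ht, pow_orderOf_eq_one]
  have htc : t ∈ cz t := mem_cz.2 (Commute.refl t)
  let F : Finset G := Finset.univ.filter fun g => t ∈ zpowers g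
  have hmemF : ∀ {g}, g ∈ F ↔ t ∈ zpowers g := by simp [F]
  have hFc : F.card = 1029 := by
    rw [← L.roots t ht, Nat.card_eq_fintype_card, Fintype.card_subtype]
  have hFt : ∀ g ∈ F, g ∈ cz t := by
    intro g hg
    obtain ⟨n, hn⟩ := mem_zpowers_iff.1 (hmemF.1 hg)
    exact mem_cz.2 (hn ▸ (Commute.refl g).zpow_right n)
  let X3 : Finset G := Finset.univ.filter fun g => orderOf g = 3 ∧ g ∈ cz t
  let X7 : Finset G := Finset.univ.filter fun g => orderOf g = 7 ∧ g ∈ cz t
  have hX3 : X3.card = 224 := by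
    rw [← card_three L ht, Nat.card_eq_fintype_card, Fintype.card_subtype]
  have hX7 : X7.card = 384 := by
    rw [← card_seven L ht, Nat.card_eq_fintype_card, Fintype.card_subtype]
  let F7 := F.filter fun g => 7 ∣ orderOf g
  let F' := F.filter fun g => ¬ 7 ∣ orderOf g
  let F3 := F'.filter fun g => 3 ∣ orderOf g
  let F2 := F'.filter fun g => ¬ 3 ∣ orderOf g
  have hsum : F7.card + (F3.card + F2.card) = 1029 := by
    rw [Finset.card_filter_add_card_filter_not, Finset.card_filter_add_card_filter_not, hFc]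
  -- the 7-singular roots
  have h7 : F7.card = 384 := by
    rw [← hX7]
    refine Finset.card_nbij' (· * t) (· * t) ?_ ?_ (fun g _ => ?_) (fun g _ => ?_)
    · intro g hg
      obtain ⟨hgF, h7g⟩ := Finset.mem_filter.1 hg
      have hgt := mem_cz.1 (hFt g hgF)
      obtain ⟨a, ha⟩ := h7g
      have hpos := orderOf_pos g
      have hw : orderOf (g ^ a) = 7 := by
        rw [orderOf_pow_of_dvd (by rintro rfl; omega) (ha ▸ dvd_mul_left a 7), ha,
          Nat.mul_div_left _ (Nat.pos_of_ne_zero (by rintro rfl; omega))]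
      have hwt : g ^ a ∈ cz t := pow_mem (hFt g hgF) a
      have hgz : g ∈ zpowers (g ^ a * t) :=
        cz_seven L ht hw hwt ▸ mem_cz.2 ((Commute.refl g).pow_right a)
      have ho : orderOf g ∣ 14 := by
        rw [← order_mul_t ht hw hwt]
        exact orderOf_dvd_of_mem_zpowers hgz
      have ho2 : 2 ∣ orderOf g := by
        rw [← ht]; exact orderOf_dvd_of_mem_zpowers (hmemF.1 hgF)
      have ho14 : orderOf g = 14 := Nat.dvd_antisymm ho
        (show 7 * 2 ∣ orderOf g from Nat.Coprime.mul_dvd_of_dvd_of_dvd (by norm_num)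
          ⟨a, ha⟩ ho2)
      have hs : orderOf (g ^ 7) = 2 := by
        rw [orderOf_pow_of_dvd (by norm_num) (by rw [ho14]; norm_num), ho14]
      have hg7 : g ^ 7 = t := by
        rcases two_in_cz_seven L ht hw hwt (((Commute.refl g).pow_left 7).pow_right a) 1
          (by rw [pow_one, ← hs, pow_orderOf_eq_one]) with h | h
        · rw [h, orderOf_one] at hs; omega
        · exact h
      show g * t ∈ X7
      simp only [X7, Finset.mem_filter, Finset.mem_univ, true_and]
      refine ⟨?_, mul_mem (hFt g hgF) htc⟩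
      rw [← hg7, ← pow_succ', orderOf_pow, ho14]
      rfl
    · intro w hw
      simp only [X7, Finset.mem_filter, Finset.mem_univ, true_and, Finset.coe_filter,
        Set.mem_setOf_eq] at hw
      have ho := order_mul_t ht hw.1 hw.2
      refine Finset.mem_filter.2 ⟨hmemF.2 ?_, by rw [ho]; norm_num⟩
      refine mem_zpowers_iff.2 ⟨7, ?_⟩
      rw [show (7 : ℤ) = ((7 : ℕ) : ℤ) from rfl, zpow_natCast, (mem_cz.1 hw.2).mul_pow,
        ← hw.1, pow_orderOf_eq_one, hw.1, one_mul, pow_succ, show t ^ 6 = (t * t) ^ 3 by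
          rw [← pow_two, ← pow_mul], ht2, one_pow, one_mul]
    · show g * t * t = g
      rw [mul_assoc, ht2, mul_one]
    · show g * t * t = g
      rw [mul_assoc, ht2, mul_one]
  -- the 3-singular roots fibre over the elements of order 3
  have h3 : 224 ∣ F3.card := by
    let φ : G → G := fun g => g ^ (orderOf g / 3)
    have hφ : ∀ g ∈ F3, φ g ∈ X3 := by
      intro g hg
      obtain ⟨hg', h3g⟩ := Finset.mem_filter.1 hg
      simp only [X3, Finset.mem_filter, Finset.mem_univ, true_and]
      refine ⟨?_, pow_mem (hFt g (Finset.mem_filter.1 hg').1) _⟩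
      have h := orderOf_pos g
      obtain ⟨a, ha⟩ := h3g
      show orderOf (g ^ (orderOf g / 3)) = 3
      rw [ha, Nat.mul_div_cancel_left a (by norm_num : 0 < 3),
        orderOf_pow_of_dvd (by rintro rfl; omega) (ha ▸ dvd_mul_left a 3), ha,
        Nat.mul_div_left _ (Nat.pos_of_ne_zero (by rintro rfl; omega))]
    have hF3c : ∀ s ∈ cz t, ∀ g ∈ F3, s * g * s⁻¹ ∈ F3 := by
      intro s hs g hg
      obtain ⟨hg', h3g⟩ := Finset.mem_filter.1 hg
      obtain ⟨hgF, h7g⟩ := Finset.mem_filter.1 hg'
      refine Finset.mem_filter.2 ⟨Finset.mem_filter.2 ⟨hmemF.2 ?_, ?_⟩, ?_⟩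
      · obtain ⟨n, hn⟩ := mem_zpowers_iff.1 (hmemF.1 hgF)
        exact mem_zpowers_iff.2 ⟨n, by
          rw [conj_zpow, hn, (mem_cz.1 hs).eq, mul_inv_cancel_right]⟩
      · rwa [orderOf_conj']
      · rwa [orderOf_conj']
    have hF3i : ∀ g ∈ F3, g⁻¹ ∈ F3 := by
      intro g hg
      obtain ⟨hg', h3g⟩ := Finset.mem_filter.1 hg
      obtain ⟨hgF, h7g⟩ := Finset.mem_filter.1 hg'
      exact Finset.mem_filter.2 ⟨Finset.mem_filter.2 ⟨hmemF.2 (by
        rw [zpowers_inv]; exact hmemF.1 hgF), by rwa [orderOf_inv]⟩, by rwa [orderOf_inv]⟩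
    have hφc : ∀ s g : G, φ (s * g * s⁻¹) = s * φ g * s⁻¹ := fun s g => by
      show (s * g * s⁻¹) ^ _ = _
      rw [orderOf_conj', conj_pow]
    have hφi : ∀ g : G, φ g⁻¹ = (φ g)⁻¹ := fun g => by
      show g⁻¹ ^ _ = _
      rw [orderOf_inv, inv_pow]
    have hle : ∀ x ∈ X3, ∀ y ∈ X3,
        (F3.filter fun g => φ g = x).card ≤ (F3.filter fun g => φ g = y).card := by
      intro x hx y hy
      haveI := Fact.mk Nat.prime_three
      simp only [X3, Finset.mem_filter, Finset.mem_univ, true_and] at hx hy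
      obtain ⟨s, hs, j, hj0, hj3, he⟩ := conj_gen (cz t) hx.2 hy.2 hx.1 hy.1 (not_9 L ht le_rfl)
      have hx3 : x ^ 3 = 1 := hx.1 ▸ pow_orderOf_eq_one x
      have hj : j = 1 ∨ j = 2 := by omega
      rcases hj with rfl | rfl
      · refine Finset.card_le_card_of_injOn (fun g => s * g * s⁻¹) ?_ ?_
        · intro g hg
          obtain ⟨hg3, hgx⟩ := Finset.mem_filter.1 hg
          exact Finset.mem_filter.2 ⟨hF3c s hs g hg3, by
            show φ (s * g * s⁻¹) = y
            rw [hφc, hgx, he, pow_one]⟩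
        · intro g _ g' _ e
          exact mul_left_cancel (mul_right_cancel e)
      · refine Finset.card_le_card_of_injOn (fun g => s * g⁻¹ * s⁻¹) ?_ ?_
        · intro g hg
          obtain ⟨hg3, hgx⟩ := Finset.mem_filter.1 hg
          exact Finset.mem_filter.2 ⟨hF3c s hs _ (hF3i g hg3), by
            show φ (s * g⁻¹ * s⁻¹) = y
            rw [hφc, hφi, hgx, he, show x⁻¹ = x ^ 2 from
              inv_eq_of_mul_eq_one_right (by rw [← pow_succ', hx3])]⟩
        · intro g _ g' _ e
          exact inv_injective (mul_left_cancel (mul_right_cancel e))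
    obtain ⟨x0, hx0⟩ : X3.Nonempty := Finset.card_pos.1 (by rw [hX3]; norm_num)
    refine ⟨(F3.filter fun g => φ g = x0).card, ?_⟩
    rw [Finset.card_eq_sum_card_fiberwise hφ,
      Finset.sum_congr rfl (fun y hy => le_antisymm (hle y hy x0 hx0) (hle x0 hx0 y hy)),
      Finset.sum_const, hX3, smul_eq_mul]
  -- the roots of 2-power order lie in Q
  have hsub : F2 ⊆ (Finset.univ.filter fun g => g ∈ Q).erase 1 := by
    intro g hg
    obtain ⟨hg', h3g⟩ := Finset.mem_filter.1 hg
    obtain ⟨hgF, h7g⟩ := Finset.mem_filter.1 hg'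
    have hd : orderOf g ∣ 2688 := L.cent2 t ht ▸ Subgroup.orderOf_dvd_natCard _ (hFt g hgF)
    have hcop : Nat.Coprime (orderOf g) 21 := by
      rw [show (21 : ℕ) = 3 * 7 from rfl]
      exact Nat.Coprime.mul_right ((Nat.prime_three.coprime_iff_not_dvd.2 h3g).symm)
        (((by decide : Nat.Prime 7).coprime_iff_not_dvd.2 h7g).symm)
    refine Finset.mem_erase.2 ⟨?_, Finset.mem_filter.2 ⟨Finset.mem_univ _,
      hall g (hFt g hgF) (hcop.dvd_of_dvd_mul_right (show orderOf g ∣ 128 * 21 from hd))⟩⟩
    rintro rfl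
    have h1 := hmemF.1 hgF
    rw [zpowers_one_eq_bot, mem_bot] at h1
    rw [h1, orderOf_one] at ht
    omega
  have hQc : (Finset.univ.filter fun g => g ∈ Q).card = 128 := by
    rw [← hQ, Nat.card_eq_fintype_card, Fintype.card_subtype]
  have h2le : F2.card ≤ 127 := by
    have := Finset.card_le_card hsub
    rw [Finset.card_erase_of_mem (Finset.mem_filter.2 ⟨Finset.mem_univ _, Q.one_mem⟩), hQc] at this
    omega
  have h2pos : 0 < F2.card := Finset.card_pos.2 ⟨t, Finset.mem_filter.2
    ⟨Finset.mem_filter.2 ⟨hmemF.2 (mem_zpowers t), by rw [ht]; norm_num⟩, by rw [ht]; norm_num⟩⟩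
  obtain ⟨k, hk⟩ := h3
  omega

/-- `3` divides the order of `mSub t`. -/
theorem three_dvd_mSub (ht : orderOf t = 2) : 3 ∣ Nat.card (mSub t) := by
  classical
  haveI := Fintype.ofFinite G
  by_contra h3
  set M := mSub t with hMdef
  have hd := card_dvd_cent L ht (mSub_le t)
  obtain ⟨a, ha⟩ := dvd_card_mSub L ht
  rw [← hMdef] at hd ha
  have hM : Nat.card M = 448 ∨ Nat.card M = 896 := by
    have ha6 : a ∣ 6 := Nat.dvd_of_mul_dvd_mul_left (show 0 < 448 by norm_num)
      (show 448 * a ∣ 448 * 6 by rw [← ha]; exact hd)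
    have hle := Nat.le_of_dvd (by norm_num) ha6
    interval_cases a <;> omega
  let MF : Finset G := Finset.univ.filter fun g => g ∈ M
  have hMF : MF.card = Nat.card M := by rw [Nat.card_eq_fintype_card, Fintype.card_subtype]
  let B := MF.filter fun g => 7 ∣ orderOf g
  let T2 := MF.filter fun g => ¬ 7 ∣ orderOf g
  have hBT : B.card + T2.card = Nat.card M := by
    rw [Finset.card_filter_add_card_filter_not, hMF]
  let X7 : Finset G := Finset.univ.filter fun g => orderOf g = 7 ∧ g ∈ cz t
  have hX7 : X7.card = 384 := by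
    rw [← card_seven L ht, Nat.card_eq_fintype_card, Fintype.card_subtype]
  have hsub1 : X7 ⊆ B := fun g hg => by
    simp only [X7, Finset.mem_filter, Finset.mem_univ, true_and] at hg
    simp [B, MF, hg.1, M, mem_mSub hg.1 hg.2]
  have htM : t ∈ M → 768 ≤ B.card := by
    intro htM
    have hsub2 : X7.image (· * t) ⊆ B := fun g hg => by
      simp only [X7, Finset.mem_image, Finset.mem_filter, Finset.mem_univ, true_and] at hg
      obtain ⟨w, ⟨hw, hwt⟩, rfl⟩ := hg
      simp [B, MF, order_mul_t ht hw hwt]; exact mul_mem (mem_mSub hw hwt) htM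
    have hdisj : Disjoint X7 (X7.image (· * t)) := by
      rw [Finset.disjoint_left]
      intro g hg hg'
      simp only [X7, Finset.mem_image, Finset.mem_filter, Finset.mem_univ, true_and] at hg hg'
      obtain ⟨w, ⟨hw, hwt⟩, rfl⟩ := hg'
      have := hg.1
      rw [order_mul_t ht hw hwt] at this
      omega
    have h := Finset.card_le_card (Finset.union_subset hsub1 hsub2)
    rw [Finset.card_union_of_disjoint hdisj,
      Finset.card_image_of_injective _ (mul_left_injective t), hX7] at h
    omega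
  have hB : 384 ≤ B.card := hX7 ▸ Finset.card_le_card hsub1
  have htM' : Nat.card M = 896 → t ∈ M := by
    intro h896
    by_contra htn
    have hN : Nrm M (zpowers t) := (nrm_zpowers fun c hc => mem_cz.1 hc).mono (mSub_le t)
    have hd' : (M ⊓ zpowers t : Subgroup G) = ⊥ := by
      rw [eq_bot_iff]
      intro g hg
      obtain ⟨hgM, hgz⟩ := Subgroup.mem_inf.1 hg
      rw [mem_zpowers_iff_mem_range_orderOf, ht] at hgz
      simp only [Finset.mem_image, Finset.mem_range] at hgz
      obtain ⟨i, hi, rfl⟩ := hgz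
      interval_cases i
      · simp
      · rw [pow_one] at hgM; exact absurd hgM htn
    have hsup := card_sup_eq (A := M) (B := zpowers t)
      (zpowers_le.2 ((mSub_nrm t).le_normalizer (mem_cz.2 (Commute.refl t)))) hd'
    rw [Nat.card_zpowers, ht, h896] at hsup
    have := card_dvd_cent L ht
      (sup_le (mSub_le t) (zpowers_le.2 (mem_cz.2 (Commute.refl t))))
    rw [hMdef] at hsup
    rw [hsup] at this
    norm_num at this
  -- a Sylow 2-subgroup of M consists of all elements of order prime to 7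
  obtain ⟨k, hk, hk2⟩ : ∃ k, Nat.card M = 7 * 2 ^ k ∧ T2.card ≤ 2 ^ k := by
    rcases hM with h | h
    · exact ⟨6, by rw [h]; norm_num, by norm_num; omega⟩
    · exact ⟨7, by rw [h]; norm_num, by have := htM (htM' h); norm_num; omega⟩
  haveI := Fact.mk Nat.prime_two
  obtain ⟨S0, hS0⟩ := Sylow.exists_subgroup_card_pow_prime (G := M) 2 (n := k)
    (hk ▸ dvd_mul_left _ _)
  let S := S0.map M.subtype
  have hSc : Nat.card S = 2 ^ k := by rw [card_map_of_injective M.subtype_injective, hS0]
  have hSM : S ≤ M := map_subtype_le S0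
  let SF : Finset G := Finset.univ.filter fun g => g ∈ S
  have hST : SF = T2 := by
    refine Finset.eq_of_subset_of_card_le (fun g hg => ?_) ?_
    · simp only [SF, Finset.mem_filter, Finset.mem_univ, true_and] at hg
      refine Finset.mem_filter.2 ⟨Finset.mem_filter.2 ⟨Finset.mem_univ _, hSM hg⟩, fun h => ?_⟩
      have := h.trans (Subgroup.orderOf_dvd_natCard _ hg)
      rw [hSc] at this
      exact absurd ((by decide : Nat.Prime 7).dvd_of_dvd_pow this) (by norm_num)
    · rw [show SF.card = 2 ^ k by rw [← hSc, Nat.card_eq_fintype_card, Fintype.card_subtype]]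
      exact hk2
  have hSmem : ∀ g, g ∈ S ↔ g ∈ M ∧ ¬ 7 ∣ orderOf g := fun g => by
    have := Finset.ext_iff.1 hST g
    simpa [SF, T2, MF] using this
  have hSn : Nrm (cz t) S := fun c hc g hg => (hSmem _).2
    ⟨mSub_nrm t c hc g ((hSmem g).1 hg).1, by rw [orderOf_conj']; exact ((hSmem g).1 hg).2⟩
  have htc : t ∈ cz t := mem_cz.2 (Commute.refl t)
  rcases hM with h | h
  · have hk6 : k = 6 := Nat.pow_right_injective (le_refl 2) (show 2 ^ k = 2 ^ 6 by omega)
    have htn : t ∉ M := fun htm => by have := htM htm; omega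
    have hd' : (S ⊓ zpowers t : Subgroup G) = ⊥ := by
      rw [eq_bot_iff]
      intro g hg
      obtain ⟨hgM, hgz⟩ := Subgroup.mem_inf.1 hg
      rw [mem_zpowers_iff_mem_range_orderOf, ht] at hgz
      simp only [Finset.mem_image, Finset.mem_range] at hgz
      obtain ⟨i, hi, rfl⟩ := hgz
      interval_cases i
      · simp
      · rw [pow_one] at hgM; exact absurd (hSM hgM) htn
    refine no_normal_sylow L ht (S ⊔ zpowers t) (hSn.sup (nrm_zpowers fun c hc => mem_cz.1 hc))
      (sup_le (hSM.trans (mSub_le t)) (zpowers_le.2 htc)) ?_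
    rw [card_sup_eq (zpowers_le.2 (hSn.le_normalizer htc)) hd', hSc, Nat.card_zpowers, ht, hk6]
    norm_num
  · have hk7 : k = 7 := Nat.pow_right_injective (le_refl 2) (show 2 ^ k = 2 ^ 7 by omega)
    exact no_normal_sylow L ht S hSn (hSM.trans (mSub_le t)) (by rw [hSc, hk7]; norm_num)

end H91.M23R
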