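import Cfsg.Agent.H91.M23R.Loc
import Cfsg.Agent.H62.M23A7
import Mathlib.GroupTheory.GroupAction.Quotient

/-! The suborbits of the 253 cosets of the normaliser of the sixteen-group. -/

set_option autoImplicit false

namespace H91.M23R

variable {G : Type*} [Group G]

/-- The normaliser of the sixteen-group. -/
abbrev Hep.N (H : Hep G) : Subgroup G := Subgroup.normalizer (H.E : Set G)

/-- The 253 blocks. -/
abbrev Hep.Blk (H : Hep G) : Type _ := G ⧸ H.N

/-- The base block. -/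
abbrev Hep.base (H : Hep G) : H.Blk := ((1 : G) : G ⧸ H.N)

/-- The two nontrivial suborbits (112, 140) with their labels in the seven points of the base. -/
structure Orb (H : Hep G) (π : ↥H.N →* H62.M23A7.A7) where
  one : Set H.Blk
  two : Set H.Blk
  cover : ∀ B : H.Blk, B = H.base ∨ B ∈ one ∨ B ∈ two
  base_one : H.base ∉ one
  base_two : H.base ∉ two
  disj : ∀ B ∈ one, B ∉ two
  lab : H.Blk → Fin 7
  tri : H.Blk → Finset (Fin 7)
  smul_one : ∀ (n : ↥H.N), ∀ B ∈ one, (n : G) • B ∈ one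
  smul_two : ∀ (n : ↥H.N), ∀ B ∈ two, (n : G) • B ∈ two
  lab_eq : ∀ (n : ↥H.N), ∀ B ∈ one,
    lab ((n : G) • B) = ((π n : H62.M23A7.A7) : Equiv.Perm (Fin 7)) (lab B)
  tri_eq : ∀ (n : ↥H.N), ∀ B ∈ two,
    tri ((n : G) • B) = (tri B).image ((π n : H62.M23A7.A7) : Equiv.Perm (Fin 7))
  tri_card : ∀ B ∈ two, (tri B).card = 3
  lab_fib : ∀ i : Fin 7, Nat.card {B : H.Blk // B ∈ one ∧ lab B = i} = 16
  tri_fib : ∀ R : Finset (Fin 7), R.card = 3 →
    Nat.card {B : H.Blk // B ∈ two ∧ tri B = R} = 4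
  one_trans : ∀ B ∈ one, ∀ B' ∈ one, lab B = lab B' → ∃ e ∈ H.E, e • B = B'
  two_trans : ∀ B ∈ two, ∀ B' ∈ two, tri B = tri B' → ∃ e ∈ H.E, e • B = B'
  one_free : ∀ B ∈ one, ∀ e ∈ H.E, e • B = B → e = 1
  two_stab : ∀ B ∈ two, Nat.card {e : G // e ∈ H.E ∧ e • B = B} = 4
  one_symm : ∀ g : G, g • H.base ∈ one → g⁻¹ • H.base ∈ one
  two_symm : ∀ g : G, g • H.base ∈ two → g⁻¹ • H.base ∈ two

/-- The star of the point `i` of the base block: itself, 16 and 60 blocks. -/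
def Orb.star {H : Hep G} {π : ↥H.N →* H62.M23A7.A7} (O : Orb H π) (i : Fin 7) : Set H.Blk :=
  {B | B = H.base ∨ (B ∈ O.one ∧ O.lab B = i) ∨ (B ∈ O.two ∧ i ∈ O.tri B)}

/-- The parity statement behind the closure of stars. -/
def EightStmt {H : Hep G} {π : ↥H.N →* H62.M23A7.A7} (O : Orb H π) : Prop :=
  ∀ B ∈ O.one, ∀ D ∈ O.star (O.lab B), D ≠ B → D ≠ H.base →
    8 ∣ Nat.card {n : ↥H.N // (n : G) • B = B ∧ (n : G) • D = D}

end H91.M23R
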