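import Cfsg.Agent.H91.M23R.Orbits

/-! The labelled suborbits. -/

set_option autoImplicit false

namespace H91.M23R

open Subgroup H78.M22R MulAction

variable {G : Type*} [Group G] [Finite G] (L : Loc G) (H : Hep G) (π : ↥H.N →* H62.M23A7.A7)
  (hs : Function.Surjective π) (hk : π.ker = H.E.subgroupOf H.N)

omit [Finite G] in
theorem st_map_smul_le (n : ↥H.N) (B : H.Blk) {σ : H62.M23A7.A7}
    (h : σ ∈ (st H ((n : G) • B)).map π) : (π n)⁻¹ * σ * π n ∈ (st H B).map π := by
  obtain ⟨m, hm, rfl⟩ := h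
  refine ⟨n⁻¹ * m * n, ?_, by simp⟩
  show (n⁻¹ * m * n) • B = B
  rw [mul_smul, mul_smul]
  have hm' : m • (n • B) = n • B := hm
  rw [hm', inv_smul_smul]

omit [Finite G] in
theorem card_st_smul (n : ↥H.N) (B : H.Blk) :
    Nat.card ((st H ((n : G) • B)).map π) = Nat.card ((st H B).map π) := by
  have h : (st H ((n : G) • B)).map π =
      ((st H B).map π).map (MulAut.conj (π n)).toMonoidHom := by
    rw [show (n : G) • B = n • B from rfl]
    simp only [st, stabilizer_smul_eq_stabilizer_map_conj, Subgroup.map_map]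
    congr 1
    ext m
    simp
  rw [h, Subgroup.card_map_of_injective (MulAut.conj (π n)).injective]

omit [Finite G] in
theorem ptSt_of_smul (n : ↥H.N) (B : H.Blk) {i j : Fin 7}
    (hB : (st H B).map π = H62.M23A7.ptSt i)
    (hnB : (st H ((n : G) • B)).map π = H62.M23A7.ptSt j) :
    j = ((π n : H62.M23A7.A7) : Equiv.Perm (Fin 7)) i := by
  apply H62.M23A7.ptSt_inj
  haveI : Finite ↥(H62.M23A7.ptSt (((π n : H62.M23A7.A7) : Equiv.Perm (Fin 7)) i)) :=
    Subtype.finite
  refine Subgroup.eq_of_le_of_card_ge (fun σ hσ => ?_)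
    (by rw [H62.M23A7.card_ptSt, H62.M23A7.card_ptSt])
  have h := st_map_smul_le H π n B (hnB.ge hσ)
  rw [hB, H62.M23A7.mem_ptSt] at h
  rw [H62.M23A7.mem_ptSt]
  simp only [Subgroup.coe_mul, InvMemClass.coe_inv, Equiv.Perm.mul_apply] at h
  exact (Equiv.Perm.inv_eq_iff_eq.1 h).trans rfl

omit [Finite G] in
theorem setSt_of_smul (n : ↥H.N) (B : H.Blk) {R R' : Finset (Fin 7)} (hR : R.card = 3)
    (hR' : R'.card = 3) (hB : (st H B).map π = H62.M23A7.setSt R)
    (hnB : (st H ((n : G) • B)).map π = H62.M23A7.setSt R') :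
    R' = R.image ((π n : H62.M23A7.A7) : Equiv.Perm (Fin 7)) := by
  have hc : (R.image ((π n : H62.M23A7.A7) : Equiv.Perm (Fin 7))).card = 3 := by
    rw [Finset.card_image_of_injective _ (Equiv.injective _), hR]
  refine H62.M23A7.setSt_inj hR' hc (Subgroup.eq_of_le_of_card_ge (fun σ hσ => ?_)
    (by rw [H62.M23A7.card_setSt hc, H62.M23A7.card_setSt hR']))
  have h := st_map_smul_le H π n B (hnB.ge hσ)
  rw [hB, H62.M23A7.mem_setSt] at h
  refine H62.M23A7.mem_setSt_of ?_
  intro x hx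
  rw [Finset.mem_image] at hx ⊢
  obtain ⟨y, hy, rfl⟩ := hx
  refine ⟨_, (h y).2 hy, ?_⟩
  simp [Subgroup.coe_mul]

/-- The label of a block of the 112-orbit. -/
noncomputable def labOf (B : H.Blk) : Fin 7 := by
  classical
  exact if h : ∃ i, (st H B).map π = H62.M23A7.ptSt i then h.choose else 0

/-- The triple of a block of the 140-orbit. -/
noncomputable def triOf (B : H.Blk) : Finset (Fin 7) := by
  classical
  exact if h : ∃ R : Finset (Fin 7), R.card = 3 ∧ (st H B).map π = H62.M23A7.setSt R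
    then h.choose else ∅

theorem card_fibre {S : Set H.Blk} {P : H.Blk → Prop} {B : H.Blk} (hB : B ∈ S) (hP : P B)
    (hclosed : ∀ e ∈ H.E, ∀ D ∈ S, P D → e • D ∈ S ∧ P (e • D))
    (htrans : ∀ D ∈ S, P D → ∃ e ∈ H.E, e • B = D) {k : ℕ}
    (hk : Nat.card (stE H B) = k) : Nat.card {D : H.Blk // D ∈ S ∧ P D} * k = 16 := by
  rw [← H.card_E, ← hk, (stE H B).card_eq_card_quotient_mul_card_subgroup,
    ← Nat.card_congr (orbitEquivQuotientStabilizer ↥H.E B)]
  congr 1
  refine Nat.card_congr (Equiv.subtypeEquivRight fun D => ?_)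
  constructor
  · rintro ⟨hD, hPD⟩
    obtain ⟨e, he, rfl⟩ := htrans D hD hPD
    exact mem_orbit B (⟨e, he⟩ : ↥H.E)
  · rintro ⟨e, rfl⟩
    exact hclosed e e.2 B hB hP

variable {π} in
include L hs hk in
theorem exists_orb : Nonempty (Orb H π) := by
  classical
  obtain ⟨c, hc, hc360, hcW, ⟨i0, hci⟩, d, hd, hdc, hd288, hdW, hd72, hcover⟩ :=
    two_orbits L H π hs hk
  set O1 := orbit ↥H.N c with hO1
  set O2 := orbit ↥H.N d with hO2
  have hb : ∀ B, B ≠ H.base → H.base ∉ orbit ↥H.N B := by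
    rintro B hB ⟨n, hn⟩
    apply hB
    have hn' : (n : G) • B = H.base := hn
    have h1 : (n : G)⁻¹ • H.base = H.base := (smul_base_iff H _).2 (inv_mem n.2)
    rw [← h1, ← hn', inv_smul_smul]
  have hcard : ∀ {B D : H.Blk}, D ∈ orbit ↥H.N B → Nat.card (st H D) = Nat.card (st H B) := by
    rintro B _ ⟨n, rfl⟩
    exact Nat.card_congr (stabilizerEquivStabilizerOfOrbitRel (mem_orbit B n : _)).toEquiv
  have hdisj : ∀ B ∈ O1, B ∉ O2 := by
    intro B h1 h2
    exact absurd ((hcard h1).symm.trans (hcard h2)) (by rw [hc360, hd288]; norm_num)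
  have hl1 : ∀ B ∈ O1, (st H B).map π = H62.M23A7.ptSt (labOf H π B) ∧
      Nat.card (stE H B) = 1 := by
    intro B hB
    have hBb : B ≠ H.base := fun h => hb c hc (h ▸ hB)
    obtain ⟨-, hW, hi⟩ := five_stab L H π hs hk hBb (by rw [hcard hB, hc360]; norm_num)
    exact ⟨by simp only [labOf, dif_pos hi]; exact hi.choose_spec, hW⟩
  have hW2 : ∀ B ∈ O2, Nat.card ((st H B).map π) = 72 ∧ Nat.card (stE H B) = 4 := by
    rintro _ ⟨n, rfl⟩
    have h1 := card_st_smul H π n d
    rw [hd72] at h1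
    have h2 := card_st H π ((n : G) • d) hk
    rw [h1, show Nat.card (st H ((n : G) • d)) = 288 from (hcard (mem_orbit d n)).trans hd288] at h2
    exact ⟨h1, by show Nat.card (stE H ((n : G) • d)) = 4; omega⟩
  have hl2 : ∀ B ∈ O2, (triOf H π B).card = 3 ∧
      (st H B).map π = H62.M23A7.setSt (triOf H π B) := by
    intro B hB
    obtain ⟨R, hR, -⟩ := H62.M23A7.eq_setSt_of_card (hW2 B hB).1
    have hex : ∃ R : Finset (Fin 7), R.card = 3 ∧ (st H B).map π = H62.M23A7.setSt R := ⟨R, hR⟩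
    simp only [triOf, dif_pos hex]
    exact hex.choose_spec
  have hlab : ∀ (n : ↥H.N), ∀ B ∈ O1, labOf H π ((n : G) • B) =
      ((π n : H62.M23A7.A7) : Equiv.Perm (Fin 7)) (labOf H π B) := fun n B hB =>
    ptSt_of_smul H π n B (hl1 B hB).1 (hl1 _ (mem_orbit_of_mem_orbit n hB)).1
  have htri : ∀ (n : ↥H.N), ∀ B ∈ O2, triOf H π ((n : G) • B) =
      (triOf H π B).image ((π n : H62.M23A7.A7) : Equiv.Perm (Fin 7)) := fun n B hB =>
    setSt_of_smul H π n B (hl2 B hB).1 (hl2 _ (mem_orbit_of_mem_orbit n hB)).1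
      (hl2 B hB).2 (hl2 _ (mem_orbit_of_mem_orbit n hB)).2
  have hfix : ∀ (B : H.Blk) (n : ↥H.N), π n ∈ (st H B).map π →
      ∃ e ∈ H.E, e • B = (n : G) • B := by
    rintro B n ⟨m, hm, hmn⟩
    have he : ((n * m⁻¹ : ↥H.N) : G) ∈ H.E :=
      (pi_one_iff H π hk _).1 (by rw [map_mul, map_inv, hmn, mul_inv_cancel])
    refine ⟨_, he, ?_⟩
    show (n * m⁻¹) • B = n • B
    rw [mul_smul, show m⁻¹ • B = B from (inv_mem hm : m⁻¹ ∈ st H B)]
  have htr1 : ∀ B ∈ O1, ∀ B' ∈ O1, labOf H π B = labOf H π B' → ∃ e ∈ H.E, e • B = B' := by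
    intro B hB B' hB' heq
    obtain ⟨n, rfl⟩ : B' ∈ orbit ↥H.N B := by rw [orbit_eq_iff.2 hB]; exact hB'
    refine hfix B n ?_
    rw [(hl1 B hB).1, H62.M23A7.mem_ptSt, ← hlab n B hB]
    exact heq.symm
  have htr2 : ∀ B ∈ O2, ∀ B' ∈ O2, triOf H π B = triOf H π B' → ∃ e ∈ H.E, e • B = B' := by
    intro B hB B' hB' heq
    obtain ⟨n, rfl⟩ : B' ∈ orbit ↥H.N B := by rw [orbit_eq_iff.2 hB]; exact hB'
    refine hfix B n ?_
    rw [(hl2 B hB).2]
    refine H62.M23A7.mem_setSt_of fun x hx => ?_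
    have h := htri n B hB
    have heq' : triOf H π B = triOf H π ((n : G) • B) := heq
    rw [← heq'] at h
    rw [h]
    exact Finset.mem_image_of_mem _ hx
  have hE : ∀ e ∈ H.E, ∃ n : ↥H.N, (n : G) = e ∧ π n = 1 := fun e he =>
    ⟨⟨e, E_le_N H he⟩, rfl, (pi_one_iff H π hk _).2 he⟩
  have hfib1 : ∀ i : Fin 7, Nat.card {B : H.Blk // B ∈ O1 ∧ labOf H π B = i} = 16 := by
    intro i
    obtain ⟨σ, hσ⟩ : ∃ σ : H62.M23A7.A7,
        (σ : Equiv.Perm (Fin 7)) (labOf H π c) = i := by
      obtain ⟨σ, hσ⟩ := H62.M23A7.exists_map (k := 1) (by norm_num) (fun _ => labOf H π c) (fun _ => i)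
        (Function.injective_of_subsingleton _) (Function.injective_of_subsingleton _)
      exact ⟨σ, hσ 0⟩
    obtain ⟨n, hn⟩ := hs σ
    have hnc : (n : G) • c ∈ O1 := mem_orbit c n
    have hlb : labOf H π ((n : G) • c) = i := by rw [hlab n c (mem_orbit_self c), hn, hσ]
    have h := card_fibre H (S := O1) (P := fun B => labOf H π B = i) hnc hlb ?_ ?_ (hl1 _ hnc).2
    · simpa using h
    · intro e he D hD hPD
      obtain ⟨m, rfl, hm⟩ := hE e he
      exact ⟨mem_orbit_of_mem_orbit m hD, by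
        show labOf H π ((m : G) • D) = i
        rw [hlab m D hD, hm]; exact hPD⟩
    · intro D hD hPD
      exact htr1 _ hnc D hD (hlb.trans (Eq.symm hPD))
  have hfib2 : ∀ R : Finset (Fin 7), R.card = 3 →
      Nat.card {B : H.Blk // B ∈ O2 ∧ triOf H π B = R} = 4 := by
    intro R hR
    have hR0 := (hl2 d (mem_orbit_self d)).1
    obtain ⟨σ, hσ⟩ : ∃ σ : H62.M23A7.A7,
        (triOf H π d).image (σ : Equiv.Perm (Fin 7)) = R := by
      obtain ⟨σ, hσ⟩ := H62.M23A7.exists_map (k := 3) (by norm_num)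
        (fun j => (triOf H π d).orderEmbOfFin hR0 j) (fun j => R.orderEmbOfFin hR j)
        (fun a b h => ((triOf H π d).orderEmbOfFin hR0).injective h)
        (fun a b h => (R.orderEmbOfFin hR).injective h)
      refine ⟨σ, ?_⟩
      conv_rhs => rw [← Finset.image_orderEmbOfFin_univ R hR]
      conv_lhs => rw [← Finset.image_orderEmbOfFin_univ (triOf H π d) hR0]
      rw [Finset.image_image]
      exact Finset.image_congr fun j _ => hσ j
    obtain ⟨n, hn⟩ := hs σ
    have hnd : (n : G) • d ∈ O2 := mem_orbit d n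
    have htb : triOf H π ((n : G) • d) = R := by rw [htri n d (mem_orbit_self d), hn, hσ]
    have h := card_fibre H (S := O2) (P := fun B => triOf H π B = R) hnd htb ?_ ?_ (hW2 _ hnd).2
    · omega
    · intro e he D hD hPD
      obtain ⟨m, rfl, hm⟩ := hE e he
      exact ⟨mem_orbit_of_mem_orbit m hD, by
        show triOf H π ((m : G) • D) = R
        rw [htri m D hD, hm]; simpa using hPD⟩
    · intro D hD hPD
      exact htr2 _ hnd D hD (htb.trans (Eq.symm hPD))
  have hsymm : ∀ g : G, g • H.base ≠ H.base →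
      Nat.card (st H (g⁻¹ • H.base)) = Nat.card (st H (g • H.base)) := by
    intro g _
    refine Nat.card_congr
      { toFun := fun n => ⟨⟨g * (n.1 : G) * g⁻¹, ?_⟩, ?_⟩
        invFun := fun n => ⟨⟨g⁻¹ * (n.1 : G) * g, ?_⟩, ?_⟩
        left_inv := fun n => Subtype.ext (Subtype.ext (by
          show g⁻¹ * (g * (n.1 : G) * g⁻¹) * g = n.1; group))
        right_inv := fun n => Subtype.ext (Subtype.ext (by
          show g * (g⁻¹ * (n.1 : G) * g) * g⁻¹ = n.1; group)) }
    · rw [← smul_base_iff, mul_smul, mul_smul,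
        show (n.1 : G) • g⁻¹ • H.base = g⁻¹ • H.base from n.2, smul_inv_smul]
    · show (g * (n.1 : G) * g⁻¹) • g • H.base = g • H.base
      rw [mul_smul, mul_smul, inv_smul_smul, (smul_base_iff H _).2 n.1.2]
    · rw [← smul_base_iff, mul_smul, mul_smul,
        show (n.1 : G) • g • H.base = g • H.base from n.2, inv_smul_smul]
    · show (g⁻¹ * (n.1 : G) * g) • g⁻¹ • H.base = g⁻¹ • H.base
      rw [mul_smul, mul_smul, smul_inv_smul, (smul_base_iff H _).2 n.1.2]
  have hinvb : ∀ g : G, g • H.base ≠ H.base → g⁻¹ • H.base ≠ H.base := fun g hg h =>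
    hg (by rw [smul_base_iff] at h ⊢; exact inv_mem_iff.1 h)
  refine ⟨{ one := O1, two := O2, cover := hcover, base_one := hb c hc, base_two := hb d hd,
            disj := hdisj, lab := labOf H π, tri := triOf H π,
            smul_one := fun n B hB => mem_orbit_of_mem_orbit n hB,
            smul_two := fun n B hB => mem_orbit_of_mem_orbit n hB,
            lab_eq := hlab, tri_eq := htri, tri_card := fun B hB => (hl2 B hB).1,
            lab_fib := hfib1, tri_fib := hfib2, one_trans := htr1, two_trans := htr2,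
            one_free := ?_, two_stab := ?_, one_symm := ?_, two_symm := ?_ }⟩
  · intro B hB e he heB
    have h1 := Subgroup.eq_bot_of_card_eq _ (hl1 B hB).2
    have : (⟨e, he⟩ : ↥H.E) ∈ stE H B := heB
    rw [h1, mem_bot] at this
    exact congrArg Subtype.val this
  · intro B hB
    rw [← (hW2 B hB).2]
    exact Nat.card_congr ⟨fun e => ⟨⟨e.1, e.2.1⟩, e.2.2⟩, fun e => ⟨e.1, e.1.2, e.2⟩,
      fun e => rfl, fun e => rfl⟩
  · intro g hg
    have hgb : g • H.base ≠ H.base := fun h => hb c hc (h ▸ hg)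
    have h := hsymm g hgb
    rw [hcard hg, hc360] at h
    rcases hcover (g⁻¹ • H.base) with h1 | h1 | h1
    · exact absurd h1 (hinvb g hgb)
    · exact h1
    · rw [hcard h1, hd288] at h; omega
  · intro g hg
    have hgb : g • H.base ≠ H.base := fun h => hb d hd (h ▸ hg)
    have h := hsymm g hgb
    rw [hcard hg, hd288] at h
    rcases hcover (g⁻¹ • H.base) with h1 | h1 | h1
    · exact absurd h1 (hinvb g hgb)
    · rw [hcard h1, hc360] at h; omega
    · exact h1

end H91.M23R
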