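import Cfsg.Agent.H91.M23R.OrbI
import Cfsg.Agent.H91.M23R.InCent

/-! The suborbits 1, 112, 140 of the 253 blocks. -/

set_option autoImplicit false

namespace H91.M23R

open Subgroup H78.M22R MulAction

variable {G : Type*} [Group G] [Finite G] (L : Loc G) (H : Hep G) (π : ↥H.N →* H62.M23A7.A7)
  (hs : Function.Surjective π) (hk : π.ker = H.E.subgroupOf H.N)

/-- The stabiliser in `N` of a block. -/
abbrev st (B : H.Blk) : Subgroup ↥H.N := stabilizer ↥H.N B

/-- The stabiliser in the sixteen-group of a block. -/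
abbrev stE (B : H.Blk) : Subgroup ↥H.E := stabilizer ↥H.E B

omit [Finite G] in
theorem E_le_N : H.E ≤ H.N := le_normalizer

omit [Finite G] in
theorem smul_base_iff (g : G) : g • H.base = H.base ↔ g ∈ H.N := by
  show g • (((1 : G) : G ⧸ H.N)) = ((1 : G) : G ⧸ H.N) ↔ _
  rw [← mem_stabilizer_iff, MulAction.stabilizer_quotient]

omit [Finite G] in
theorem exists_eq_smul (B : H.Blk) : ∃ g : G, g • H.base = B := by
  obtain ⟨g, rfl⟩ := QuotientGroup.mk_surjective B
  exact ⟨g, by show ((g * 1 : G) : G ⧸ H.N) = _; rw [mul_one]⟩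

omit [Finite G] in
theorem sq_five : Nat.card H.E = 16 := H.card_E

include hk in
omit [Finite G] in
theorem pi_one_iff (n : ↥H.N) : π n = 1 ↔ (n : G) ∈ H.E := by
  rw [← MonoidHom.mem_ker, hk, Subgroup.mem_subgroupOf]

include L in
theorem card_blocks : Nat.card H.Blk = 253 := by
  have h := H.N.card_eq_card_quotient_mul_card_subgroup
  rw [L.card, H.card_N] at h
  show Nat.card (G ⧸ H.N) = 253
  omega

include L in
theorem fix_free_five {z e : G} (hz : orderOf z = 5) (he : e ∈ H.E) (hc : Commute z e) :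
    e = 1 := by
  by_contra h1
  have ho : orderOf e = 2 := orderOf_eq_prime (by rw [pow_two]; exact H.sq e he) h1
  have := Subgroup.orderOf_dvd_natCard (cz z) (mem_cz.2 hc.symm)
  rw [ho, L.cent5 z hz] at this
  norm_num at this

/-- The image of the stabiliser of a block and its order. -/
theorem card_st (B : H.Blk) (hk : π.ker = H.E.subgroupOf H.N) :
    Nat.card (st H B) = Nat.card ((st H B).map π) * Nat.card (stE H B) := by
  have h := (π.comp (st H B).subtype).ker.card_eq_card_quotient_mul_card_subgroup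
  rw [Nat.card_congr (QuotientGroup.quotientKerEquivRange _).toEquiv,
    MonoidHom.range_comp, Subgroup.range_subtype] at h
  rw [h]
  congr 1
  refine Nat.card_congr ⟨fun n => ⟨⟨(n.1.1 : G), ?_⟩, n.1.2⟩,
    fun e => ⟨⟨⟨(e.1 : G), E_le_N H e.1.2⟩, e.2⟩, ?_⟩, fun n => rfl, fun e => rfl⟩
  · exact (pi_one_iff H π hk n.1.1).1 n.2
  · exact (pi_one_iff H π hk _).2 e.1.2

include hk in
theorem stE_le_four {B : H.Blk} (hB : B ≠ H.base) :
    Nat.card (stE H B) = 1 ∨ Nat.card (stE H B) = 2 ∨ Nat.card (stE H B) = 4 := by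
  obtain ⟨g, rfl⟩ := exists_eq_smul H B
  have hgN : g ∉ H.N := fun h => hB ((smul_base_iff H g).2 h)
  have hmem : ∀ e : stE H (g • H.base), g⁻¹ * (e.1 : G) * g ∈ H.N := by
    intro e
    rw [← smul_base_iff, mul_smul, mul_smul]
    have he : (e.1 : G) • g • H.base = g • H.base := e.2
    rw [he, inv_smul_smul]
  let f : stE H (g • H.base) →* H62.M23A7.A7 :=
    { toFun := fun e => π ⟨g⁻¹ * (e.1 : G) * g, hmem e⟩
      map_one' := by
        rw [← π.map_one]
        exact congrArg π (Subtype.ext (by simp))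
      map_mul' := fun a b => by
        rw [← π.map_mul]
        exact congrArg π (Subtype.ext (by
          show g⁻¹ * ((a.1 : G) * (b.1 : G)) * g = g⁻¹ * a.1 * g * (g⁻¹ * b.1 * g)
          group)) }
  have hinj : Function.Injective f := by
    rw [injective_iff_map_eq_one]
    intro e he
    have he' : g⁻¹ * (e.1 : G) * g ∈ H.E := (pi_one_iff H π hk _).1 he
    by_contra h1
    apply hgN
    refine inv_mem_iff.1 (H.ti g⁻¹ (e.1 : G) e.1.2 (fun h => h1 (Subtype.ext (Subtype.ext h))) ?_)
    rwa [inv_inv]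
  have hd : Nat.card (stE H (g • H.base)) ∣ 2 ^ 4 :=
    (Subgroup.card_subgroup_dvd_card _).trans (dvd_of_eq H.card_E)
  have hr : Nat.card f.range = Nat.card (stE H (g • H.base)) :=
    (Nat.card_congr (MonoidHom.ofInjective hinj).toEquiv).symm
  have h25 : Nat.card f.range ∣ 2520 :=
    H62.M23A7.card_A7 ▸ Subgroup.card_subgroup_dvd_card f.range
  obtain ⟨i, hi, hie⟩ := (Nat.dvd_prime_pow Nat.prime_two).1 hd
  rw [hie] at hr ⊢
  interval_cases i
  · simp
  · simp
  · simp
  · exfalso
    refine H62.M23A7.not_elementary_eight f.range hr ?_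
    rintro _ ⟨e, rfl⟩
    rw [← map_mul, show e * e = 1 from Subtype.ext (Subtype.ext (H.sq _ e.1.2)), map_one]
  · exfalso
    rw [hr] at h25
    norm_num at h25

include L in
theorem seven_fix {w : G} (hw : orderOf w = 7) (hwN : w ∈ H.N) {B : H.Blk} (hB : w • B = B) :
    B = H.base := by
  haveI : Fact (Nat.Prime 7) := ⟨by decide⟩
  have hcount := card_fix_modEq (p := 7) (hw ▸ pow_orderOf_eq_one w) H.E
    (fun a ha => (Subgroup.mem_normalizer_iff.1 hwN a).1 ha)
  rw [H.card_E] at hcount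
  obtain ⟨v, hv, hv1, hcv⟩ : ∃ v ∈ H.E, v ≠ 1 ∧ Commute w v := by
    by_contra hh
    push_neg at hh
    have h1 : Nat.card {a : G // a ∈ H.E ∧ Commute w a} = 1 := by
      haveI : Unique {a : G // a ∈ H.E ∧ Commute w a} :=
        ⟨⟨⟨1, H.E.one_mem, Commute.one_right w⟩⟩, fun a => Subtype.ext (by
          by_contra hne
          exact hh a.1 a.2.1 hne a.2.2)⟩
      exact Nat.card_unique
    rw [h1] at hcount
    have : 16 % 7 = 1 % 7 := hcount
    omega
  have hvo : orderOf v = 2 := orderOf_eq_prime (by rw [pow_two]; exact H.sq v hv) hv1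
  have hNw : normalizer (zpowers w : Set G) ≤ H.N :=
    (norm_seven_le L hvo hw (mem_cz.2 hcv)).trans (H.cent v hv hv1)
  obtain ⟨g, rfl⟩ := exists_eq_smul H B
  have hwg : g⁻¹ * w * g ∈ H.N := by rw [← smul_base_iff, mul_smul, mul_smul, hB, inv_smul_smul]
  have h49 : ¬ 7 ^ 2 ∣ Nat.card H.N := by rw [H.card_N]; norm_num
  have ho : orderOf (g⁻¹ * w * g) = 7 := by
    have := orderOf_conj' g⁻¹ w
    rw [inv_inv] at this
    rw [this, hw]
  obtain ⟨n, hn, j, hj0, hj7, he⟩ := conj_gen H.N hwN hwg hw ho h49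
  have hgn : g * n ∈ normalizer (zpowers w : Set G) := by
    have hconj : (g * n) * w ^ j * (g * n)⁻¹ = w := by
      calc (g * n) * w ^ j * (g * n)⁻¹ = g * (n * w ^ j * n⁻¹) * g⁻¹ := by group
        _ = w := by rw [← he]; group
    have heq : (zpowers w).map (MulAut.conj (g * n)).toMonoidHom = zpowers w := by
      refine (Subgroup.eq_of_le_of_card_ge ?_ (le_of_eq
        (Subgroup.card_map_of_injective (MulAut.conj (g * n)).injective))).symm
      rw [zpowers_le]
      exact ⟨w ^ j, pow_mem (mem_zpowers w) j, hconj⟩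
    rw [Subgroup.mem_normalizer_iff]
    intro l
    refine ⟨fun hl => heq.le ⟨l, hl, rfl⟩, fun hl => ?_⟩
    obtain ⟨d, hd, hde⟩ := (heq.ge hl : g * n * l * (g * n)⁻¹ ∈ (zpowers w).map _)
    have : d = l := mul_left_cancel (mul_right_cancel
      (show g * n * d * (g * n)⁻¹ = g * n * l * (g * n)⁻¹ from hde))
    exact this ▸ hd
  have hgN : g ∈ H.N := by
    have := H.N.mul_mem (hNw hgn) (inv_mem hn)
    rwa [mul_inv_cancel_right] at this
  exact (smul_base_iff H g).2 hgN

include L in
theorem not_seven {B : H.Blk} (hB : B ≠ H.base) : ¬ 7 ∣ Nat.card (st H B) := by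
  intro h
  haveI : Fact (Nat.Prime 7) := ⟨by decide⟩
  obtain ⟨w, hw, ho⟩ := exists_orderOf 7 h
  have howG : orderOf (w : G) = 7 := by rw [Subgroup.orderOf_coe, ho]
  exact hB (seven_fix L H howG w.2 hw)

include L hs hk in
theorem five_stab {B : H.Blk} (hB : B ≠ H.base) (h5 : 5 ∣ Nat.card (st H B)) :
    Nat.card (st H B) = 360 ∧ Nat.card (stE H B) = 1 ∧
      ∃ i, (st H B).map π = H62.M23A7.ptSt i := by
  haveI : Fact (Nat.Prime 5) := ⟨by decide⟩
  obtain ⟨z, hz, ho⟩ := exists_orderOf 5 h5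
  have hzG : orderOf (z : G) = 5 := by rw [Subgroup.orderOf_coe, ho]
  have hfix := card_fix_modEq (p := 5) (hzG ▸ pow_orderOf_eq_one (z : G))
    ((stE H B).map H.E.subtype) (by
      rintro a ⟨e, he, rfl⟩
      refine ⟨⟨(z : G) * (e : G) * (z : G)⁻¹, (Subgroup.mem_normalizer_iff.1 z.2 e).1 e.2⟩, ?_, rfl⟩
      show ((z : G) * (e : G) * (z : G)⁻¹) • B = B
      have hzB : (z : G) • B = B := hz
      have hzB' : (z : G)⁻¹ • B = B := by
        calc (z : G)⁻¹ • B = (z : G)⁻¹ • ((z : G) • B) := by rw [hzB]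
          _ = B := inv_smul_smul _ _
      have heB : (e : G) • B = B := he
      rw [mul_smul, mul_smul, hzB', heB, hzB])
  have h1 : Nat.card {a : G // a ∈ (stE H B).map H.E.subtype ∧ Commute (z : G) a} = 1 := by
    haveI : Unique {a : G // a ∈ (stE H B).map H.E.subtype ∧ Commute (z : G) a} :=
      ⟨⟨⟨1, one_mem _, Commute.one_right _⟩⟩, fun a => Subtype.ext (by
        obtain ⟨e, -, he⟩ := a.2.1
        exact fix_free_five L H hzG (he ▸ e.2) a.2.2)⟩
    exact Nat.card_unique
  rw [h1, Subgroup.card_map_of_injective H.E.subtype_injective] at hfix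
  have hfix' : Nat.card (stE H B) % 5 = 1 % 5 := hfix
  have hW : Nat.card (stE H B) = 1 := by
    rcases stE_le_four H π hk hB with h | h | h <;> omega
  have hcard := card_st H π B hk
  rw [hW, mul_one] at hcard
  have horb := (Nat.card_congr (orbitEquivQuotientStabilizer ↥H.N B))
  have hos := (st H B).card_eq_card_quotient_mul_card_subgroup
  rw [← horb, H.card_N] at hos
  have hle : Nat.card (orbit ↥H.N B) ≤ 252 := by
    have hsub : orbit ↥H.N B ⊆ ({H.base}ᶜ : Set H.Blk) := by
      rintro _ ⟨n, rfl⟩ hD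
      apply hB
      have hD' : (n : G) • B = H.base := hD
      have hb : (n : G)⁻¹ • H.base = H.base := (smul_base_iff H _).2 (inv_mem n.2)
      rw [← hb, ← hD', inv_smul_smul]
    haveI := Fintype.ofFinite H.Blk
    have h := Set.ncard_le_ncard hsub
    rw [Set.ncard_compl, Set.ncard_singleton, card_blocks L H] at h
    exact h
  have h7 := not_seven L H hB
  have hidx : ((st H B).map π).index ≤ 15 := by
    have hi := ((st H B).map π).card_mul_index
    rw [← hcard, H62.M23A7.card_A7] at hi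
    by_contra hlt
    have h16 : 16 ≤ ((st H B).map π).index := by omega
    have : Nat.card (st H B) * 16 ≤ 2520 := hi ▸ Nat.mul_le_mul_left _ h16
    nlinarith
  obtain ⟨i, hi, -⟩ := H62.M23A7.eq_ptSt_of_five (hcard ▸ h5) (hcard ▸ h7) hidx
  exact ⟨by rw [hcard, hi, H62.M23A7.card_ptSt], hW, i, hi⟩

include L in
theorem exists_five_fixed : ∃ B : H.Blk, B ≠ H.base ∧ 5 ∣ Nat.card (st H B) := by
  haveI : Fact (Nat.Prime 5) := ⟨by decide⟩
  obtain ⟨z, hz⟩ := exists_prime_orderOf_dvd_card' (G := H.N) 5 (by rw [H.card_N]; norm_num)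
  have hP : IsPGroup 5 (zpowers z) := IsPGroup.of_card (n := 1) (by rw [Nat.card_zpowers, hz, pow_one])
  have h := hP.card_modEq_card_fixedPoints (α := H.Blk)
  rw [card_blocks L H] at h
  by_contra hh
  push_neg at hh
  have h1 : Nat.card (fixedPoints (zpowers z) H.Blk) = 1 := by
    haveI : Unique (fixedPoints (zpowers z) H.Blk) :=
      ⟨⟨⟨H.base, fun k => (smul_base_iff H _).2 k.1.2⟩⟩, fun B => Subtype.ext (by
        by_contra hne
        refine hh B.1 hne ?_
        rw [← hz]
        exact Subgroup.orderOf_dvd_natCard _ (show z ∈ st H B.1 from B.2 ⟨z, mem_zpowers z⟩))⟩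
    exact Nat.card_unique
  rw [h1] at h
  have : 253 % 5 = 1 % 5 := h
  omega

theorem orbit_mul (B : H.Blk) :
    Nat.card (orbit ↥H.N B) * Nat.card (st H B) = 40320 := by
  rw [Nat.card_congr (orbitEquivQuotientStabilizer ↥H.N B), ← H.card_N]
  exact (st H B).card_eq_card_quotient_mul_card_subgroup.symm

include L hs hk in
theorem two_orbits : ∃ c : H.Blk, c ≠ H.base ∧ Nat.card (st H c) = 360 ∧ Nat.card (stE H c) = 1 ∧
    (∃ i, (st H c).map π = H62.M23A7.ptSt i) ∧
    ∃ d : H.Blk, d ≠ H.base ∧ d ∉ orbit ↥H.N c ∧ Nat.card (st H d) = 288 ∧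
      Nat.card (stE H d) = 4 ∧ Nat.card ((st H d).map π) = 72 ∧
      ∀ B : H.Blk, B = H.base ∨ B ∈ orbit ↥H.N c ∨ B ∈ orbit ↥H.N d := by
  classical
  haveI := Fintype.ofFinite H.Blk
  obtain ⟨c, hc, hc5⟩ := exists_five_fixed L H
  obtain ⟨hc360, hcW, hci⟩ := five_stab L H π hs hk hc hc5
  refine ⟨c, hc, hc360, hcW, hci, ?_⟩
  set O := orbit ↥H.N c with hO
  have hO112 : Nat.card O = 112 := by
    have := orbit_mul H c
    rw [hc360] at this
    rw [hO]
    omega
  have hbO : H.base ∉ O := by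
    rintro ⟨n, hn⟩
    apply hc
    have hn' : (n : G) • c = H.base := hn
    have hb : (n : G)⁻¹ • H.base = H.base := (smul_base_iff H _).2 (inv_mem n.2)
    rw [← hb, ← hn', inv_smul_smul]
  set R : Set H.Blk := ({H.base} ∪ O)ᶜ with hR
  have hRc : R.ncard = 140 := by
    rw [hR, Set.ncard_compl, Set.ncard_union_eq (Set.disjoint_singleton_left.2 hbO),
      Set.ncard_singleton, ← Nat.card_coe_set_eq O, hO112, card_blocks L H]
  have hsub : ∀ d ∈ R, orbit ↥H.N d ⊆ R := by
    rintro d hd _ ⟨n, rfl⟩ hm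
    apply hd
    rcases hm with hm | hm
    · left
      have hm' : (n : G) • d = H.base := hm
      have hb : (n : G)⁻¹ • H.base = H.base := (smul_base_iff H _).2 (inv_mem n.2)
      show d = H.base
      rw [← hb, ← hm', inv_smul_smul]
    · right
      show d ∈ O
      rw [hO, ← orbit_eq_iff.2 hm]
      exact MulAction.mem_orbit_symm.1 (mem_orbit d n)
  have hdich : ∀ d ∈ R, Nat.card (orbit ↥H.N d) = 112 ∨
      35 ∣ Nat.card (orbit ↥H.N d) := by
    intro d hd
    have hdb : d ≠ H.base := fun h => hd (Or.inl h)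
    by_cases h5 : 5 ∣ Nat.card (st H d)
    · left
      have := orbit_mul H d
      rw [(five_stab L H π hs hk hdb h5).1] at this
      omega
    · right
      have hco : Nat.Coprime 35 (Nat.card (st H d)) := by
        rw [show (35 : ℕ) = 5 * 7 from rfl]
        exact Nat.Coprime.mul_left ((by decide : Nat.Prime 5).coprime_iff_not_dvd.2 h5)
          ((by decide : Nat.Prime 7).coprime_iff_not_dvd.2 (not_seven L H hdb))
      exact hco.dvd_of_dvd_mul_right (by rw [orbit_mul H d]; norm_num)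
  obtain ⟨d, hd⟩ : R.Nonempty := Set.nonempty_of_ncard_ne_zero (by omega)
  have hno : ∀ d ∈ R, Nat.card (orbit ↥H.N d) ≠ 112 := by
    intro d hd h112
    have hR' : (R \ orbit ↥H.N d).ncard = 28 := by
      rw [Set.ncard_sdiff (hsub d hd), hRc, ← Nat.card_coe_set_eq, h112]
    obtain ⟨e, he, hne⟩ : (R \ orbit ↥H.N d).Nonempty := Set.nonempty_of_ncard_ne_zero (by omega)
    have hes : orbit ↥H.N e ⊆ R \ orbit ↥H.N d := fun D hD => ⟨hsub e he hD, fun h => hne (by
      rw [← orbit_eq_iff.2 h, orbit_eq_iff.2 hD]; exact mem_orbit_self e)⟩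
    have hle := Set.ncard_le_ncard hes
    rw [hR', ← Nat.card_coe_set_eq] at hle
    have hpos : 0 < Nat.card (orbit ↥H.N e) := by
      haveI : Nonempty (orbit ↥H.N e) := ⟨⟨e, mem_orbit_self e⟩⟩
      exact Nat.card_pos
    rcases hdich e he with h | h
    · omega
    · have := Nat.le_of_dvd hpos h; omega
  have hdb : d ≠ H.base := fun h => hd (Or.inl h)
  obtain ⟨k, hk35⟩ := (hdich d hd).resolve_left (hno d hd)
  have hle : Nat.card (orbit ↥H.N d) ≤ 140 := by
    rw [Nat.card_coe_set_eq, ← hRc]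
    exact Set.ncard_le_ncard (hsub d hd)
  have hpos : 0 < Nat.card (orbit ↥H.N d) := by
    haveI : Nonempty (orbit ↥H.N d) := ⟨⟨d, mem_orbit_self d⟩⟩
    exact Nat.card_pos
  have hmul := orbit_mul H d
  have hst := card_st H π d hk
  have hW := stE_le_four H π hk hdb
  have hd25 : Nat.card ((st H d).map π) ∣ 2520 :=
    H62.M23A7.card_A7 ▸ Subgroup.card_subgroup_dvd_card _
  have h72 : Nat.card ((st H d).map π) ∣ 72 := by
    have h5 : ¬ 5 ∣ Nat.card ((st H d).map π) := by
      intro h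
      have h5' : 5 ∣ Nat.card (st H d) := hst ▸ h.mul_right _
      have := (five_stab L H π hs hk hdb h5').1
      rw [this] at hmul
      exact hno d hd (by omega)
    have h7 : ¬ 7 ∣ Nat.card ((st H d).map π) := fun h =>
      not_seven L H hdb (hst ▸ h.mul_right _)
    have hco : Nat.Coprime (Nat.card ((st H d).map π)) 35 := by
      rw [show (35 : ℕ) = 5 * 7 from rfl]
      exact Nat.Coprime.mul_right ((by decide : Nat.Prime 5).coprime_iff_not_dvd.2 h5).symm
        ((by decide : Nat.Prime 7).coprime_iff_not_dvd.2 h7).symm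
    exact hco.dvd_of_dvd_mul_right (show _ ∣ 72 * 35 from hd25)
  have hm72 := Nat.le_of_dvd (by norm_num) h72
  have hst288 : Nat.card (st H d) ≤ 288 := by
    rw [hst]
    rcases hW with h | h | h <;> rw [h] <;> omega
  have h140 : Nat.card (orbit ↥H.N d) = 140 := by nlinarith
  have h288 : Nat.card (st H d) = 288 := by rw [h140] at hmul; omega
  have hvals : Nat.card (stE H d) = 4 ∧ Nat.card ((st H d).map π) = 72 := by
    rw [hst] at h288
    rcases hW with h | h | h <;> rw [h] at h288 ⊢ <;> omega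
  refine ⟨d, hdb, fun h => hd (Or.inr h), h288, hvals.1, hvals.2, fun B => ?_⟩
  by_cases hB : B ∈ R
  · right; right
    have heq : orbit ↥H.N d = R := Set.eq_of_subset_of_ncard_le (hsub d hd)
      (by rw [hRc, ← Nat.card_coe_set_eq, h140])
    rw [heq]; exact hB
  · simp only [hR, Set.mem_compl_iff, not_not] at hB
    rcases hB with hB | hB
    · exact Or.inl hB
    · exact Or.inr (Or.inl hB)

end H91.M23R
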