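import Cfsg.Agent.H91.M23R.Cd
import Mathlib.GroupTheory.Transfer

/-! Elements of order 3 centralising an involution. -/

set_option autoImplicit false

namespace H91.M23R

open Subgroup H78.M22R

variable {G : Type*} [Group G] [Finite G] {t x : G} {E : Subgroup G} (L : Loc G)
include L

theorem card_four (ht : orderOf t = 2) (D : Cd t E) (hx : orderOf x = 3) (hxt : x ∈ cz t) :
    Nat.card (E ⊓ cz x : Subgroup G) = 4 := by
  haveI := Fact.mk Nat.prime_two
  haveI := Fact.mk Nat.prime_three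
  have h := card_fix_modEq (p := 3) (hx ▸ pow_orderOf_eq_one x) E (D.norm x hxt)
  have he : Nat.card {a : G // a ∈ E ∧ Commute x a} = Nat.card (E ⊓ cz x : Subgroup G) :=
    Nat.card_congr (Equiv.subtypeEquivRight fun a => by
      rw [Subgroup.mem_inf, mem_cz]; exact and_congr_right fun _ => ⟨Commute.symm, Commute.symm⟩)
  rw [he, D.card16] at h
  have hd : Nat.card (E ⊓ cz x : Subgroup G) ∣ 2 ^ 4 :=
    (Subgroup.card_dvd_of_le inf_le_left).trans (dvd_of_eq D.card16)
  obtain ⟨i, hi, hie⟩ := (Nat.dvd_prime_pow Nat.prime_two).1 hd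
  rw [hie] at h ⊢
  have hne : i ≠ 4 := by
    rintro rfl
    have heq : E ⊓ cz x = E :=
      Subgroup.eq_of_le_of_card_ge inf_le_left (by rw [hie, D.card16]; norm_num)
    have hxE : x ∈ E := D.self (Subgroup.mem_centralizer_iff.2 fun e he =>
      mem_cz.1 (heq.ge he).2)
    have := D.sq x hxE
    rw [← pow_two] at this
    have := orderOf_dvd_of_pow_eq_one this
    rw [hx] at this
    norm_num at this
  have htm : t ∈ E ⊓ cz x := ⟨D.t_mem, mem_cz.2 (mem_cz.1 hxt).symm⟩
  have hne0 : i ≠ 0 := by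
    rintro rfl
    have hb : (E ⊓ cz x : Subgroup G) = ⊥ := Subgroup.eq_bot_of_card_eq _ hie
    rw [hb, mem_bot] at htm
    rw [htm, orderOf_one] at ht
    omega
  have h' : 16 % 3 = 2 ^ i % 3 := h
  interval_cases i <;> simp_all

theorem sup_four (ht : orderOf t = 2) (D : Cd t E) (hx : orderOf x = 3) (hxt : x ∈ cz t) :
    Nat.card ((E ⊓ cz x) ⊔ zpowers x : Subgroup G) = 12 := by
  have hd : ((E ⊓ cz x) ⊓ zpowers x : Subgroup G) = ⊥ := by
    apply Subgroup.inf_eq_bot_of_coprime
    rw [card_four L ht D hx hxt, Nat.card_zpowers, hx]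
    norm_num
  have hn : Nrm (zpowers x) (E ⊓ cz x) := by
    intro c hc l hl
    have hcl : Commute l c := by
      obtain ⟨n, rfl⟩ := mem_zpowers_iff.1 hc
      exact (mem_cz.1 hl.2).zpow_right n
    rw [hcl.symm.eq, mul_inv_cancel_right]
    exact hl
  rw [card_sup_eq hn.le_normalizer hd, card_four L ht D hx hxt, Nat.card_zpowers, hx]

/-- The centraliser of `x` in `cz t` is `V × ⟨x⟩`. -/
theorem cz_inf_eq (ht : orderOf t = 2) (D : Cd t E) (hx : orderOf x = 3) (hxt : x ∈ cz t) :
    cz t ⊓ cz x = (E ⊓ cz x) ⊔ zpowers x := by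
  haveI := Fact.mk Nat.prime_three
  have hle : (E ⊓ cz x) ⊔ zpowers x ≤ cz t ⊓ cz x :=
    sup_le (inf_le_inf_right _ D.le)
      (zpowers_le.2 ⟨hxt, mem_cz.2 (Commute.refl x)⟩)
  have h12 := sup_four L ht D hx hxt
  set N := normalizer (zpowers x : Set G) ⊓ cz t with hN
  have hN24 : Nat.card N = 24 := by
    have h := count_order_prime (cz t) hxt hx (not_9 L ht le_rfl)
    rw [card_three L ht, L.cent2 t ht, ← hN] at h
    omega
  have hCN : cz t ⊓ cz x ≤ N := by
    intro g hg
    refine Subgroup.mem_inf.2 ⟨?_, hg.1⟩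
    refine (Nrm.le_normalizer (C := zpowers g) ?_) (mem_zpowers g)
    intro c hc l hl
    obtain ⟨n, rfl⟩ := mem_zpowers_iff.1 hl
    obtain ⟨m, rfl⟩ := mem_zpowers_iff.1 hc
    have hcm : Commute (g ^ m) (x ^ n) := ((mem_cz.1 hg.2).zpow_left m).zpow_right n
    rw [hcm.eq, mul_inv_cancel_right]
    exact zpow_mem_zpowers x n
  have hd : Nat.card (cz t ⊓ cz x : Subgroup G) ∣ 24 := hN24 ▸ Subgroup.card_dvd_of_le hCN
  have h12d : 12 ∣ Nat.card (cz t ⊓ cz x : Subgroup G) := h12 ▸ Subgroup.card_dvd_of_le hle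
  have hle24 := Nat.le_of_dvd (by norm_num) hd
  have hpos : 0 < Nat.card (cz t ⊓ cz x : Subgroup G) := Nat.card_pos
  have hne : Nat.card (cz t ⊓ cz x : Subgroup G) ≠ 24 := by
    intro h24
    have heq : cz t ⊓ cz x = N := Subgroup.eq_of_le_of_card_ge hCN (by rw [h24, hN24])
    set C := cz t with hC
    let x' : C := ⟨x, hxt⟩
    have hx' : orderOf x' = 3 := by rw [Subgroup.orderOf_mk, hx]
    have hcard : Nat.card (zpowers x') = 3 ^ (Nat.card C).factorization 3 := by
      rw [Nat.card_zpowers, hx', factorization_one Nat.prime_three Nat.card_pos.ne'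
        (hx ▸ Subgroup.orderOf_dvd_natCard _ hxt) (not_9 L ht le_rfl), pow_one]
    let P : Sylow 3 C := Sylow.ofCard _ hcard
    have hPx : (P : Subgroup C) = zpowers x' := rfl
    have hP : normalizer ((P : Subgroup C) : Set C) ≤ centralizer ((P : Subgroup C) : Set C) := by
      intro n hn
      rw [Subgroup.mem_centralizer_iff]
      intro y hy
      rw [hPx] at hy hn
      obtain ⟨k, rfl⟩ := mem_zpowers_iff.1 hy
      have hnG : (n : G) ∈ N := by
        refine Subgroup.mem_inf.2 ⟨?_, n.2⟩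
        rw [Subgroup.mem_normalizer_iff]
        intro l
        have hmap : ∀ l : G, l ∈ zpowers x ↔ ∃ hl : l ∈ C, (⟨l, hl⟩ : C) ∈ zpowers x' := by
          intro l
          constructor
          · intro hl
            obtain ⟨m, rfl⟩ := mem_zpowers_iff.1 hl
            exact ⟨zpow_mem hxt m, mem_zpowers_iff.2 ⟨m, Subtype.ext (by simp [x'])⟩⟩
          · rintro ⟨hl, hm⟩
            obtain ⟨m, hm⟩ := mem_zpowers_iff.1 hm
            exact mem_zpowers_iff.2 ⟨m, by simpa [x'] using congrArg Subtype.val hm⟩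
        rw [hmap, hmap]
        constructor
        · rintro ⟨hl, hm⟩
          exact ⟨C.mul_mem (C.mul_mem n.2 hl) (C.inv_mem n.2),
            (Subgroup.mem_normalizer_iff.1 hn _).1 hm⟩
        · rintro ⟨hl, hm⟩
          have hl' : l ∈ C := by
            have := C.mul_mem (C.mul_mem (C.inv_mem n.2) hl) n.2
            simpa [mul_assoc] using this
          exact ⟨hl', (Subgroup.mem_normalizer_iff.1 hn _).2 hm⟩
      have hcx : Commute (n : G) x := mem_cz.1 (heq.ge hnG).2
      exact ((show Commute x' n from Subtype.ext hcx.symm.eq).zpow_left k).eq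
    let φ := MonoidHom.transferSylow P hP
    have h7 : ∀ v : C, orderOf (v : G) = 7 → φ v = 1 := by
      intro v hv
      have h1 : orderOf (φ v) ∣ 7 := by
        refine (orderOf_map_dvd φ v).trans ?_
        rw [← Subgroup.orderOf_coe, hv]
      have h2 : orderOf (φ v) ∣ 3 := by
        have := orderOf_dvd_natCard (G := (P : Subgroup C)) (φ v)
        rwa [show Nat.card (P : Subgroup C) = 3 by rw [hPx, Nat.card_zpowers, hx']] at this
      exact orderOf_eq_one_iff.1 (Nat.dvd_one.1 (by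
        have := Nat.dvd_gcd h1 h2
        norm_num at this ⊢
        exact this))
    have hM : mSub t ≤ φ.ker.map C.subtype := by
      rw [mSub, closure_le]
      intro v hv
      exact ⟨⟨v, hv.2⟩, h7 _ hv.1, rfl⟩
    obtain ⟨y, hy, hyx⟩ := hM (three_mem_mSub L ht hx hxt)
    have hyx' : y = x' := Subtype.ext hyx
    rw [hyx', SetLike.mem_coe, MonoidHom.mem_ker] at hy
    have hpow := MonoidHom.transferSylow_eq_pow P hP x' (by exact mem_zpowers x')
    have h1 : x' ^ (P : Subgroup C).index = 1 := by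
      have := congrArg Subtype.val (hpow.symm.trans hy)
      simpa using this
    have h3 := orderOf_dvd_of_pow_eq_one h1
    rw [hx'] at h3
    exact P.not_dvd_index h3
  refine (Subgroup.eq_of_le_of_card_ge hle ?_).symm
  rw [h12]
  obtain ⟨a, ha⟩ := h12d
  omega

theorem card_twelve (ht : orderOf t = 2) (D : Cd t E) (hx : orderOf x = 3) (hxt : x ∈ cz t) :
    Nat.card (cz t ⊓ cz x : Subgroup G) = 12 := by
  rw [cz_inf_eq L ht D hx hxt, sup_four L ht D hx hxt]

theorem cz_inf_comm (ht : orderOf t = 2) (D : Cd t E) (hx : orderOf x = 3) (hxt : x ∈ cz t)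
    {a b : G} (ha : a ∈ cz t ⊓ cz x) (hb : b ∈ cz t ⊓ cz x) : Commute a b := by
  rw [cz_inf_eq L ht D hx hxt] at ha hb
  have hab : ∀ u ∈ E ⊓ cz x, (E ⊓ cz x) ⊔ zpowers x ≤ cz u := by
    intro u hu
    refine sup_le ?_ (zpowers_le.2 (mem_cz.2 (mem_cz.1 hu.2).symm))
    intro v hv
    have h := D.sq (u * v) (mul_mem hu.1 hv.1)
    refine mem_cz.2 ?_
    have hu2 := D.sq u hu.1
    have hv2 := D.sq v hv.1
    calc v * u = (u * u) * (v * u) * (v * v) := by rw [hu2, hv2, one_mul, mul_one]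
      _ = u * (u * v * (u * v)) * v := by group
      _ = u * v := by rw [h, mul_one]
  have hle : (E ⊓ cz x) ⊔ zpowers x ≤ cz b := by
    refine sup_le (fun v hv => mem_cz.2 (mem_cz.1 (hab v hv hb)).symm) (zpowers_le.2 ?_)
    rw [← cz_inf_eq L ht D hx hxt] at hb
    exact mem_cz.2 (mem_cz.1 hb.2).symm
  exact mem_cz.1 (hle ha)

/-- The 2-elements commuting with `t` and `x` form `E ∩ cz x`. -/
theorem two_mem_four (ht : orderOf t = 2) (D : Cd t E) (hx : orderOf x = 3) (hxt : x ∈ cz t)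
    {g : G} (hgt : g ∈ cz t) (hgx : g ∈ cz x) {k : ℕ} (hk : g ^ (2 ^ k) = 1) : g ∈ E := by
  haveI := Fact.mk Nat.prime_two
  set V := E ⊓ cz x with hV
  have hn : zpowers g ≤ normalizer (V : Set G) := by
    refine zpowers_le.2 (Nrm.le_normalizer (C := cz t ⊓ cz x) ?_ ⟨hgt, hgx⟩)
    intro c hc l hl
    rw [(cz_inf_comm L ht D hx hxt hc ⟨D.le hl.1, hl.2⟩).eq, mul_inv_cancel_right]
    exact hl
  have hg2 : IsPGroup 2 (zpowers g) := by
    obtain ⟨j, -, hj⟩ := (Nat.dvd_prime_pow Nat.prime_two).1 (orderOf_dvd_of_pow_eq_one hk)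
    exact IsPGroup.of_card (by rw [Nat.card_zpowers, hj])
  have hP := isPGroup_sup (IsPGroup.of_card (n := 2) (card_four L ht D hx hxt)) hg2 hn
  obtain ⟨j, hj⟩ := hP.exists_card_eq
  have hle : V ⊔ zpowers g ≤ cz t ⊓ cz x :=
    sup_le (inf_le_inf_right _ D.le) (zpowers_le.2 ⟨hgt, hgx⟩)
  have hd := Subgroup.card_dvd_of_le hle
  rw [card_twelve L ht D hx hxt, hj] at hd
  have hj2 : j ≤ 2 := by
    by_contra h
    have h8 := (pow_dvd_pow 2 (show 3 ≤ j by omega)).trans hd
    norm_num at h8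
  have heq : V = V ⊔ zpowers g := Subgroup.eq_of_le_of_card_ge le_sup_left (by
    rw [hj, card_four L ht D hx hxt]
    exact (Nat.pow_le_pow_right (by norm_num) hj2).trans (by norm_num))
  exact (heq.ge (mem_sup_right (mem_zpowers g))).1

end H91.M23R
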